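import Cfsg.Agent.Lib.SymEightThree.Trivial.Defs
import Cfsg.Agent.Lib.SelfCentThree.Main
import Cfsg.Agent.S1004
import Cfsg.Agent.S1005

/-!
The centraliser of the elementary subgroup of order eight: either all of it is covered by that subgroup
and elements of odd order, or every element inverted by `eP` comes from a conjugate of `eP`.
-/

set_option autoImplicit false

namespace CfsgLib.SymEightThree

open Equiv
open scoped Pointwise

namespace CFAux

/-- The four-group generated by `(0 1)` and `(3 4)`. -/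
def ea (i : Fin 4) : Perm (Fin 5) := ![1, a5, r5, b5] i

/-- The four-group on the points other than `4`. -/
def e4 (i : Fin 4) : Perm (Fin 5) :=
  ![1, swap 0 1 * swap 2 3, swap 0 2 * swap 1 3, swap 0 3 * swap 1 2] i

/-- The normaliser part of order six. -/
def dih (σ : Perm (Fin 5)) (n : Fin 6) : Perm (Fin 5) := c5 ^ ((n : ℕ) % 3) * σ ^ ((n : ℕ) / 3)

theorem ea_closed : ∀ i j, ∃ k, ea i * ea j = ea k := by decide +kernel

theorem ea_inv : ∀ i, (ea i)⁻¹ = ea i ∧ ea i * a5 = a5 * ea i ∧ ea i * r5 = r5 * ea i ∧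
    ea i * ea i = 1 ∧ (∃ k, p5 * ea i * p5 = ea k) := by decide +kernel

theorem ea_injective : Function.Injective ea := by
  have h : ∀ i j, ea i = ea j → i = j := by decide +kernel
  exact fun i j e => h i j e

theorem ea_fixed : ∀ i, ea i * (p5 * ea i * p5) = 1 → ea i = 1 ∨ ea i = b5 := by decide +kernel

theorem ea_two : ∀ i, p5 * ea i * p5 = ea i → i = 0 ∨ i = 3 := by decide +kernel

theorem e4_closed : ∀ i j, ∃ k, e4 i * e4 j = e4 k := by decide +kernel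

theorem e4_inv : ∀ i, ∃ k, (e4 i)⁻¹ = e4 k := by decide +kernel

set_option maxRecDepth 4000 in
theorem fourSet_four_cases : ∀ x : Perm (Fin 5), x * x = 1 → x 4 = 4 → Perm.sign x = 1 →
    ∃ i, x = e4 i := by
  decide +kernel

theorem e4_conj : ∀ i, swap 2 4 * e4 i * swap 2 4 * a5 = a5 * (swap 2 4 * e4 i * swap 2 4) →
    swap 2 4 * e4 i * swap 2 4 = 1 ∨ swap 2 4 * e4 i * swap 2 4 = b5 := by decide +kernel

theorem dih_data (σ : Perm (Fin 5)) (hσ : σ = a5 ∨ σ = b5) :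
    (∀ m n, ∃ k, dih σ m * dih σ n = dih σ k) ∧ (∀ m, ∃ k, (dih σ m)⁻¹ = dih σ k) ∧
    (∀ m, dih σ m = 1 ∨ dih σ m = c5 ∨ dih σ m = c5⁻¹ ∨
      dih σ m * c5 * (dih σ m)⁻¹ * c5⁻¹ = c5) ∧
    (∀ m, dih σ m * σ = σ * dih σ m → dih σ m = 1 ∨ dih σ m = σ) ∧
    c5 = dih σ 1 ∧ σ = dih σ 3 ∧ σ * σ = 1 ∧ σ ≠ 1 ∧ σ * c5 * σ * c5 = 1 := by
  rcases hσ with e | e <;> subst e <;>
    refine ⟨?_, ?_, ?_, ?_, ?_, ?_, ?_, ?_, ?_⟩ <;> decide +kernel

theorem p5_data : p5 * p5 = 1 ∧ p5 * a5 * p5 = r5 ∧ p5 * r5 * p5 = a5 ∧ a5 * r5 = b5 ∧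
    swap 2 4 * (swap 2 4 : Perm (Fin 5)) = 1 ∧ c5 ^ 3 = 1 ∧ c5 ≠ 1 ∧ b5 * r5 = a5 ∧
    swap 2 4 * p5 * swap 2 4 = e4 3 ∧ swap 2 4 * b5 * swap 2 4 = e4 1 ∧
    e4 2 = e4 1 * e4 3 ∧ e4 0 = 1 := by
  refine ⟨?_, ?_, ?_, ?_, ?_, ?_, ?_, ?_, ?_, ?_, ?_, ?_⟩ <;> decide +kernel

set_option maxRecDepth 4000 in
theorem s5_center : ∀ u : Perm (Fin 5), u * swap 0 1 = swap 0 1 * u → u * swap 1 2 = swap 1 2 * u →
    u * swap 2 3 = swap 2 3 * u → u * swap 3 4 = swap 3 4 * u → u = 1 := by decide +kernel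

set_option maxRecDepth 4000 in
theorem s5_cent : ∀ u : Perm (Fin 5), u * a5 = a5 * u → u * r5 = r5 * u → ∃ i, u = ea i := by
  decide +kernel

theorem s3_normal : ∀ h : Perm (Fin 3), h ≠ 1 → ∃ c : Perm (Fin 3),
    h ^ 3 = 1 ∨ ((h * (c * h⁻¹ * c⁻¹)) ^ 3 = 1 ∧ h * (c * h⁻¹ * c⁻¹) ≠ 1) := by decide +kernel

theorem s3_cent : ∀ t g : Perm (Fin 3), t * t = 1 → t ≠ 1 → t * g = g * t → g = 1 ∨ g = t := by
  decide +kernel

open CfsgLib.SelfCentThree in
set_option maxRecDepth 4000 in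
theorem a5_count : ∀ t : A5, t * t = 1 → t ≠ 1 →
    Fintype.card {k : A5 // k * t = t * k} ≤
      2 * Fintype.card {k : A5 // k * t = t * k ∧ k * k = 1 ∧ k ≠ 1 ∧ k ≠ t} := by decide +kernel

theorem d8_count : ∀ t : DihedralGroup 4,
    4 ≤ Fintype.card {k : DihedralGroup 4 // k * k = 1 ∧ k ≠ 1 ∧ k ≠ t} := by decide +kernel

theorem orderOf_two {K : Type*} [Group K] {t : K} (h : t * t = 1) (h1 : t ≠ 1) : orderOf t = 2 :=
  haveI : Fact (Nat.Prime 2) := ⟨Nat.prime_two⟩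
  orderOf_eq_prime (by rw [sq]; exact h) h1

open CfsgLib.SelfCentThree in
/-- The two simple groups have one class of involutions and many involutions in a centraliser. -/
theorem simple_data {K : Type*} [Group K] [Finite K] [IsSimpleGroup K]
    (hK : Nat.card K = 60 ∨ Nat.card K = 168) (t : K) (ht : t * t = 1) (ht1 : t ≠ 1) :
    (∀ s : K, s * s = 1 → s ≠ 1 → IsConj t s) ∧
      Nat.card {k : K // Commute k t} ≤
        2 * Nat.card {k : K // Commute k t ∧ k * k = 1 ∧ k ≠ 1 ∧ k ≠ t} := by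
  rcases hK with hK | hK
  · obtain ⟨e⟩ := Cfsg.Agent.S0494.result hK
    have e1 : ∀ {s : K}, s ≠ 1 → e s ≠ 1 := fun hs h => hs (e.injective (h.trans (map_one e).symm))
    have e2 : ∀ {s : K}, s * s = 1 → e s * e s = 1 := fun hs => by rw [← map_mul, hs, map_one]
    refine ⟨fun s hs hs1 => ?_, ?_⟩
    · obtain ⟨c, hc⟩ := a5_isConj (e t) (e s) (e2 ht) (e1 ht1) (e2 hs) (e1 hs1)
      refine isConj_iff.2 ⟨e.symm c, e.injective ?_⟩
      rw [map_mul, map_mul, map_inv, e.apply_symm_apply, hc, mul_inv_cancel_right]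
    · have h := a5_count (e t) (e2 ht) (e1 ht1)
      rw [← Nat.card_eq_fintype_card, ← Nat.card_eq_fintype_card] at h
      have c1 : Nat.card {k : K // Commute k t} = Nat.card {k : A5 // k * e t = e t * k} :=
        Nat.card_congr (e.toEquiv.subtypeEquiv fun k => by
          show Commute k t ↔ e k * e t = e t * e k
          rw [← map_mul, ← map_mul, e.injective.eq_iff]; exact Iff.rfl)
      have c2 : Nat.card {k : K // Commute k t ∧ k * k = 1 ∧ k ≠ 1 ∧ k ≠ t} =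
          Nat.card {k : A5 // k * e t = e t * k ∧ k * k = 1 ∧ k ≠ 1 ∧ k ≠ e t} :=
        Nat.card_congr (e.toEquiv.subtypeEquiv fun k => by
          show Commute k t ∧ k * k = 1 ∧ k ≠ 1 ∧ k ≠ t ↔
            e k * e t = e t * e k ∧ e k * e k = 1 ∧ e k ≠ 1 ∧ e k ≠ e t
          rw [← map_mul, ← map_mul, ← map_mul, e.injective.eq_iff, ne_eq (e k), ne_eq (e k),
            e.map_eq_one_iff, e.map_eq_one_iff, e.injective.eq_iff]
          exact Iff.rfl)
      rw [c1, c2]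
      exact h
  · haveI : Fact (Nat.Prime 2) := ⟨Nat.prime_two⟩
    obtain ⟨-, -, hconj⟩ := Cfsg.Agent.S1005.result hK
    have ho := orderOf_two ht ht1
    refine ⟨fun s hs hs1 => hconj t s ho (orderOf_two hs hs1), ?_⟩
    obtain ⟨T0⟩ : Nonempty (Sylow 2 K) := inferInstance
    obtain ⟨⟨e0⟩, -, -⟩ := Cfsg.Agent.S1004.result hK T0
    -- a central involution of a Sylow subgroup
    let z0 : DihedralGroup 4 := DihedralGroup.r 2
    have hz0 : z0 * z0 = 1 ∧ z0 ≠ 1 ∧ ∀ d, d * z0 = z0 * d := by decide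
    let z : K := ((e0.symm z0 : ↥(T0 : Subgroup K)) : K)
    have hzz : z * z = 1 := by
      show ((e0.symm z0 * e0.symm z0 : ↥(T0 : Subgroup K)) : K) = 1
      rw [← map_mul, hz0.1, map_one]; rfl
    have hz1 : z ≠ 1 := fun h => hz0.2.1 (e0.symm.injective (Subtype.ext (by rw [map_one]; exact h)))
    obtain ⟨c, hc⟩ := isConj_iff.1 (hconj z t (orderOf_two hzz hz1) ho)
    obtain ⟨⟨eT⟩, -, hcent⟩ := Cfsg.Agent.S1004.result hK (MulAut.conj c • T0 : Sylow 2 K)
    have hmem : ∀ u : K, u ∈ ((MulAut.conj c • T0 : Sylow 2 K) : Subgroup K) ↔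
        c⁻¹ * u * c ∈ (T0 : Subgroup K) := by
      intro u
      show u ∈ MulAut.conj c • (T0 : Subgroup K) ↔ _
      rw [Subgroup.mem_pointwise_smul_iff_inv_smul_mem]
      simp [MulAut.smul_def]
    have htT : t ∈ ((MulAut.conj c • T0 : Sylow 2 K) : Subgroup K) := by
      rw [hmem, ← hc, show c⁻¹ * (c * z * c⁻¹) * c = z by group]
      exact SetLike.coe_mem _
    have hcen : ∀ u ∈ ((MulAut.conj c • T0 : Sylow 2 K) : Subgroup K), u * t = t * u := by
      intro u hu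
      have h := hz0.2.2 (e0 ⟨_, (hmem u).1 hu⟩)
      have h' : (c⁻¹ * u * c) * z = z * (c⁻¹ * u * c) := by
        have := congrArg (fun d => ((e0.symm d : ↥(T0 : Subgroup K)) : K)) h
        simpa [z] using this
      rw [← hc]
      calc u * (c * z * c⁻¹) = c * ((c⁻¹ * u * c) * z) * c⁻¹ := by group
        _ = c * (z * (c⁻¹ * u * c)) * c⁻¹ := by rw [h']
        _ = c * z * c⁻¹ * u := by group
    have hCT := hcent t htT ht1 hcen
    have h8 : Nat.card {k : K // Commute k t} = 8 := by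
      have : Nat.card {k : K // Commute k t} = Nat.card (Subgroup.centralizer ({t} : Set K)) :=
        Nat.card_congr (Equiv.subtypeEquivRight fun k => by
          rw [Subgroup.mem_centralizer_singleton_iff]; exact Iff.rfl)
      rw [this, hCT, Nat.card_congr eT.toEquiv, Nat.card_eq_fintype_card, DihedralGroup.card]
    let F : {d : DihedralGroup 4 // d * d = 1 ∧ d ≠ 1 ∧ d ≠ eT ⟨t, htT⟩} →
        {k : K // Commute k t ∧ k * k = 1 ∧ k ≠ 1 ∧ k ≠ t} := fun d =>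
      ⟨(eT.symm d.1 : K), hcen _ (SetLike.coe_mem _),
        by
          show ((eT.symm d.1 * eT.symm d.1 : ↥((MulAut.conj c • T0 : Sylow 2 K) : Subgroup K)) : K) = 1
          rw [← map_mul, d.2.1, map_one]; rfl,
        fun h => d.2.2.1 (eT.symm.injective (Subtype.ext (by rw [map_one]; exact h))),
        fun h => d.2.2.2 (eT.symm.injective (by rw [eT.symm_apply_apply]; exact Subtype.ext h))⟩
    have hF : Function.Injective F := fun a b h =>
      Subtype.ext (eT.symm.injective (Subtype.ext (congrArg (fun z => (z.1 : K)) h)))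
    have h4 := Nat.card_le_card_of_injective F hF
    rw [Nat.card_eq_fintype_card] at h4
    have := d8_count (eT ⟨t, htT⟩)
    omega

end CFAux

namespace Base

open CFAux

variable {G : Type*} [Group G] (b : Base G)

theorem φψ_comm (m : Fin 6) (u : Perm (Fin 5)) : Commute (b.ψ (dih b.σ m)) (b.φ u) := by
  rw [dih, map_mul, map_pow, map_pow]
  exact ((b.ψc_comm u).pow_left _).mul_left ((b.ψσ_comm u).pow_left _)

theorem eq_one_of_ψ_eq_φ {m : Fin 6} {u : Perm (Fin 5)} (h : b.ψ (dih b.σ m) = b.φ u) :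
    u = 1 := by
  have hc : ∀ w, u * w = w * u := fun w => b.inj (by
    rw [map_mul, map_mul, ← h]; exact (b.φψ_comm m w).eq)
  exact s5_center u (hc _) (hc _) (hc _) (hc _)

/-- What commutes with the four-group generated by `eX` and `eP`, and with `eA`. -/
theorem cent_axp (hU : b.Trivial) {g : G} (ha : Commute g b.eA) (hx : Commute g b.eX)
    (hp : Commute g b.eP) :
    ∃ u, (u = 1 ∨ u = b5) ∧ ∃ m, g = b.φ u * b.ψ (dih b.σ m) := by
  obtain ⟨-, -, -, -, hη, -, -, -, hηp, hηx, e2, e0⟩ := p5_data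
  obtain ⟨hd, hdi, -, -, hd1, hd3, -⟩ := dih_data b.σ b.σ_cases
  have hηη : b.φ (swap 2 4) * b.φ (swap 2 4) = 1 := by rw [← map_mul, hη, map_one]
  have hinv : (b.φ (swap 2 4))⁻¹ = b.φ (swap 2 4) := inv_eq_of_mul_eq_one_right hηη
  set h : G := b.φ (swap 2 4) * g * b.φ (swap 2 4) with hh
  have hconj : ∀ v, Commute g (b.φ v) → Commute h (b.φ (swap 2 4 * v * swap 2 4)) := fun v hv => by
    have := hv.map (MulAut.conj (b.φ (swap 2 4))).toMonoidHom
    simpa [MulAut.conj_apply, hinv, map_mul, hh] using this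
  have h1 : Commute h (b.φ (e4 1)) := hηx ▸ hconj _ hx
  have h3 : Commute h (b.φ (e4 3)) := hηp ▸ hconj _ hp
  have hmem : h ∈ Subgroup.centralizer (b.φ '' fourSet 4) := by
    rw [Subgroup.mem_centralizer_iff]
    rintro _ ⟨y, ⟨y2, ys, y4⟩, rfl⟩
    obtain ⟨i, rfl⟩ := fourSet_four_cases y (by rw [← sq]; exact y2) y4 ys
    fin_cases i
    · simp [e0]
    · exact h1.symm.eq
    · show b.φ (e4 2) * h = h * b.φ (e4 2)
      rw [e2, map_mul]; exact (h1.mul_right h3).symm.eq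
    · exact h3.symm.eq
  obtain ⟨i, m, hm⟩ : ∃ i m, h = b.φ (e4 i) * b.ψ (dih b.σ m) := by
    refine Subgroup.closure_induction (p := fun h _ => ∃ i m, h = b.φ (e4 i) * b.ψ (dih b.σ m))
      ?_ ?_ ?_ ?_ (hU hmem)
    · rintro x (⟨y, ⟨y2, ys, y4⟩, rfl⟩ | hx | hx)
      · obtain ⟨i, rfl⟩ := fourSet_four_cases y (by rw [← sq]; exact y2) y4 ys
        exact ⟨i, 0, by simp [dih]⟩
      · exact ⟨0, 1, by rw [hx, e0, map_one, one_mul, ← hd1]⟩
      · rw [Set.mem_singleton_iff] at hx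
        exact ⟨0, 3, by rw [hx, e0, map_one, one_mul, ← hd3]⟩
    · exact ⟨0, 0, by simp [e0, dih]⟩
    · rintro x y _ _ ⟨i, m, rfl⟩ ⟨j, n, rfl⟩
      obtain ⟨k, hk⟩ := e4_closed i j
      obtain ⟨l, hl⟩ := hd m n
      refine ⟨k, l, ?_⟩
      rw [← hk, ← hl, map_mul, map_mul]
      exact (b.φψ_comm m (e4 j)).mul_mul_mul_comm _ _
    · rintro x _ ⟨i, m, rfl⟩
      obtain ⟨k, hk⟩ := e4_inv i
      obtain ⟨l, hl⟩ := hdi m
      refine ⟨k, l, ?_⟩
      rw [← hk, ← hl, map_inv, map_inv, mul_inv_rev]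
      exact ((b.φψ_comm m (e4 i)).inv_inv).eq
  have hg : g = b.φ (swap 2 4 * e4 i * swap 2 4) * b.ψ (dih b.σ m) := by
    have e : g = b.φ (swap 2 4) * h * b.φ (swap 2 4) := by
      rw [hh]; simp only [mul_assoc, hηη, mul_one]; rw [← mul_assoc, hηη, one_mul]
    rw [e, hm, map_mul, map_mul, mul_assoc, mul_assoc, (b.φψ_comm m _).eq, ← mul_assoc, ← mul_assoc]
  refine ⟨_, e4_conj i (b.inj ?_), m, hg⟩
  have hc : Commute (g * (b.ψ (dih b.σ m))⁻¹) b.eA := ha.mul_left (b.φψ_comm m _).inv_left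
  rw [hg, mul_inv_cancel_right] at hc
  rw [map_mul _ _ a5, map_mul _ a5]
  exact hc.eq

/-- The centraliser of `eA` and `eJ`. -/
def CC : Subgroup G := Subgroup.centralizer {b.eA, b.eJ}

theorem mem_CC {g : G} : g ∈ b.CC ↔ Commute g b.eA ∧ Commute g b.eJ := by
  rw [CC, Subgroup.mem_centralizer_iff]
  simp only [Set.mem_insert_iff, Set.mem_singleton_iff, forall_eq_or_imp, forall_eq]
  exact ⟨fun h => ⟨h.1.symm, h.2.symm⟩, fun h => ⟨h.1.symm.eq, h.2.symm.eq⟩⟩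

theorem mem_CF {g : G} : g ∈ b.CF ↔ g ∈ b.CC ∧ Commute g b.eT := by
  rw [mem_CC, CF, Subgroup.mem_centralizer_iff]
  simp only [Set.mem_insert_iff, Set.mem_singleton_iff, forall_eq_or_imp, forall_eq]
  exact ⟨fun h => ⟨⟨h.2.1.symm, h.2.2.symm⟩, h.1.symm⟩,
    fun h => ⟨h.2.symm.eq, h.1.1.symm.eq, h.1.2.symm.eq⟩⟩

theorem eX_comm {g : G} (hg : g ∈ b.CC) : Commute g b.eX := by
  obtain ⟨ha, hj⟩ := b.mem_CC.1 hg
  obtain ⟨-, -, -, h, -⟩ := p5_data
  rw [eX, ← h, map_mul]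
  exact ha.mul_right hj

theorem ea_mem (i : Fin 4) : b.φ (ea i) ∈ b.CC := by
  obtain ⟨-, ha, hr, -⟩ := ea_inv i
  exact b.mem_CC.2 ⟨by rw [Commute, SemiconjBy, ← map_mul, ← map_mul, ha],
    by rw [Commute, SemiconjBy, ← map_mul, ← map_mul, hr]⟩

theorem dih_mem (m : Fin 6) : b.ψ (dih b.σ m) ∈ b.CC :=
  b.mem_CC.2 ⟨b.φψ_comm m _, b.φψ_comm m _⟩

theorem ea_comm {g : G} (hg : g ∈ b.CC) (i : Fin 4) : Commute g (b.φ (ea i)) := by
  fin_cases i
  · simp [ea]
  · exact (b.mem_CC.1 hg).1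
  · exact (b.mem_CC.1 hg).2
  · exact b.eX_comm hg

/-- The four-group generated by `eA` and `eJ`, inside its centraliser. -/
def AA : Subgroup b.CC where
  carrier := {c | ∃ i, (c : G) = b.φ (ea i)}
  mul_mem' := by
    rintro c d ⟨i, hi⟩ ⟨j, hj⟩
    obtain ⟨k, hk⟩ := ea_closed i j
    exact ⟨k, by rw [Subgroup.coe_mul, hi, hj, ← map_mul, hk]⟩
  one_mem' := ⟨0, by simp [ea]⟩
  inv_mem' := by
    rintro c ⟨i, hi⟩
    exact ⟨i, by rw [Subgroup.coe_inv, hi, ← map_inv, (ea_inv i).1]⟩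

theorem mem_AA {c : b.CC} (i : Fin 4) (h : (c : G) = b.φ (ea i)) : c ∈ b.AA := ⟨i, h⟩

instance AA_normal : b.AA.Normal := ⟨fun a ⟨i, hi⟩ c => ⟨i, by
  rw [Subgroup.coe_mul, Subgroup.coe_mul, Subgroup.coe_inv, hi, (b.ea_comm c.2 i).eq,
    mul_inv_cancel_right]⟩⟩

theorem cf_eP_sq : b.eP * b.eP = 1 := by rw [← map_mul, p5_data.1, map_one]

theorem cf_eP_inv : (b.eP)⁻¹ = b.eP := inv_eq_of_mul_eq_one_right b.cf_eP_sq

/-- Conjugation by `eP`. -/
def pC : b.CC →* b.CC where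
  toFun c := ⟨b.eP * (c : G) * b.eP, by
    obtain ⟨ha, hj⟩ := b.mem_CC.1 c.2
    obtain ⟨-, hpa, hpr, -⟩ := p5_data
    refine b.mem_CC.2 ⟨?_, ?_⟩
    · have := hj.map (MulAut.conj b.eP).toMonoidHom
      simpa [MulAut.conj_apply, b.cf_eP_inv, ← map_mul, hpr] using this
    · have := ha.map (MulAut.conj b.eP).toMonoidHom
      simpa [MulAut.conj_apply, b.cf_eP_inv, ← map_mul, hpa] using this⟩
  map_one' := Subtype.ext (by simp [b.cf_eP_sq])
  map_mul' c d := Subtype.ext (by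
    simp only [Subgroup.coe_mul, mul_assoc]
    rw [← mul_assoc b.eP b.eP, b.cf_eP_sq, one_mul])

theorem pC_coe (c : b.CC) : (b.pC c : G) = b.eP * (c : G) * b.eP := rfl

theorem pC_pC (c : b.CC) : b.pC (b.pC c) = c := Subtype.ext (by
  simp only [pC_coe, mul_assoc, b.cf_eP_sq, mul_one]
  rw [← mul_assoc, b.cf_eP_sq, one_mul])

theorem AA_le_comap : b.AA ≤ b.AA.comap b.pC := by
  rintro c ⟨i, hi⟩
  obtain ⟨-, -, -, -, k, hk⟩ := ea_inv i
  exact ⟨k, by rw [pC_coe, hi, ← map_mul, ← map_mul, hk]⟩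

/-- The involutory automorphism of the quotient. -/
def pK : b.CC ⧸ b.AA →* b.CC ⧸ b.AA := QuotientGroup.map _ _ b.pC b.AA_le_comap

theorem pK_mk (c : b.CC) : b.pK (c : b.CC ⧸ b.AA) = (b.pC c : b.CC ⧸ b.AA) :=
  QuotientGroup.map_mk _ _ _ _ c

theorem pK_pK (k : b.CC ⧸ b.AA) : b.pK (b.pK k) = k := by
  obtain ⟨c, rfl⟩ := QuotientGroup.mk_surjective k
  rw [pK_mk, pK_mk, pC_pC]

/-- The image of an element of the normaliser part. -/
def dK (m : Fin 6) : b.CC ⧸ b.AA := ((⟨_, b.dih_mem m⟩ : b.CC) : b.CC ⧸ b.AA)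

theorem dK_eq_one {m : Fin 6} (h : b.dK m = 1) : dih b.σ m = 1 := by
  obtain ⟨i, hi⟩ := (QuotientGroup.eq_one_iff _).1 h
  have := b.eq_one_of_ψ_eq_φ (m := m) hi
  exact b.ψ_injective (by rw [map_one]; exact hi.trans (by rw [this, map_one]))

theorem pK_fixed (hU : b.Trivial) {k : b.CC ⧸ b.AA} (hk : b.pK k = k) : ∃ m, k = b.dK m := by
  obtain ⟨c, rfl⟩ := QuotientGroup.mk_surjective k
  rw [pK_mk] at hk
  obtain ⟨i, hi⟩ := (QuotientGroup.eq).1 hk.symm
  have hc : (b.pC c : G) = (c : G) * b.φ (ea i) := by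
    rw [Subgroup.coe_mul, Subgroup.coe_inv] at hi
    rw [← hi, mul_inv_cancel_left]
  have hfix : b.φ (ea i * (p5 * ea i * p5)) = 1 := by
    have h2 := congrArg Subtype.val (b.pC_pC c)
    rw [pC_coe, hc] at h2
    have h3 : b.eP * ((c : G) * b.φ (ea i)) * b.eP =
        (b.pC c : G) * (b.eP * b.φ (ea i) * b.eP) := by
      rw [pC_coe]; simp only [mul_assoc]
      rw [← mul_assoc b.eP b.eP, b.cf_eP_sq, one_mul]
    rw [h3, hc, mul_assoc] at h2
    have := mul_eq_left.1 h2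
    simpa [eP, map_mul, mul_assoc] using this
  obtain ⟨j, hj, hjP⟩ : ∃ j, (((c * ⟨_, b.ea_mem j⟩ : b.CC) : b.CC ⧸ b.AA) = c) ∧
      Commute ((c * ⟨_, b.ea_mem j⟩ : b.CC) : G) b.eP := by
    have hq : ∀ j, ((c * ⟨_, b.ea_mem j⟩ : b.CC) : b.CC ⧸ b.AA) = c := fun j => by
      rw [QuotientGroup.mk_mul, (QuotientGroup.eq_one_iff (⟨_, b.ea_mem j⟩ : b.CC)).2 (b.mem_AA j rfl),
        mul_one]
    rcases ea_fixed i (b.inj (hfix.trans (map_one b.φ).symm)) with e | e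
    · refine ⟨0, hq 0, ?_⟩
      rw [e, map_one, mul_one, pC_coe] at hc
      have h0 : ((c * ⟨_, b.ea_mem 0⟩ : b.CC) : G) = c := by simp [ea]
      rw [h0, Commute, SemiconjBy]
      conv_lhs => rw [← hc]
      simp [mul_assoc, b.cf_eP_sq]
    · refine ⟨1, hq 1, ?_⟩
      rw [e, pC_coe] at hc
      have h0 : ((c * ⟨_, b.ea_mem 1⟩ : b.CC) : G) = (c : G) * b.φ a5 := by simp [ea]
      obtain ⟨-, hpa, -, -, -, -, -, hbr, -⟩ := p5_data
      have h1 : b.eP * ((c : G) * b.φ a5) * b.eP = (c : G) * b.φ a5 := by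
        calc b.eP * ((c : G) * b.φ a5) * b.eP
            = (b.eP * (c : G) * b.eP) * (b.eP * b.φ a5 * b.eP) := by
              simp only [mul_assoc]; rw [← mul_assoc b.eP b.eP, b.cf_eP_sq, one_mul]
          _ = (c : G) * b.φ (b5 * r5) := by
              rw [hc, ← map_mul, ← map_mul, hpa, map_mul _ b5, mul_assoc]
          _ = (c : G) * b.φ a5 := by rw [hbr]
      rw [h0, Commute, SemiconjBy]
      conv_lhs => rw [← h1]
      simp [mul_assoc, b.cf_eP_sq]
  obtain ⟨u, hu, m, hm⟩ :=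
    b.cent_axp hU (b.mem_CC.1 (c * ⟨_, b.ea_mem j⟩ : b.CC).2).1 (b.eX_comm (SetLike.coe_mem _)) hjP
  refine ⟨m, ?_⟩
  rw [← hj, dK]
  refine QuotientGroup.eq.2 ?_
  obtain ⟨l, hl⟩ : ∃ l, u = ea l := by rcases hu with rfl | rfl; exacts [⟨0, rfl⟩, ⟨3, rfl⟩]
  refine ⟨l, ?_⟩
  rw [Subgroup.coe_mul, Subgroup.coe_inv, hm, mul_inv_rev, ← map_inv b.φ, hl, (ea_inv l).1,
    mul_assoc, ← (b.φψ_comm m (ea l)).eq, inv_mul_cancel_left]

theorem fixed_CF' (hU : b.Trivial) {g : G} (hg : g ∈ b.CF) (hp : Commute g b.eP) :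
    g = 1 ∨ g = b.eT ∨ g = b.eX ∨ g = b.eT * b.eX := by
  obtain ⟨hgC, hgT⟩ := b.mem_CF.1 hg
  obtain ⟨u, hu, m, rfl⟩ := b.cent_axp hU (b.mem_CC.1 hgC).1 (b.eX_comm hgC) hp
  have hm : Commute (b.ψ (dih b.σ m)) b.eT := by
    have := ((b.ψσ_comm u).symm.inv_left).mul_left hgT
    rwa [inv_mul_cancel_left] at this
  obtain ⟨-, -, -, hfix, -⟩ := dih_data b.σ b.σ_cases
  rcases hfix m (b.ψ_injective (by rw [map_mul, map_mul]; exact hm.eq)) with e | e <;>
    rcases hu with rfl | rfl <;> rw [e]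
  · left; simp
  · right; right; left; simp
  · right; left; simp
  · right; right; right; exact ((b.ψσ_comm b5).eq).symm

/-- The image of `eZ`. -/
abbrev kZ : b.CC ⧸ b.AA := b.dK 1

/-- The image of `eT`. -/
abbrev kT : b.CC ⧸ b.AA := b.dK 3

theorem sc_kZ : CfsgLib.SelfCentThree.SC b.kZ := by
  obtain ⟨-, -, -, -, hd1, -⟩ := dih_data b.σ b.σ_cases
  obtain ⟨-, -, -, -, -, hc3, hc1, -⟩ := p5_data
  haveI : Fact (Nat.Prime 3) := ⟨Nat.prime_three⟩
  refine ⟨orderOf_eq_prime ?_ fun h => hc1 (hd1.trans (b.dK_eq_one h)), fun k hk => ?_⟩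
  · rw [kZ, dK, ← QuotientGroup.mk_pow, QuotientGroup.eq_one_iff]
    refine ⟨0, ?_⟩
    rw [Subgroup.coe_pow, ← map_pow, ← hd1, hc3, map_one]
    simp [ea]
  · obtain ⟨c, rfl⟩ := QuotientGroup.mk_surjective k
    rw [kZ, dK, ← QuotientGroup.mk_mul, ← QuotientGroup.mk_mul, QuotientGroup.eq] at hk
    obtain ⟨i, hi⟩ := hk
    have hzc : b.eZ * (c : G) = (c : G) * b.eZ * b.φ (ea i) := by
      rw [← hi]; simp [← hd1, mul_assoc]
    have hne : b.φ (ea i) = 1 := by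
      have hz : b.eZ ^ 3 = 1 := by rw [← map_pow, hc3, map_one]
      have h1 : (c : G)⁻¹ * b.eZ * c = b.eZ * b.φ (ea i) := by
        rw [mul_assoc, hzc, ← mul_assoc, inv_mul_cancel_left]
      have h2 : ((c : G)⁻¹ * b.eZ * (c : G)) ^ 3 = (b.eZ * b.φ (ea i)) ^ 3 := by rw [h1]
      rw [(b.ψc_comm (ea i)).mul_pow, hz, one_mul] at h2
      have h3 : ((c : G)⁻¹ * b.eZ * (c : G)) ^ 3 = 1 := by
        calc ((c : G)⁻¹ * b.eZ * (c : G)) ^ 3 = ((c : G)⁻¹ * b.eZ * ((c : G)⁻¹)⁻¹) ^ 3 := by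
              rw [inv_inv]
          _ = 1 := by rw [conj_pow, hz]; group
      rw [h3, pow_succ, sq, ← map_mul, (ea_inv i).2.2.2.1, map_one, one_mul] at h2
      exact h2.symm
    rw [hne, mul_one] at hzc
    have hmem : (c : G) ∈ Subgroup.centralizer ({b.g⁻¹ * b.φ c5 * b.g} : Set G) := by
      rw [Subgroup.mem_centralizer_singleton_iff, ← b.ψ_apply]; exact hzc.symm
    obtain ⟨z, hz, f, hf, hzf⟩ : ∃ z ∈ Subgroup.zpowers b.eZ, ∃ f ∈ b.φ.range, z * f = (c : G) := by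
      have h1 : b.φ.range ≤ Subgroup.centralizer (Subgroup.zpowers b.eZ : Set G) := by
        rintro _ ⟨u, rfl⟩
        rw [Subgroup.mem_centralizer_iff]
        rintro _ ⟨n, rfl⟩
        exact ((b.ψc_comm u).zpow_left n).eq
      have h2 := b.centz hmem
      rw [← b.ψ_apply] at h2
      have h3 : (c : G) ∈ ((Subgroup.zpowers b.eZ ⊔ b.φ.range : Subgroup G) : Set G) := h2
      rw [Subgroup.coe_mul_of_right_le_normalizer_left _ _
        (h1.trans (Subgroup.centralizer_le_normalizer _))] at h3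
      obtain ⟨z, hz, f, hf, e⟩ := h3
      exact ⟨z, hz, f, hf, e⟩
    obtain ⟨n, hn⟩ := hz
    obtain ⟨u, rfl⟩ := hf
    subst hn
    have hu : ∀ v, Commute (c : G) (b.φ v) → u * v = v * u := fun v hv => b.inj (by
      have h4 := ((b.ψc_comm v).zpow_left n).inv_left.mul_left hv
      rw [← hzf, inv_mul_cancel_left] at h4
      rw [map_mul, map_mul]; exact h4.eq)
    obtain ⟨j, rfl⟩ := s5_cent u (hu _ (b.mem_CC.1 c.2).1) (hu _ (b.mem_CC.1 c.2).2)
    rw [Subgroup.mem_zpowers_iff]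
    refine ⟨n, ?_⟩
    rw [kZ, dK, ← QuotientGroup.mk_zpow]
    refine QuotientGroup.eq.2 ⟨j, ?_⟩
    have e1 : b.ψ (dih b.σ 1) = b.eZ := by rw [← hd1]
    simp only [Subgroup.coe_mul, Subgroup.coe_inv, Subgroup.coe_zpow, ← hzf, e1, inv_mul_cancel_left]

theorem kT_sq : b.kT * b.kT = 1 ∧ b.kT ≠ 1 ∧ b.pK b.kT = b.kT := by
  obtain ⟨-, -, -, -, -, hd3, hσ2, hσ1, -⟩ := dih_data b.σ b.σ_cases
  refine ⟨?_, fun h => hσ1 (hd3.trans (b.dK_eq_one h)), ?_⟩
  · rw [kT, dK, ← QuotientGroup.mk_mul, QuotientGroup.eq_one_iff]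
    exact ⟨0, by rw [Subgroup.coe_mul, ← map_mul, ← hd3, hσ2, map_one]; simp [ea]⟩
  · rw [kT, dK, pK_mk]
    congr 1
    refine Subtype.ext ?_
    rw [pC_coe, (b.φψ_comm 3 p5).symm.eq, mul_assoc, b.cf_eP_sq, mul_one]

/-- A normal subgroup of order prime to three invariant under the automorphism has odd order. -/
theorem odd_of_invariant [Finite G] (hU : b.Trivial) (N : Subgroup (b.CC ⧸ b.AA)) [hN : N.Normal]
    (h3 : ¬ 3 ∣ Nat.card N) (hinv : ∀ n ∈ N, b.pK n ∈ N) :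
    ∀ n ∈ N, n * n = 1 → n = 1 := by
  have hfix : ∀ n ∈ N, b.pK n = n → n = 1 := by
    intro n hn he
    obtain ⟨m, rfl⟩ := b.pK_fixed hU he
    obtain ⟨-, -, hcase, -, hd1, -⟩ := dih_data b.σ b.σ_cases
    by_contra hne
    have hz : b.kZ ∈ N := by
      rcases hcase m with e | e | e | e
      · exfalso
        refine hne ?_
        rw [dK, QuotientGroup.eq_one_iff]
        exact ⟨0, by show b.ψ (dih b.σ m) = _; rw [e, map_one]; simp [ea]⟩
      · have : b.dK m = b.kZ := by simp only [kZ, dK, e, ← hd1]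
        rwa [← this]
      · have : b.dK m = b.kZ⁻¹ := by
          rw [kZ, dK, dK, ← QuotientGroup.mk_inv]
          congr 1
          exact Subtype.ext (by show b.ψ (dih b.σ m) = (b.ψ (dih b.σ 1))⁻¹; rw [← map_inv, e, ← hd1])
        rw [this] at hn
        exact inv_mem_iff.1 hn
      · have : b.dK m * (b.kZ * (b.dK m)⁻¹ * b.kZ⁻¹) = b.kZ := by
          rw [kZ, dK, dK, ← QuotientGroup.mk_inv, ← QuotientGroup.mk_inv, ← QuotientGroup.mk_mul,
            ← QuotientGroup.mk_mul, ← QuotientGroup.mk_mul]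
          congr 1
          refine Subtype.ext ?_
          simp only [Subgroup.coe_mul, Subgroup.coe_inv, ← map_inv, ← map_mul, ← hd1]
          congr 1
        rw [← this]
        exact mul_mem hn (hN.conj_mem _ (inv_mem hn) b.kZ)
    apply h3
    rw [← b.sc_kZ.order]
    exact Subgroup.orderOf_dvd_natCard N hz
  let f : N → N := fun n => ⟨(n : b.CC ⧸ b.AA)⁻¹ * b.pK n, mul_mem (inv_mem n.2) (hinv _ n.2)⟩
  have hf : Function.Bijective f := by
    rw [Nat.bijective_iff_injective_and_card]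
    refine ⟨fun x y h => ?_, rfl⟩
    have h' : (x : b.CC ⧸ b.AA)⁻¹ * b.pK x = (y : b.CC ⧸ b.AA)⁻¹ * b.pK y := congrArg Subtype.val h
    have h'' : b.pK ((x : b.CC ⧸ b.AA) * (y : b.CC ⧸ b.AA)⁻¹) = x * (y : b.CC ⧸ b.AA)⁻¹ := by
      rw [map_mul, map_inv, mul_inv_eq_iff_eq_mul, mul_assoc, ← h', mul_inv_cancel_left]
    exact Subtype.ext (mul_inv_eq_one.1 (hfix _ (mul_mem x.2 (inv_mem y.2)) h''))
  intro n hn h2
  obtain ⟨⟨e, he⟩, hfe⟩ := hf.2 ⟨n, hn⟩
  have hn' : e⁻¹ * b.pK e = n := congrArg Subtype.val hfe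
  refine hfix n hn ?_
  rw [← hn', map_mul, map_inv, pK_pK]
  rw [show (b.pK e)⁻¹ * e = (e⁻¹ * b.pK e)⁻¹ by group, hn']
  exact inv_eq_of_mul_eq_one_right h2

theorem invariant_of_maximal (N : Subgroup (b.CC ⧸ b.AA)) [hN : N.Normal] [Finite G]
    (h3 : ¬ 3 ∣ Nat.card N)
    (hq : ∀ H : Subgroup ((b.CC ⧸ b.AA) ⧸ N), H.Normal → ¬ 3 ∣ Nat.card H → H = ⊥) :
    ∀ n ∈ N, b.pK n ∈ N := by
  intro n hn
  have hsurj : Function.Surjective b.pK := fun k => ⟨_, b.pK_pK k⟩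
  have hn1 : (N.map b.pK).Normal := hN.map _ hsurj
  have hn2 : ((N.map b.pK).map (QuotientGroup.mk' N)).Normal :=
    hn1.map _ (QuotientGroup.mk'_surjective N)
  have h := hq _ hn2 fun h => h3 (h.trans ((Subgroup.card_map_dvd _ _).trans (Subgroup.card_map_dvd _ _)))
  have hmem : QuotientGroup.mk' N (b.pK n) ∈ (N.map b.pK).map (QuotientGroup.mk' N) :=
    Subgroup.mem_map_of_mem _ (Subgroup.mem_map_of_mem _ hn)
  rw [h, Subgroup.mem_bot] at hmem
  exact (QuotientGroup.eq_one_iff _).1 hmem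

/-- The soluble case. -/
theorem cf_odd_of_typeI [Finite G] (hU : b.Trivial)
    (hI : CfsgLib.SelfCentThree.TypeI (b.CC ⧸ b.AA)) :
    ∀ g ∈ b.CF, ∃ f ∈ b.F, Odd (orderOf (f * g)) := by
  obtain ⟨N, hN, -, hcop, hq⟩ := hI
  haveI := hN
  have h3 : ¬ 3 ∣ Nat.card N := fun h => by
    have := Nat.dvd_gcd h (dvd_refl 3)
    rw [hcop.gcd_eq_one] at this; omega
  obtain ⟨ht2, ht1, -⟩ := b.kT_sq
  have htN : b.kT ∉ N := by
    intro h
    obtain ⟨-, -, hcase, -, hd1, hd3, hσ2, hσ1, hrel⟩ := dih_data b.σ b.σ_cases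
    have hz : b.kT * (b.kZ * b.kT⁻¹ * b.kZ⁻¹) ∈ N := mul_mem h (hN.conj_mem _ (inv_mem h) b.kZ)
    have he : b.kT * (b.kZ * b.kT⁻¹ * b.kZ⁻¹) = b.kZ := by
      rw [kT, kZ, dK, dK, ← QuotientGroup.mk_inv, ← QuotientGroup.mk_inv, ← QuotientGroup.mk_mul,
        ← QuotientGroup.mk_mul, ← QuotientGroup.mk_mul]
      congr 1
      refine Subtype.ext ?_
      simp only [Subgroup.coe_mul, Subgroup.coe_inv, ← map_inv, ← map_mul, ← hd1, ← hd3]
      congr 1
      rcases b.σ_cases with e | e <;> rw [e] <;> decide +kernel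
    rw [he] at hz
    apply h3
    rw [← b.sc_kZ.order]
    exact Subgroup.orderOf_dvd_natCard N hz
  rcases hq with hc | ⟨⟨e⟩⟩
  · exfalso
    refine htN ((QuotientGroup.eq_one_iff _).1 ?_)
    have h1 : orderOf (b.kT : (b.CC ⧸ b.AA) ⧸ N) ∣ 3 := hc ▸ orderOf_dvd_natCard _
    have h2 : orderOf (b.kT : (b.CC ⧸ b.AA) ⧸ N) ∣ 2 := by
      rw [orderOf_dvd_iff_pow_eq_one, ← QuotientGroup.mk_pow, sq, ht2, QuotientGroup.mk_one]
    exact orderOf_eq_one_iff.1 (Nat.dvd_one.1 (Nat.dvd_gcd h1 h2))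
  · have hinv : ∀ n ∈ N, b.pK n ∈ N := b.invariant_of_maximal N h3 fun H hH hH3 => by
      rw [Subgroup.eq_bot_iff_forall]
      intro h hh
      by_contra hne
      obtain ⟨c, hc⟩ := s3_normal (e h) fun h' => hne (e.injective (h'.trans (map_one e).symm))
      have key : ∀ w ∈ H, e w ^ 3 = 1 → e w ≠ 1 → False := fun w hw w3 w1 => by
        haveI : Fact (Nat.Prime 3) := ⟨Nat.prime_three⟩
        have ho : orderOf w = 3 := by rw [← e.orderOf_eq, orderOf_eq_prime w3 w1]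
        exact hH3 (ho ▸ Subgroup.orderOf_dvd_natCard H hw)
      rcases hc with hc | ⟨hc, hc1⟩
      · exact key h hh hc fun h' => hne (e.injective (h'.trans (map_one e).symm))
      · refine key (h * (e.symm c * h⁻¹ * (e.symm c)⁻¹)) (mul_mem hh (hH.conj_mem _ (inv_mem hh) _)) ?_ ?_ <;>
          simpa [map_mul, map_inv]
    have hodd : Odd (Nat.card N) := by
      rw [← Nat.not_even_iff_odd, even_iff_two_dvd]
      intro h
      haveI : Fact (Nat.Prime 2) := ⟨Nat.prime_two⟩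
      obtain ⟨n, hn⟩ := exists_prime_orderOf_dvd_card' 2 h
      have h2 : (n : b.CC ⧸ b.AA) * n = 1 := by
        have := pow_orderOf_eq_one n
        rw [hn, sq] at this
        exact congrArg Subtype.val this
      have : n = 1 := Subtype.ext (b.odd_of_invariant hU N h3 hinv _ n.2 h2)
      rw [this, orderOf_one] at hn
      omega
    intro g hg
    obtain ⟨hgC, hgT⟩ := b.mem_CF.1 hg
    set k : b.CC ⧸ b.AA := ((⟨g, hgC⟩ : b.CC) : b.CC ⧸ b.AA) with hk
    obtain ⟨-, -, -, -, -, hd3, -⟩ := dih_data b.σ b.σ_cases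
    have hTT : (⟨_, b.dih_mem 3⟩ : b.CC) * ⟨g, hgC⟩ = ⟨g, hgC⟩ * ⟨_, b.dih_mem 3⟩ :=
      Subtype.ext (by simp only [Subgroup.coe_mul, ← hd3]; exact hgT.symm.eq)
    have hkT : b.kT * k = k * b.kT := congrArg (QuotientGroup.mk (s := b.AA)) hTT
    have hmain : ∀ g' : b.CC, (g' : b.CC ⧸ b.AA) ∈ N →
        ∃ i, Odd (orderOf (b.φ (ea i) * (g' : G))) := by
      intro g' hg'
      obtain ⟨i, hi⟩ : g' ^ Nat.card N ∈ b.AA := by
        rw [← QuotientGroup.eq_one_iff, QuotientGroup.mk_pow]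
        exact orderOf_dvd_iff_pow_eq_one.1 (Subgroup.orderOf_dvd_natCard N hg')
      refine ⟨i, hodd.of_dvd_nat (orderOf_dvd_of_pow_eq_one ?_)⟩
      rw [(b.ea_comm g'.2 i).symm.mul_pow, ← Subgroup.coe_pow, hi]
      obtain ⟨l, hl⟩ := hodd
      rw [hl, pow_succ, pow_mul, sq, ← map_mul, (ea_inv i).2.2.2.1, map_one, one_pow, one_mul,
        ← map_mul, (ea_inv i).2.2.2.1, map_one]
    have hF : ∀ i, b.φ (ea i) ∈ b.F := by
      have ha : b.eA ∈ b.F := Subgroup.subset_closure (by simp)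
      have hj : b.eJ ∈ b.F := Subgroup.subset_closure (by simp)
      intro i
      fin_cases i
      · simp [ea]
      · exact ha
      · exact hj
      · show b.φ b5 ∈ b.F
        rw [← p5_data.2.2.2.1, map_mul]; exact mul_mem ha hj
    rcases s3_cent (e b.kT) (e k) (by
        rw [← map_mul, ← QuotientGroup.mk_mul, ht2, QuotientGroup.mk_one, map_one])
      (fun h => htN ((QuotientGroup.eq_one_iff _).1 (e.injective (h.trans (map_one e).symm))))
      (by rw [← map_mul, ← map_mul, ← QuotientGroup.mk_mul, hkT, QuotientGroup.mk_mul]) with h | h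
    · obtain ⟨i, hi⟩ := hmain ⟨g, hgC⟩
        ((QuotientGroup.eq_one_iff _).1 (e.injective (h.trans (map_one e).symm)))
      exact ⟨_, hF i, hi⟩
    · obtain ⟨i, hi⟩ := hmain (⟨_, b.dih_mem 3⟩ * ⟨g, hgC⟩) (by
        refine (QuotientGroup.eq_one_iff _).1 ?_
        rw [QuotientGroup.mk_mul]
        show ((b.kT * k : b.CC ⧸ b.AA) : (b.CC ⧸ b.AA) ⧸ N) = 1
        rw [QuotientGroup.mk_mul, e.injective h, ← QuotientGroup.mk_mul, ht2, QuotientGroup.mk_one])
      refine ⟨b.φ (ea i) * b.eT, mul_mem (hF i) (Subgroup.subset_closure (by simp)), ?_⟩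
      simpa [← hd3, mul_assoc] using hi

/-- The simple case. -/
theorem cf_conj_of_simple [Finite G] (hU : b.Trivial) [IsSimpleGroup (b.CC ⧸ b.AA)]
    (hK : Nat.card (b.CC ⧸ b.AA) = 60 ∨ Nat.card (b.CC ⧸ b.AA) = 168) :
    ∀ m ∈ b.CF, b.eP * m * b.eP = m⁻¹ → ∃ e ∈ b.CF, b.eP * m = e⁻¹ * b.eP * e := by
  classical
  haveI : Fintype G := Fintype.ofFinite G
  haveI : Fintype b.CC := Fintype.ofFinite _
  haveI : Fintype (b.CC ⧸ b.AA) := Fintype.ofFinite _
  obtain ⟨ht2, ht1, -⟩ := b.kT_sq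
  obtain ⟨hconj, hcount⟩ := simple_data hK b.kT ht2 ht1
  obtain ⟨-, -, -, -, -, hd3, hσ2, hσ1, -⟩ := dih_data b.σ b.σ_cases
  set τ : b.CC := ⟨_, b.dih_mem 3⟩ with hτdef
  have hτG : (τ : G) = b.eT := by rw [hτdef]; simp [← hd3]
  have hτ2 : τ * τ = 1 := Subtype.ext (by
    rw [Subgroup.coe_mul, hτG, ← map_mul, hσ2, map_one]; rfl)
  have hcen : ∀ (α : b.CC), α ∈ b.AA → ∀ c : b.CC, Commute c α ∧ α * α = 1 := by
    rintro α ⟨i, hi⟩ c
    exact ⟨Subtype.ext (by simpa [hi] using (b.ea_comm c.2 i).eq),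
      Subtype.ext (by rw [Subgroup.coe_mul, hi, ← map_mul, (ea_inv i).2.2.2.1, map_one]; rfl)⟩
  -- lifts of involutions are involutions
  have hlift : ∀ c : b.CC, (c : b.CC ⧸ b.AA) * c = 1 → (c : b.CC ⧸ b.AA) ≠ 1 → c * c = 1 := by
    intro c hc hc1
    obtain ⟨d, hd⟩ := isConj_iff.1 (hconj _ hc hc1)
    obtain ⟨d, rfl⟩ := QuotientGroup.mk_surjective d
    have hα : (d * τ * d⁻¹)⁻¹ * c ∈ b.AA := by
      refine QuotientGroup.eq.1 ?_
      rw [← hd, QuotientGroup.mk_mul, QuotientGroup.mk_mul, QuotientGroup.mk_inv]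
      rfl
    obtain ⟨hcomm, hsq⟩ := hcen _ hα (d * τ * d⁻¹)
    have e : c = d * τ * d⁻¹ * ((d * τ * d⁻¹)⁻¹ * c) := (mul_inv_cancel_left _ _).symm
    rw [e, hcomm.symm.mul_mul_mul_comm, hsq, mul_one, show d * τ * d⁻¹ * (d * τ * d⁻¹) = d * (τ * τ) * d⁻¹ by group, hτ2]
    group
  let CFs : Finset b.CC := Finset.univ.filter fun c : b.CC => Commute c τ
  have hCF : ∀ c : b.CC, c ∈ CFs ↔ (c : G) ∈ b.CF := by
    intro c
    rw [Finset.mem_filter, b.mem_CF, ← hτG]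
    exact ⟨fun h => ⟨c.2, congrArg Subtype.val h.2.eq⟩, fun h => ⟨Finset.mem_univ _, Subtype.ext h.2.eq⟩⟩
  let π : b.CC → b.CC ⧸ b.AA := fun c => (c : b.CC ⧸ b.AA)
  -- involutions commuting with the image of `eT` lift into `CF`
  let B : Finset (b.CC ⧸ b.AA) :=
    Finset.univ.filter fun k => Commute k b.kT ∧ k * k = 1 ∧ k ≠ 1 ∧ k ≠ b.kT
  have hB : B ⊆ CFs.image π := by
    intro k hk
    obtain ⟨-, hkc, hk2, hk1, -⟩ := Finset.mem_filter.1 hk
    obtain ⟨c, rfl⟩ := QuotientGroup.mk_surjective k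
    refine Finset.mem_image.2 ⟨c, Finset.mem_filter.2 ⟨Finset.mem_univ _, ?_⟩, rfl⟩
    have h1 : c * c = 1 := hlift c hk2 hk1
    by_cases hne : ((c * τ : b.CC) : b.CC ⧸ b.AA) = 1
    · obtain ⟨hcomm, -⟩ := hcen _ ((QuotientGroup.eq_one_iff _).1 hne) τ
      have : Commute (c * τ * τ⁻¹) τ := hcomm.symm.mul_left (Commute.refl τ).inv_left
      rwa [mul_inv_cancel_right] at this
    · have h2 : (c * τ) * (c * τ) = 1 := by
        refine hlift _ ?_ hne
        rw [QuotientGroup.mk_mul]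
        exact hkc.symm.mul_mul_mul_comm _ _ |>.trans (by rw [hk2, one_mul]; exact ht2)
      have hτi : τ⁻¹ = τ := inv_eq_of_mul_eq_one_right hτ2
      have hci : c⁻¹ = c := inv_eq_of_mul_eq_one_right h1
      have h3 : (c * τ)⁻¹ = c * τ := inv_eq_of_mul_eq_one_right h2
      rw [mul_inv_rev, hτi, hci] at h3
      exact h3.symm
  let I : Finset b.CC := CFs.filter fun c => b.pC c = c⁻¹
  let D : Finset b.CC := CFs.image fun c => (b.pC c)⁻¹ * c
  have hpCF : ∀ c ∈ CFs, b.pC c ∈ CFs := by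
    intro c hc
    refine Finset.mem_filter.2 ⟨Finset.mem_univ _, Subtype.ext ?_⟩
    simp only [Subgroup.coe_mul, pC_coe, hτG]
    have h1 : Commute b.eP b.eT := (b.ψσ_comm p5).symm
    have h2 : Commute (c : G) b.eT := ((b.mem_CF).1 ((hCF c).1 hc)).2
    exact (h1.mul_left h2).mul_left h1
  have hmulCF : ∀ c d, c ∈ CFs → d ∈ CFs → c * d ∈ CFs ∧ c⁻¹ ∈ CFs := fun c d hc hd =>
    ⟨Finset.mem_filter.2 ⟨Finset.mem_univ _,
        (Finset.mem_filter.1 hc).2.mul_left (Finset.mem_filter.1 hd).2⟩,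
      Finset.mem_filter.2 ⟨Finset.mem_univ _, (Finset.mem_filter.1 hc).2.inv_left⟩⟩
  have hDI : D ⊆ I := by
    intro m hm
    obtain ⟨e, he, rfl⟩ := Finset.mem_image.1 hm
    refine Finset.mem_filter.2 ⟨(hmulCF _ _ (hmulCF _ _ (hpCF e he) (hpCF e he)).2 he).1, ?_⟩
    rw [map_mul, map_inv, pC_pC, mul_inv_rev, inv_inv]
  -- every inverted element is a commutator
  have hfib : ∀ d ∈ D, (CFs.filter fun c => (b.pC c)⁻¹ * c = d).card ≤ 4 := by
    intro d hd
    obtain ⟨e, he, rfl⟩ := Finset.mem_image.1 hd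
    let L : Finset G := {1, b.eT, b.eX, b.eT * b.eX}
    have hL : L.card ≤ 4 := Finset.card_le_four
    refine le_trans (Finset.card_le_card_of_injOn (fun c => ((c * e⁻¹ : b.CC) : G)) ?_ ?_) hL
    · intro c hc
      obtain ⟨hc, hce⟩ := Finset.mem_filter.1 hc
      have hmem := (hmulCF c e⁻¹ hc (hmulCF e e he he).2).1
      have hfix : b.pC (c * e⁻¹) = c * e⁻¹ := by
        rw [map_mul, map_inv, mul_inv_eq_iff_eq_mul, mul_assoc]
        calc b.pC c = c * ((b.pC c)⁻¹ * c)⁻¹ := by group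
          _ = c * ((b.pC e)⁻¹ * e)⁻¹ := by rw [hce]
          _ = c * (e⁻¹ * b.pC e) := by group
      have hcP : Commute ((c * e⁻¹ : b.CC) : G) b.eP := by
        have h := congrArg Subtype.val hfix
        rw [pC_coe] at h
        rw [Commute, SemiconjBy]
        conv_lhs => rw [← h]
        simp [mul_assoc, b.cf_eP_sq]
      rcases b.fixed_CF' hU ((hCF _).1 hmem) hcP with h | h | h | h <;>
        simp [L, h]
    · intro c _ d _ h
      exact mul_right_cancel (Subtype.ext h)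
  have h4D : CFs.card ≤ 4 * D.card := Finset.card_le_mul_card_image _ 4 hfib
  have hI2 : I.card ≤ 2 * (I.image π).card := by
    refine Finset.card_le_mul_card_image _ 2 fun k hk => ?_
    obtain ⟨m, hm, rfl⟩ := Finset.mem_image.1 hk
    obtain ⟨hm1, hmp⟩ := Finset.mem_filter.1 hm
    refine le_trans (Finset.card_le_card_of_injOn (t := ({1, b.φ b5} : Finset G))
      (fun c => ((m⁻¹ * c : b.CC) : G)) ?_ ?_) Finset.card_le_two
    · intro c hc
      obtain ⟨hcI, hcm⟩ := Finset.mem_filter.1 hc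
      obtain ⟨-, hcp⟩ := Finset.mem_filter.1 hcI
      have hα : m⁻¹ * c ∈ b.AA := QuotientGroup.eq.1 hcm.symm
      obtain ⟨hcomm, hsq⟩ := hcen _ hα m
      obtain ⟨i, hi⟩ := hα
      have hfix : b.pC (m⁻¹ * c) = m⁻¹ * c := by
        have hc' : c = m * (m⁻¹ * c) := (mul_inv_cancel_left m c).symm
        rw [map_mul, map_inv, hmp, hcp, inv_inv]
        conv_lhs => rw [hc']
        rw [mul_inv_rev, inv_eq_of_mul_eq_one_right hsq, ← mul_assoc, hcomm.eq, mul_inv_cancel_right]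
      have h := congrArg Subtype.val hfix
      rw [pC_coe, hi] at h
      rcases ea_two i (b.inj (by simpa [map_mul] using h)) with rfl | rfl
      · simp [hi, ea]
      · simp [hi, ea]
    · intro c _ d _ h
      exact mul_left_cancel (Subtype.ext h)
  have hIB : Disjoint (I.image π) B := by
    rw [Finset.disjoint_left]
    intro k hk hkB
    obtain ⟨m, hm, rfl⟩ := Finset.mem_image.1 hk
    obtain ⟨hm1, hmp⟩ := Finset.mem_filter.1 hm
    obtain ⟨-, -, hk2, hk1, hkt⟩ := Finset.mem_filter.1 hkB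
    have h2 := hlift m hk2 hk1
    rw [inv_eq_of_mul_eq_one_right h2] at hmp
    have hmP : Commute (m : G) b.eP := by
      have h := congrArg Subtype.val hmp
      rw [pC_coe] at h
      rw [Commute, SemiconjBy]
      conv_lhs => rw [← h]
      simp [mul_assoc, b.cf_eP_sq]
    have hXA : ∀ c : b.CC, (c : G) = b.eX → π c = 1 := fun c hc =>
      (QuotientGroup.eq_one_iff _).2 ⟨3, by rw [hc]; rfl⟩
    rcases b.fixed_CF' hU ((hCF m).1 hm1) hmP with h | h | h | h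
    · exact hk1 (by rw [show m = 1 from Subtype.ext h]; rfl)
    · exact hkt (by rw [show m = τ from Subtype.ext (h.trans hτG.symm)]; rfl)
    · exact hk1 (hXA m h)
    · refine hkt ?_
      have e : π m = π τ * π (τ⁻¹ * m) := by
        show (m : b.CC ⧸ b.AA) = (τ : b.CC ⧸ b.AA) * ((τ⁻¹ * m : b.CC) : b.CC ⧸ b.AA)
        rw [← QuotientGroup.mk_mul, mul_inv_cancel_left]
      rw [e, hXA (τ⁻¹ * m) (by rw [Subgroup.coe_mul, Subgroup.coe_inv, h, hτG, inv_mul_cancel_left]),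
        mul_one]
      rfl
  have hMB : (CFs.image π).card ≤ 2 * B.card := by
    refine le_trans ?_ (le_trans hcount (le_of_eq ?_))
    · rw [Nat.card_eq_fintype_card, Fintype.card_subtype]
      refine Finset.card_le_card fun k hk => ?_
      obtain ⟨c, hc, rfl⟩ := Finset.mem_image.1 hk
      exact Finset.mem_filter.2 ⟨Finset.mem_univ _,
        congrArg (QuotientGroup.mk (s := b.AA)) (Finset.mem_filter.1 hc).2.eq⟩
    · rw [Nat.card_eq_fintype_card, Fintype.card_subtype]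
  have hsum : (I.image π).card + B.card ≤ (CFs.image π).card := by
    rw [← Finset.card_union_of_disjoint hIB]
    exact Finset.card_le_card (Finset.union_subset (Finset.image_subset_image (Finset.filter_subset _ _)) hB)
  have h4 : 4 * (CFs.image π).card ≤ CFs.card := by
    let s : Finset ((b.CC ⧸ b.AA) × Fin 4) := (CFs.image π) ×ˢ Finset.univ
    have hs : s.card = 4 * (CFs.image π).card := by simp [s, mul_comm]
    rw [← hs]
    have hp : ∀ k : b.CC ⧸ b.AA, ∃ c, (k ∈ CFs.image π → c ∈ CFs ∧ π c = k) := fun k => by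
      by_cases hk : k ∈ CFs.image π
      · obtain ⟨c, hc, e⟩ := Finset.mem_image.1 hk
        exact ⟨c, fun _ => ⟨hc, e⟩⟩
      · exact ⟨1, fun h => absurd h hk⟩
    choose lift hliftmem using hp
    refine Finset.card_le_card_of_injOn (fun q => lift q.1 * ⟨_, b.ea_mem q.2⟩) ?_ ?_
    · intro q hq
      obtain ⟨hq1, -⟩ := Finset.mem_product.1 hq
      refine (hmulCF _ _ (hliftmem _ hq1).1 ?_).1
      exact Finset.mem_filter.2 ⟨Finset.mem_univ _, ((hcen _ ⟨q.2, rfl⟩ τ).1).symm⟩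
    · intro q hq q' hq' h
      obtain ⟨hq1, -⟩ := Finset.mem_product.1 hq
      obtain ⟨hq1', -⟩ := Finset.mem_product.1 hq'
      have h' := congrArg π h
      simp only [π, QuotientGroup.mk_mul] at h'
      rw [(QuotientGroup.eq_one_iff (⟨_, b.ea_mem q.2⟩ : b.CC)).2 (b.mem_AA q.2 rfl),
        (QuotientGroup.eq_one_iff (⟨_, b.ea_mem q'.2⟩ : b.CC)).2 (b.mem_AA q'.2 rfl), mul_one, mul_one] at h'
      have e1 : q.1 = q'.1 := (hliftmem _ hq1).2.symm.trans (h'.trans (hliftmem _ hq1').2)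
      have h'' : (⟨_, b.ea_mem q.2⟩ : b.CC) = ⟨_, b.ea_mem q'.2⟩ := by
        simp only at h; rw [e1] at h; exact mul_left_cancel h
      exact Prod.ext e1 (ea_injective (b.inj (congrArg Subtype.val h'')))
  have heq : I.card ≤ D.card := by omega
  intro m hm hinv
  obtain ⟨hmC, -⟩ := b.mem_CF.1 hm
  have hmI : (⟨m, hmC⟩ : b.CC) ∈ I :=
    Finset.mem_filter.2 ⟨(hCF _).2 hm, Subtype.ext (by rw [pC_coe]; simpa using hinv)⟩
  rw [← Finset.eq_of_subset_of_card_le hDI heq] at hmI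
  obtain ⟨e, he, hem⟩ := Finset.mem_image.1 hmI
  refine ⟨e, (hCF e).1 he, ?_⟩
  have h := congrArg Subtype.val hem
  simp only [Subgroup.coe_mul, Subgroup.coe_inv, pC_coe] at h
  rw [← h, mul_inv_rev, mul_inv_rev, b.cf_eP_inv]
  simp only [mul_assoc]
  rw [← mul_assoc b.eP b.eP, b.cf_eP_sq, one_mul]

theorem cf_cases [Finite G] (hU : b.Trivial) :
    (∀ g ∈ b.CF, ∃ f ∈ b.F, Odd (orderOf (f * g))) ∨
      (∀ m ∈ b.CF, b.eP * m * b.eP = m⁻¹ → ∃ e ∈ b.CF, b.eP * m = e⁻¹ * b.eP * e) := by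
  rcases b.sc_kZ.concl with hI | hII | ⟨⟨e⟩⟩
  · exact Or.inl (b.cf_odd_of_typeI hU hI)
  · right
    obtain ⟨N, hN, -, h2, ⟨e⟩⟩ := hII
    haveI := hN
    haveI : IsSimpleGroup CfsgLib.SelfCentThree.A5 := alternatingGroup.isSimpleGroup (by simp)
    have hN3 : ¬ 3 ∣ Nat.card N := fun h => by
      haveI : Fact (Nat.Prime 3) := ⟨Nat.prime_three⟩
      obtain ⟨n, hn⟩ := exists_prime_orderOf_dvd_card' 3 h
      have : orderOf n ∣ 2 := orderOf_dvd_of_pow_eq_one (Subtype.ext (h2 n n.2))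
      rw [hn] at this; omega
    have hinv : ∀ n ∈ N, b.pK n ∈ N := b.invariant_of_maximal N hN3 fun H hH hH3 => by
      haveI : IsSimpleGroup ((b.CC ⧸ b.AA) ⧸ N) := e.isSimpleGroup
      rcases hH.eq_bot_or_eq_top with h | h
      · exact h
      · exfalso
        refine hH3 ?_
        rw [h, Subgroup.card_top, Nat.card_congr e.toEquiv, Nat.card_eq_fintype_card]
        decide
    have hbot : N = ⊥ := (Subgroup.eq_bot_iff_forall _).2 fun n hn =>
      b.odd_of_invariant hU N hN3 hinv n hn (by rw [← sq]; exact h2 n hn)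
    subst hbot
    haveI : IsSimpleGroup (b.CC ⧸ b.AA) := (QuotientGroup.quotientBot.symm.trans e).isSimpleGroup
    refine b.cf_conj_of_simple hU (Or.inl ?_)
    rw [Nat.card_congr (QuotientGroup.quotientBot.symm.trans e).toEquiv, Nat.card_eq_fintype_card]
    decide
  · right
    haveI := CfsgLib.SelfCentThree.l7_simple
    haveI : IsSimpleGroup (b.CC ⧸ b.AA) := e.isSimpleGroup
    refine b.cf_conj_of_simple hU (CfsgLib.SelfCentThree.classify_simple _ _ le_rfl inferInstance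
      (fun hc => ?_) _ b.sc_kZ)
    have h := b.sc_kZ.cent b.kT (hc.is_comm.comm _ _)
    obtain ⟨ht2, ht1, -⟩ := b.kT_sq
    have h3 : orderOf b.kT ∣ 3 := by
      rw [← b.sc_kZ.card_zpowers]
      exact Subgroup.orderOf_dvd_natCard _ h
    rw [CFAux.orderOf_two ht2 ht1] at h3
    omega

end Base

end CfsgLib.SymEightThree
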