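import Cfsg.Agent.Lib.SymEightThree.Trivial.Defs
import Cfsg.Agent.Lib.SymEightThree.Sym
import Cfsg.Agent.Lib.SymEightThree.Local
import Mathlib.GroupTheory.Sylow
import Mathlib.GroupTheory.PGroup

/-!
Elementary facts on the named elements of the trivial configuration: commutations, the fixed points
of `eP` in the centraliser of the elementary subgroup of order eight, and the classes of involutions
near the Sylow three-subgroup.
-/

set_option autoImplicit false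
set_option linter.style.haveILetI false

namespace CfsgLib.SymEightThree

open Equiv

/-- `(2 4)` -/
def eta5 : Perm (Fin 5) := swap 2 4

theorem sigma_rels : ∀ s : Perm (Fin 5), (s = a5 ∨ s = b5) →
    s * s = 1 ∧ s ≠ 1 ∧ s * r5 = r5 * s ∧ s * a5 = a5 * s ∧ s * b5 = b5 * s ∧
      s * c5 * s = c5⁻¹ := by decide +kernel

theorem p5_rels : p5 * p5 = 1 ∧ p5 ≠ 1 ∧ p5 * r5 * p5 = a5 ∧ p5 * a5 * p5 = r5 ∧
    p5 * b5 = b5 * p5 ∧ r5 * r5 = 1 ∧ r5 ≠ 1 ∧ a5 * a5 = 1 ∧ a5 ≠ 1 ∧ b5 * b5 = 1 ∧ b5 ≠ 1 ∧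
    a5 * r5 = b5 ∧ r5 * a5 = b5 ∧ c5 ^ 3 = 1 ∧ c5 ≠ 1 ∧ r5 * c5 = c5 * r5 := by decide +kernel

set_option maxRecDepth 4000 in
theorem fourSet_four_cases : ∀ x : Perm (Fin 5), x * x = 1 → x 4 = 4 → Perm.sign x = 1 →
    x = 1 ∨ x = eta5 * b5 * eta5 ∨ x = eta5 * p5 * eta5 ∨ x = eta5 * (b5 * p5) * eta5 := by
  decide +kernel

theorem v_mul : ∀ x ∈ [1, b5, p5, b5 * p5], ∀ y ∈ [1, b5, p5, b5 * p5],
    x * y ∈ [1, b5, p5, b5 * p5] ∧ x⁻¹ ∈ [1, b5, p5, b5 * p5] := by decide +kernel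

theorem v_cent : ∀ x ∈ [1, b5, p5, b5 * p5], x * a5 = a5 * x → x = 1 ∨ x = b5 := by decide +kernel

theorem sig_mul : ∀ s : Perm (Fin 5), (s = a5 ∨ s = b5) → ∀ i i' : Fin 3, ∀ j j' : Fin 2,
    (∃ k : Fin 3, ∃ l : Fin 2,
      c5 ^ (i : ℕ) * s ^ (j : ℕ) * (c5 ^ (i' : ℕ) * s ^ (j' : ℕ)) = c5 ^ (k : ℕ) * s ^ (l : ℕ)) ∧
    (∃ k : Fin 3, ∃ l : Fin 2,
      (c5 ^ (i : ℕ) * s ^ (j : ℕ))⁻¹ = c5 ^ (k : ℕ) * s ^ (l : ℕ)) ∧
    (c5 ^ (i : ℕ) * s ^ (j : ℕ) * s = s * (c5 ^ (i : ℕ) * s ^ (j : ℕ)) → i = 0) := by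
  decide +kernel

namespace Base

variable {G : Type*} [Group G] (b : Base G)

/-! ### Commutations and orders -/

theorem φ_sq {x : Perm (Fin 5)} (h : x * x = 1) : b.φ x * b.φ x = 1 := by
  rw [← map_mul, h, map_one]

theorem ψ_sq {x : Perm (Fin 5)} (h : x * x = 1) : b.ψ x * b.ψ x = 1 := by
  rw [← map_mul, h, map_one]

theorem order_φ {x : Perm (Fin 5)} (h : x * x = 1) (h1 : x ≠ 1) : orderOf (b.φ x) = 2 :=
  orderOf_eq_prime (by rw [pow_two, b.φ_sq h]) fun e => h1 (b.inj (by rw [e, map_one]))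

theorem order_ψ {x : Perm (Fin 5)} (h : x * x = 1) (h1 : x ≠ 1) : orderOf (b.ψ x) = 2 :=
  orderOf_eq_prime (by rw [pow_two, b.ψ_sq h]) fun e => h1 (b.ψ_injective (by rw [e, map_one]))

theorem order_eT : orderOf b.eT = 2 :=
  b.order_ψ (sigma_rels _ b.σ_cases).1 (sigma_rels _ b.σ_cases).2.1

theorem order_eA : orderOf b.eA = 2 := b.order_φ p5_rels.2.2.2.2.2.2.2.1 p5_rels.2.2.2.2.2.2.2.2.1

theorem order_eJ : orderOf b.eJ = 2 := b.order_φ p5_rels.2.2.2.2.2.1 p5_rels.2.2.2.2.2.2.1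

theorem order_eX : orderOf b.eX = 2 :=
  b.order_φ p5_rels.2.2.2.2.2.2.2.2.2.1 p5_rels.2.2.2.2.2.2.2.2.2.2.1

theorem order_eP : orderOf b.eP = 2 := b.order_φ p5_rels.1 p5_rels.2.1

theorem order_eP' : orderOf b.eP' = 2 := b.order_ψ p5_rels.1 p5_rels.2.1

theorem eT_sq : b.eT * b.eT = 1 := b.ψ_sq (sigma_rels _ b.σ_cases).1

theorem eP_sq : b.eP * b.eP = 1 := b.φ_sq p5_rels.1

theorem eP'_sq : b.eP' * b.eP' = 1 := b.ψ_sq p5_rels.1

theorem eJ_sq : b.eJ * b.eJ = 1 := b.φ_sq p5_rels.2.2.2.2.2.1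

theorem eA_sq : b.eA * b.eA = 1 := b.φ_sq p5_rels.2.2.2.2.2.2.2.1

theorem eX_sq : b.eX * b.eX = 1 := b.φ_sq p5_rels.2.2.2.2.2.2.2.2.2.1

theorem eT_inv : b.eT⁻¹ = b.eT := inv_eq_of_mul_eq_one_right b.eT_sq

theorem eP_inv : b.eP⁻¹ = b.eP := inv_eq_of_mul_eq_one_right b.eP_sq

theorem comm_eT_eA : Commute b.eT b.eA := b.ψσ_comm a5

theorem comm_eT_eJ : Commute b.eT b.eJ := b.ψσ_comm r5

theorem comm_eT_eX : Commute b.eT b.eX := b.ψσ_comm b5

theorem comm_eT_eW : Commute b.eT b.eW := b.ψσ_comm c5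

theorem comm_eT_eP : Commute b.eT b.eP := b.ψσ_comm p5

theorem comm_eZ_eP : Commute b.eZ b.eP := b.ψc_comm p5

theorem comm_eZ_eW : Commute b.eZ b.eW := b.ψc_comm c5

theorem comm_eA_eJ : Commute b.eA b.eJ := by
  show _ * _ = _ * _
  rw [← map_mul, ← map_mul]; congr 1
  decide +kernel

theorem eX_eq : b.eX = b.eA * b.eJ := by rw [← map_mul, p5_rels.2.2.2.2.2.2.2.2.2.2.2.1]

theorem comm_eP_eX : Commute b.eP b.eX := by
  show _ * _ = _ * _
  rw [← map_mul, ← map_mul, p5_rels.2.2.2.2.1]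

theorem eP_conj_eJ : b.eP * b.eJ * b.eP = b.eA := by
  rw [← map_mul, ← map_mul, p5_rels.2.2.1]

theorem eP_conj_eA : b.eP * b.eA * b.eP = b.eJ := by
  rw [← map_mul, ← map_mul, p5_rels.2.2.2.1]

theorem isConj_eJ_eA : IsConj b.eJ b.eA :=
  isConj_iff.mpr ⟨b.eP, by rw [b.eP_inv, b.eP_conj_eJ]⟩

theorem comm_eP'_eW : Commute b.eP' b.eW := (b.φc_comm p5).symm

theorem comm_eP'_φσ : Commute b.eP' (b.φ b.σ) := (b.φσ_comm p5).symm

theorem comm_eP'_eX (h : b.σ = b5) : Commute b.eP' b.eX := by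
  have := b.comm_eP'_φσ; rwa [h] at this

theorem comm_eP'_eT (h : b.σ = b5) : Commute b.eP' b.eT := by
  show _ * _ = _ * _
  rw [← map_mul, ← map_mul, h, p5_rels.2.2.2.2.1]

theorem eP'_conj_eJ : b.eP' * b.eJ * b.eP' = b.ψ a5 := by
  rw [show b.eJ = b.ψ r5 from b.ψ_r.symm, ← map_mul, ← map_mul, p5_rels.2.2.1]

theorem eT_conj_eZ : b.eT * b.eZ * b.eT = b.eZ⁻¹ := by
  rw [← map_mul, ← map_mul, (sigma_rels _ b.σ_cases).2.2.2.2.2, map_inv]

theorem eW_pow : b.eW ^ 3 = 1 := by rw [← map_pow, p5_rels.2.2.2.2.2.2.2.2.2.2.2.2.2.1, map_one]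

theorem eZ_pow : b.eZ ^ 3 = 1 := by rw [← map_pow, p5_rels.2.2.2.2.2.2.2.2.2.2.2.2.2.1, map_one]

/-! ### Fixed points of `eP` -/

/-- The centraliser of the four-group generated by `eX` and `eP`. -/
theorem cent_x_p (hU : b.Trivial) (g : G) (hx : Commute g b.eX) (hp : Commute g b.eP) :
    g ∈ Subgroup.closure {b.eX, b.eP, b.eZ, b.eT} := by
  set e := b.φ eta5 with he
  have hee : e * e = 1 := b.φ_sq (by decide +kernel)
  have hei : e⁻¹ = e := inv_eq_of_mul_eq_one_right hee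
  have hmem : e * g * e ∈ Subgroup.centralizer (b.φ '' fourSet 4) := by
    rw [Subgroup.mem_centralizer_iff]
    rintro _ ⟨x, ⟨x2, xs, x4⟩, rfl⟩
    have key : ∀ u : Perm (Fin 5), Commute g (b.φ u) →
        b.φ (eta5 * u * eta5) * (e * g * e) = e * g * e * b.φ (eta5 * u * eta5) := by
      intro u hu
      have h := hu.map (MulAut.conj e).toMonoidHom
      simp only [MulEquiv.coe_toMonoidHom, MulAut.conj_apply, hei] at h
      rw [map_mul, map_mul, ← he]
      exact h.symm.eq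
    rcases fourSet_four_cases x (by rw [← pow_two]; exact x2) x4 xs with rfl | rfl | rfl | rfl
    · simp
    · exact key _ hx
    · exact key _ hp
    · exact key _ (by rw [map_mul]; exact hx.mul_right hp)
  have hg : g = e * (e * g * e) * e := by
    calc g = (e * e) * g * (e * e) := by simp [hee]
      _ = _ := by simp [mul_assoc]
  have h2 := Subgroup.mem_map_of_mem (MulAut.conj e).toMonoidHom (hU hmem)
  rw [MonoidHom.map_closure] at h2
  simp only [MulEquiv.coe_toMonoidHom, MulAut.conj_apply, hei] at h2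
  rw [← hg] at h2
  refine Subgroup.closure_le _ |>.mpr ?_ h2
  rintro _ ⟨k, hk, rfl⟩
  simp only [MulAut.conj_apply, hei, SetLike.mem_coe]
  rcases hk with ⟨x, ⟨x2, xs, x4⟩, rfl⟩ | rfl | rfl
  · rw [he, ← map_mul, ← map_mul]
    have hη : ∀ u : Perm (Fin 5), eta5 * (eta5 * u * eta5) * eta5 = u := fun u => by
      calc eta5 * (eta5 * u * eta5) * eta5 = (eta5 * eta5) * u * (eta5 * eta5) := by
            simp [mul_assoc]
        _ = u := by rw [show eta5 * eta5 = 1 by decide +kernel]; simp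
    rcases fourSet_four_cases x (by rw [← pow_two]; exact x2) x4 xs with rfl | rfl | rfl | rfl
    · rw [mul_one, show eta5 * eta5 = 1 by decide +kernel, map_one]
      exact one_mem _
    all_goals rw [hη]
    · exact Subgroup.subset_closure (by simp)
    · exact Subgroup.subset_closure (by simp)
    · rw [map_mul]
      exact mul_mem (Subgroup.subset_closure (by simp)) (Subgroup.subset_closure (by simp))
  · have : e * b.eZ * e = b.eZ := by
      rw [← (b.ψc_comm eta5).eq, mul_assoc, hee, mul_one]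
    rw [this]; exact Subgroup.subset_closure (by simp)
  · have : e * b.eT * e = b.eT := by
      rw [← (b.ψσ_comm eta5).eq, mul_assoc, hee, mul_one]
    rw [this]; exact Subgroup.subset_closure (by simp)

theorem comm_word (i : ℕ) (j : ℕ) (x : Perm (Fin 5)) :
    Commute (b.ψ (c5 ^ i * b.σ ^ j)) (b.φ x) := by
  rw [map_mul, map_pow, map_pow]
  exact ((b.ψc_comm x).pow_left i).mul_left ((b.ψσ_comm x).pow_left j)

/-- The form of the elements of the closure in `cent_x_p`. -/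
theorem closure_form (g : G) (hg : g ∈ Subgroup.closure {b.eX, b.eP, b.eZ, b.eT}) :
    ∃ v ∈ [1, b5, p5, b5 * p5], ∃ i : Fin 3, ∃ j : Fin 2,
      g = b.φ v * b.ψ (c5 ^ (i : ℕ) * b.σ ^ (j : ℕ)) := by
  induction hg using Subgroup.closure_induction with
  | mem x hx =>
    rcases hx with rfl | rfl | rfl | rfl
    · exact ⟨b5, by simp, 0, 0, by simp⟩
    · exact ⟨p5, by simp, 0, 0, by simp⟩
    · exact ⟨1, by simp, 1, 0, by simp⟩
    · exact ⟨1, by simp, 0, 1, by simp⟩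
  | one => exact ⟨1, by simp, 0, 0, by simp⟩
  | mul x y _ _ hx hy =>
    obtain ⟨v, hv, i, j, rfl⟩ := hx
    obtain ⟨v', hv', i', j', rfl⟩ := hy
    obtain ⟨k, l, hkl⟩ := (sig_mul b.σ b.σ_cases i i' j j').1
    exact ⟨v * v', (v_mul v hv v' hv').1, k, l, by
      rw [← hkl, map_mul b.φ, map_mul b.ψ (c5 ^ _ * _), (b.comm_word _ _ v').mul_mul_mul_comm]⟩
  | inv x _ hx =>
    obtain ⟨v, hv, i, j, rfl⟩ := hx
    obtain ⟨k, l, hkl⟩ := (sig_mul b.σ b.σ_cases i i j j).2.1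
    exact ⟨v⁻¹, (v_mul v hv v hv).2, k, l, by
      rw [← hkl, map_inv, map_inv, mul_inv_rev]
      exact (b.comm_word _ _ v).inv_inv.eq⟩

/-- `eP` fixes only four elements of the centraliser of the elementary subgroup. -/
theorem fixed_CF (hU : b.Trivial) (g : G) (hg : g ∈ b.CF) (hp : Commute g b.eP) :
    g = 1 ∨ g = b.eT ∨ g = b.eX ∨ g = b.eT * b.eX := by
  rw [CF, Subgroup.mem_centralizer_iff] at hg
  have hT : Commute b.eT g := hg _ (by simp)
  have hA : Commute b.eA g := hg _ (by simp)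
  have hJ : Commute b.eJ g := hg _ (by simp)
  have hX : Commute g b.eX := by rw [b.eX_eq]; exact hA.symm.mul_right hJ.symm
  obtain ⟨v, hv, i, j, rfl⟩ := b.closure_form g (b.cent_x_p hU g hX hp)
  set u := b.ψ (c5 ^ (i : ℕ) * b.σ ^ (j : ℕ)) with hu
  have hva : Commute (b.φ v) b.eA := by
    have h1 : Commute u⁻¹ b.eA := (b.comm_word _ _ a5).inv_left
    have := hA.symm.mul_left h1
    rwa [mul_inv_cancel_right] at this
  have hut : Commute u b.eT := by
    have h1 : Commute (b.φ v)⁻¹ b.eT := (b.ψσ_comm v).symm.inv_left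
    have := h1.mul_left hT.symm
    rwa [inv_mul_cancel_left] at this
  have hi : i = 0 := by
    refine (sig_mul b.σ b.σ_cases i i j j).2.2 (b.ψ_injective ?_)
    rw [map_mul b.ψ (c5 ^ _ * _), map_mul b.ψ b.σ]
    exact hut.eq
  have hv2 := v_cent v hv (b.inj (by rw [map_mul, map_mul]; exact hva.eq))
  subst hi
  rcases hv2 with rfl | rfl <;> fin_cases j <;> simp [hu]
  exact Or.inr (Or.inr (Or.inr (b.comm_eT_eX).symm.eq))


/-! ### Classes of involutions near the Sylow three-subgroup -/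

theorem x_three_b5 : ∀ x : Perm (Fin 5), x * b5 = b5 * x → x ^ 9 = 1 → x = 1 := by decide +kernel

theorem c5_centralizer : ∀ x : Perm (Fin 5), x * c5 = c5 * x →
    ∃ k : Fin 3, ∃ l : Fin 2, x = c5 ^ (k : ℕ) * r5 ^ (l : ℕ) := by decide +kernel

theorem c5_pow_inj : ∀ i k : Fin 3, c5 ^ (i : ℕ) = c5 ^ (k : ℕ) → i = k := by decide +kernel

theorem cent_Z_form (g : G) (h : Commute g b.eZ) :
    ∃ i : Fin 3, ∃ x, g = b.eZ ^ (i : ℕ) * b.φ x := by
  have hm : g ∈ Subgroup.zpowers b.eZ ⊔ b.φ.range := by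
    have := b.centz (x := g) (Subgroup.mem_centralizer_singleton_iff.mpr (by
      rw [← b.ψ_apply]; exact h.eq))
    rwa [← b.ψ_apply] at this
  have hsup : Subgroup.zpowers b.eZ ⊔ b.φ.range ≤
      (((b.ψ.comp (Subgroup.zpowers c5).subtype).noncommCoprod b.φ fun u x => by
        obtain ⟨n, hn⟩ := u.2
        show Commute (b.ψ u.1) (b.φ x)
        rw [← hn, map_zpow]; exact (b.ψc_comm x).zpow_left n)).range := by
    refine sup_le ?_ ?_
    · rw [Subgroup.zpowers_le]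
      exact ⟨(⟨c5, Subgroup.mem_zpowers _⟩, 1), by simp [MonoidHom.noncommCoprod_apply]⟩
    · rintro _ ⟨x, rfl⟩
      exact ⟨(1, x), by simp [MonoidHom.noncommCoprod_apply]⟩
  obtain ⟨⟨⟨u, hu⟩, x⟩, e⟩ := hsup hm
  simp only [MonoidHom.noncommCoprod_apply, MonoidHom.coe_comp, Subgroup.coe_subtype,
    Function.comp_apply] at e
  rcases Local.zpowers_three p5_rels.2.2.2.2.2.2.2.2.2.2.2.2.2.1 hu with rfl | rfl | rfl
  · exact ⟨0, x, by rw [← e, map_one]; simp⟩
  · exact ⟨1, x, by rw [← e]; simp⟩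
  · refine ⟨2, x, ?_⟩
    rw [← e, show c5⁻¹ = c5 ^ 2 by decide +kernel, map_pow]
    rfl

theorem Z_pow_not_mem (i : Fin 3) (x : Perm (Fin 5)) (h : b.eZ ^ (i : ℕ) = b.φ x) : i = 0 := by
  have hne : b.eZ ∉ b.φ.range := by rw [eZ, b.ψ_apply]; exact b.c_not_mem
  fin_cases i
  · rfl
  · exact absurd ⟨x, by simpa using h.symm⟩ hne
  · refine absurd ?_ hne
    have h2 : b.eZ ^ 2 ∈ b.φ.range := ⟨x, by simpa using h.symm⟩
    have h3 : b.eZ = (b.eZ ^ 2)⁻¹ := by
      rw [eq_inv_iff_mul_eq_one, ← pow_succ', b.eZ_pow]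
    rw [h3]; exact inv_mem h2

theorem cent_Z_invol (g : G) (h : Commute g b.eZ) (h2 : g * g = 1) :
    ∃ x, g = b.φ x ∧ x * x = 1 := by
  obtain ⟨i, x, rfl⟩ := b.cent_Z_form g h
  have hc : Commute (b.eZ ^ (i : ℕ)) (b.φ x) := (b.ψc_comm x).pow_left _
  have hi : i = 0 := by
    rw [hc.symm.mul_mul_mul_comm, ← pow_add] at h2
    fin_cases i
    · rfl
    · simp only [← map_mul] at h2
      have h2' : b.eZ ^ 2 = b.φ (x * x)⁻¹ := by
        rw [map_inv]; exact eq_inv_of_mul_eq_one_left h2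
      exact absurd (b.Z_pow_not_mem 2 _ h2') (by decide)
    · simp only [← map_mul] at h2
      have h4 : b.eZ ^ (2 + 2) = b.eZ := by rw [pow_succ, b.eZ_pow, one_mul]
      rw [h4] at h2
      have h2' : b.eZ ^ 1 = b.φ (x * x)⁻¹ := by
        rw [map_inv, pow_one]; exact eq_inv_of_mul_eq_one_left h2
      exact absurd (b.Z_pow_not_mem 1 _ h2') (by decide)
  subst hi
  refine ⟨x, by simp, b.inj ?_⟩
  rw [map_mul, map_one]; simpa using h2

theorem cent_D_form (g : G) (hz : Commute g b.eZ) (hw : Commute g b.eW) :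
    ∃ i k : Fin 3, ∃ l : Fin 2, g = b.eZ ^ (i : ℕ) * (b.eW ^ (k : ℕ) * b.eJ ^ (l : ℕ)) := by
  obtain ⟨i, x, rfl⟩ := b.cent_Z_form g hz
  have h1 : Commute (b.eZ ^ (i : ℕ))⁻¹ b.eW := ((b.ψc_comm c5).pow_left _).inv_left
  have h2 := h1.mul_left hw
  rw [inv_mul_cancel_left] at h2
  obtain ⟨k, l, rfl⟩ := c5_centralizer x (b.inj (by rw [map_mul, map_mul]; exact h2.eq))
  exact ⟨i, k, l, by rw [map_mul, map_pow, map_pow]⟩

theorem D_form (d : G) (hd : d ∈ Subgroup.closure ({b.eZ, b.eW} : Set G)) :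
    ∃ i k : Fin 3, d = b.eZ ^ (i : ℕ) * b.eW ^ (k : ℕ) := by
  induction hd using Subgroup.closure_induction with
  | mem x hx =>
    rcases hx with rfl | rfl
    · exact ⟨1, 0, by simp⟩
    · exact ⟨0, 1, by simp⟩
  | one => exact ⟨0, 0, by simp⟩
  | mul x y _ _ hx hy =>
    obtain ⟨i, k, rfl⟩ := hx
    obtain ⟨i', k', rfl⟩ := hy
    refine ⟨i + i', k + k', ?_⟩
    rw [((b.ψc_comm c5).symm.pow_pow _ _).mul_mul_mul_comm, ← pow_add, ← pow_add]
    congr 1
    · exact pow_eq_pow_of_modEq (by simp [Nat.ModEq, Fin.val_add]) b.eZ_pow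
    · exact pow_eq_pow_of_modEq (by simp [Nat.ModEq, Fin.val_add]) b.eW_pow
  | inv x _ hx =>
    obtain ⟨i, k, rfl⟩ := hx
    refine ⟨-i, -k, ?_⟩
    rw [mul_inv_rev, ((b.ψc_comm c5).symm.pow_pow _ _).inv_inv.eq]
    congr 1
    · rw [inv_eq_iff_mul_eq_one, ← pow_add]
      exact (pow_eq_pow_of_modEq (by fin_cases i <;> decide) b.eZ_pow).trans (pow_zero _)
    · rw [inv_eq_iff_mul_eq_one, ← pow_add]
      exact (pow_eq_pow_of_modEq (by fin_cases k <;> decide) b.eW_pow).trans (pow_zero _)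

theorem D_inj (i k i' k' : Fin 3)
    (h : b.eZ ^ (i : ℕ) * b.eW ^ (k : ℕ) = b.eZ ^ (i' : ℕ) * b.eW ^ (k' : ℕ)) :
    i = i' ∧ k = k' := by
  have h0 : (i - i' : Fin 3) = 0 := by
    refine b.Z_pow_not_mem _ (c5 ^ (k' : ℕ) * (c5 ^ (k : ℕ))⁻¹) ?_
    rw [map_mul, map_inv, map_pow, map_pow, eq_mul_inv_iff_mul_eq]
    have e : b.eZ ^ ((i - i' : Fin 3) : ℕ) = (b.eZ ^ (i' : ℕ))⁻¹ * b.eZ ^ (i : ℕ) := by
      rw [eq_inv_mul_iff_mul_eq, ← pow_add]
      exact pow_eq_pow_of_modEq (by fin_cases i <;> fin_cases i' <;> decide) b.eZ_pow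
    rw [e, mul_assoc, h, inv_mul_cancel_left]
  have hi : i = i' := sub_eq_zero.mp h0
  subst hi
  exact ⟨rfl, c5_pow_inj k k' (b.inj (by rw [map_pow, map_pow]; exact mul_left_cancel h))⟩

variable [Finite G]

theorem card_D : Nat.card (Subgroup.closure ({b.eZ, b.eW} : Set G)) = 9 := by
  let f : Fin 3 × Fin 3 → Subgroup.closure ({b.eZ, b.eW} : Set G) := fun p =>
    ⟨b.eZ ^ (p.1 : ℕ) * b.eW ^ (p.2 : ℕ), mul_mem
      (pow_mem (Subgroup.subset_closure (by simp)) _) (pow_mem (Subgroup.subset_closure (by simp)) _)⟩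
  have hf : Function.Bijective f := by
    refine ⟨fun p q e => ?_, fun d => ?_⟩
    · obtain ⟨h1, h2⟩ := b.D_inj _ _ _ _ (congrArg Subtype.val e)
      exact Prod.ext h1 h2
    · obtain ⟨i, k, e⟩ := b.D_form d d.2
      exact ⟨(i, k), Subtype.ext e.symm⟩
  rw [← Nat.card_eq_of_bijective f hf]; simp

theorem D_pow (d : G) (hd : d ∈ Subgroup.closure ({b.eZ, b.eW} : Set G)) : d ^ 3 = 1 := by
  obtain ⟨i, k, rfl⟩ := b.D_form d hd
  rw [((b.ψc_comm c5).pow_pow _ _).mul_pow, ← pow_mul, ← pow_mul, mul_comm, pow_mul,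
    b.eZ_pow, one_pow, one_mul, mul_comm, pow_mul, b.eW_pow, one_pow]

include b in
theorem exists_nine (H : Subgroup G) {q : G} (hq : q ∈ H) (hq3 : q ^ 3 = 1)
    (h9 : 9 ∣ Nat.card H) :
    ∃ Q : Subgroup G, Q ≤ H ∧ q ∈ Q ∧ Nat.card Q = 9 ∧ ∀ x ∈ Q, ∀ y ∈ Q, x * y = y * x := by
  haveI : Fact (Nat.Prime 3) := ⟨Nat.prime_three⟩
  have hp : IsPGroup 3 (Subgroup.zpowers (⟨q, hq⟩ : H)) := by
    intro g
    obtain ⟨n, hn⟩ := g.2
    refine ⟨1, Subtype.ext ?_⟩
    rw [Subgroup.coe_pow, ← hn, Subgroup.coe_one]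
    show ((⟨q, hq⟩ : H) ^ n) ^ (3 ^ 1) = 1
    rw [pow_one, ← zpow_natCast, ← zpow_mul, mul_comm, zpow_mul, zpow_natCast]
    have : (⟨q, hq⟩ : H) ^ 3 = 1 := Subtype.ext (by simpa using hq3)
    rw [this, one_zpow]
  obtain ⟨P, hP⟩ := hp.exists_le_sylow
  have hc : Nat.card P = 9 := by
    rw [P.card_eq_multiplicity]
    have h2 : 2 ≤ (Nat.card H).factorization 3 :=
      (Nat.prime_three.pow_dvd_iff_le_factorization Nat.card_pos.ne').mp (by simpa using h9)
    have h3 : (Nat.card H).factorization 3 < 3 := by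
      by_contra! hlt
      exact b.not_dvd (dvd_trans
        ((Nat.prime_three.pow_dvd_iff_le_factorization Nat.card_pos.ne').mpr hlt :
          3 ^ 3 ∣ Nat.card H) (Subgroup.card_subgroup_dvd_card H))
    rw [show (Nat.card H).factorization 3 = 2 by omega]; rfl
  refine ⟨(P : Subgroup H).map H.subtype, Subgroup.map_subtype_le _,
    ⟨_, hP (Subgroup.mem_zpowers _), rfl⟩, ?_, ?_⟩
  · rw [Subgroup.card_map_of_injective Subtype.val_injective]; exact hc
  · rintro _ ⟨x, hx, rfl⟩ _ ⟨y, hy, rfl⟩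
    have h := IsPGroup.commutative_of_card_eq_prime_sq (p := 3) (G := (P : Subgroup H))
      (by rw [hc]; rfl) ⟨x, hx⟩ ⟨y, hy⟩
    exact congrArg (fun u : (P : Subgroup H) => ((u : H) : G)) h

theorem not_nine_dvd_cent_X : ¬ 9 ∣ Nat.card (Subgroup.centralizer ({b.eX} : Set G)) := by
  intro h9
  obtain ⟨Q, hQ, hz, hc, hcomm⟩ := b.exists_nine _
    (Subgroup.mem_centralizer_singleton_iff.mpr (b.ψc_comm b5).eq) b.eZ_pow h9
  have hle : Q ≤ Subgroup.zpowers b.eZ := by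
    intro k hk
    obtain ⟨i, x, rfl⟩ := b.cent_Z_form k (hcomm k hk _ hz)
    have hX : Commute (b.eZ ^ (i : ℕ) * b.φ x) b.eX :=
      Subgroup.mem_centralizer_singleton_iff.mp (hQ hk)
    have hx : x * b5 = b5 * x := b.inj (by
      rw [map_mul, map_mul]
      have h1 : Commute (b.eZ ^ (i : ℕ))⁻¹ b.eX := ((b.ψc_comm b5).pow_left _).inv_left
      have := h1.mul_left hX
      rw [inv_mul_cancel_left] at this
      exact this.eq)
    have h9' : (b.eZ ^ (i : ℕ) * b.φ x) ^ 9 = 1 := by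
      have := pow_card_eq_one' (x := (⟨_, hk⟩ : Q))
      rw [hc] at this
      exact congrArg Subtype.val this
    rw [((b.ψc_comm x).pow_left _).mul_pow, ← pow_mul, mul_comm, pow_mul,
      show b.eZ ^ 9 = 1 by rw [show (9 : ℕ) = 3 * 3 from rfl, pow_mul, b.eZ_pow, one_pow],
      one_pow, one_mul, ← map_pow, ← map_one b.φ] at h9'
    rw [x_three_b5 x hx (b.inj h9'), map_one, mul_one]
    exact pow_mem (Subgroup.mem_zpowers _) _
  have := Subgroup.card_le_of_le hle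
  rw [hc, Nat.card_zpowers] at this
  have := Nat.le_of_dvd (by norm_num) (orderOf_dvd_of_pow_eq_one b.eZ_pow)
  omega

theorem nine_dvd_cent_J : 9 ∣ Nat.card (Subgroup.centralizer ({b.eJ} : Set G)) := by
  rw [← b.card_D]
  refine Subgroup.card_dvd_of_le ((Subgroup.closure_le _).mpr ?_)
  rintro k (rfl | rfl) <;> rw [SetLike.mem_coe, Subgroup.mem_centralizer_singleton_iff]
  · exact (b.ψc_comm r5).eq
  · rw [← map_mul, ← map_mul, p5_rels.2.2.2.2.2.2.2.2.2.2.2.2.2.2.2]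

theorem card_cent_conj {u v : G} (h : IsConj u v) :
    Nat.card (Subgroup.centralizer ({u} : Set G)) =
      Nat.card (Subgroup.centralizer ({v} : Set G)) := by
  obtain ⟨c, rfl⟩ := isConj_iff.mp h
  exact (Local.card_centralizer_conj c u).symm

theorem not_isConj_X_J : ¬ IsConj b.eX b.eJ := fun h =>
  b.not_nine_dvd_cent_X (card_cent_conj h ▸ b.nine_dvd_cent_J)

theorem card_cent_Z : 120 ≤ Nat.card (Subgroup.centralizer ({b.eZ} : Set G)) := by
  have := Nat.card_le_card_of_injective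
    (fun x => (⟨b.φ x, Subgroup.mem_centralizer_singleton_iff.mpr (b.ψc_comm x).symm.eq⟩ :
      Subgroup.centralizer ({b.eZ} : Set G))) fun u v e => b.inj (congrArg Subtype.val e)
  simpa [Nat.card_eq_fintype_card, Fintype.card_perm, Nat.factorial] using this

theorem card_cent_W : 120 ≤ Nat.card (Subgroup.centralizer ({b.eW} : Set G)) := by
  rw [← card_cent_conj (isConj_iff.mpr ⟨b.g, b.conj_g_ψ c5⟩ : IsConj b.eZ b.eW)]
  exact b.card_cent_Z

theorem card_cent_ZW : Nat.card (Subgroup.centralizer ({b.eZ * b.eW} : Set G)) = 36 := by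
  rw [eZ, b.ψ_apply]; exact b.card_y

omit [Finite G] in
theorem cent_inv (u : G) :
    Subgroup.centralizer ({u⁻¹} : Set G) = Subgroup.centralizer ({u} : Set G) := by
  ext k
  simp only [Subgroup.mem_centralizer_singleton_iff]
  exact ⟨fun e => (Commute.inv_right_iff.mp e).eq, fun e => (Commute.inv_right e).eq⟩

theorem mem_D_of_mem_cent_y {q : G} (hq : Commute q (b.eZ * b.eW)) {n : ℕ} (hn : q ^ (2 * n) = q) :
    q ∈ Subgroup.closure ({b.eZ, b.eW} : Set G) := by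
  have h : q ^ 2 ∈ Subgroup.closure ({b.eZ, b.eW} : Set G) := by
    have := b.sq_y q (Subgroup.mem_centralizer_singleton_iff.mpr (by
      rw [← b.ψ_apply]; exact hq.eq))
    rwa [← b.ψ_apply] at this
  rw [← hn, pow_mul]; exact pow_mem h n

theorem bad_of_comm_y (g : G) (h2 : orderOf g = 2) (hy : Commute g (b.eZ * b.eW))
    (hne : g ≠ b.eJ) : b.IsBad g := by
  haveI : Fact (Nat.Prime 3) := ⟨Nat.prime_three⟩
  have hgg : g * g = 1 := by rw [← pow_two, ← h2, pow_orderOf_eq_one]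
  have hyD : b.eZ * b.eW ∈ Subgroup.closure ({b.eZ, b.eW} : Set G) :=
    mul_mem (Subgroup.subset_closure (by simp)) (Subgroup.subset_closure (by simp))
  have hy3 := b.D_pow _ hyD
  refine ⟨h2, fun hJ => ?_, fun hX => ?_⟩
  · obtain ⟨Q, hQ, hyQ, hc, hcomm⟩ := b.exists_nine _
      (Subgroup.mem_centralizer_singleton_iff.mpr hy.symm.eq) hy3
      ((card_cent_conj hJ).symm ▸ b.nine_dvd_cent_J)
    have hle : Q ≤ Subgroup.closure ({b.eZ, b.eW} : Set G) := fun k hk =>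
      b.mem_D_of_mem_cent_y (hcomm k hk _ hyQ) (n := 5) (by
        have h := pow_card_eq_one' (x := (⟨k, hk⟩ : Q))
        rw [hc] at h
        have h' : k ^ 9 = 1 := congrArg Subtype.val h
        rw [show 2 * 5 = 9 + 1 from rfl, pow_succ, h', one_mul])
    have hQD := Subgroup.eq_of_le_of_card_ge hle (by rw [hc, b.card_D])
    rw [hQD] at hQ
    have hz : Commute g b.eZ := (Subgroup.mem_centralizer_singleton_iff.mp
      (hQ (Subgroup.subset_closure (by simp)))).symm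
    have hw : Commute g b.eW := (Subgroup.mem_centralizer_singleton_iff.mp
      (hQ (Subgroup.subset_closure (by simp)))).symm
    obtain ⟨x, rfl, hx2⟩ := b.cent_Z_invol g hz hgg
    have hxc : x * c5 = c5 * x := b.inj (by rw [map_mul, map_mul]; exact hw.eq)
    rcases eq_or_ne x 1 with rfl | hx1
    · simp at h2
    · exact hne (by rw [Local.s5_centralizer x (by rw [pow_two]; exact hx2) hxc hx1])
  · obtain ⟨h, hh⟩ := isConj_iff.mp hX.symm
    set K := Subgroup.centralizer ({b.eX} : Set G)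
    have hyK : h⁻¹ * (b.eZ * b.eW) * h ∈ K := by
      rw [Subgroup.mem_centralizer_singleton_iff]
      have e := hy.map (MulAut.conj h⁻¹).toMonoidHom
      simp only [← hh, MulEquiv.coe_toMonoidHom, MulAut.conj_apply, inv_inv] at e
      simpa [mul_assoc] using e.symm.eq
    have hzK : b.eZ ∈ K := Subgroup.mem_centralizer_singleton_iff.mpr (b.ψc_comm b5).eq
    -- the Sylow subgroups of `K` have order three
    have hpow : ∀ q : G, q ∈ K → q ^ 3 = 1 → q ≠ 1 → ∀ hq : q ∈ K,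
        ∃ P : Sylow 3 K, (P : Subgroup K) = Subgroup.zpowers (⟨q, hq⟩ : K) := by
      intro q hqK hq3 hq1 hq
      have h1 : Nat.card (Subgroup.zpowers (⟨q, hq⟩ : K)) = 3 := by
        rw [Nat.card_zpowers]
        exact orderOf_eq_prime (Subtype.ext (by simpa using hq3))
          fun e => hq1 (congrArg Subtype.val e)
      have hf : (Nat.card K).factorization 3 = 1 := by
        have h2 : 1 ≤ (Nat.card K).factorization 3 :=
          (Nat.prime_three.pow_dvd_iff_le_factorization Nat.card_pos.ne').mp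
            (by rw [pow_one, ← h1]; exact Subgroup.card_subgroup_dvd_card _)
        have h3 : ¬ 2 ≤ (Nat.card K).factorization 3 := fun h =>
          b.not_nine_dvd_cent_X
            ((Nat.prime_three.pow_dvd_iff_le_factorization Nat.card_pos.ne').mpr h)
        omega
      exact ⟨Sylow.ofCard _ (by rw [hf, pow_one]; exact h1), rfl⟩
    have hz1 : b.eZ ≠ 1 := fun e => p5_rels.2.2.2.2.2.2.2.2.2.2.2.2.2.2.1
      (b.ψ_injective (by rw [map_one]; exact e))
    have hy1 : b.eZ * b.eW ≠ 1 := fun e => absurd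
      (b.D_inj 1 1 0 0 (by simpa using e)).1 (by decide)
    obtain ⟨P, hP⟩ := hpow _ hzK b.eZ_pow hz1 hzK
    obtain ⟨P', hP'⟩ := hpow _ hyK
      (by have := conj_pow (i := 3) (a := h⁻¹) (b := b.eZ * b.eW)
          rw [inv_inv, hy3] at this; rw [this]; simp)
      (fun e => hy1 (by
        calc b.eZ * b.eW = h * (h⁻¹ * (b.eZ * b.eW) * h) * h⁻¹ := by simp [mul_assoc]
          _ = 1 := by rw [e]; simp))
      hyK
    obtain ⟨c, hc⟩ := MulAction.exists_smul_eq K P P'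
    have hm : (⟨_, hyK⟩ : K) ∈ ((c • P : Sylow 3 K) : Subgroup K) := by
      rw [hc, hP']; exact Subgroup.mem_zpowers _
    obtain ⟨u, hu, hu'⟩ : ∃ u ∈ (P : Subgroup K), c * u * c⁻¹ = ⟨_, hyK⟩ := by
      rw [Sylow.coe_subgroup_smul, Subgroup.mem_smul_pointwise_iff_exists] at hm
      obtain ⟨u, hu, e⟩ := hm
      exact ⟨u, hu, by rw [← e]; simp [MulAut.smul_def]⟩
    rw [hP] at hu
    obtain ⟨n, rfl⟩ := hu
    have hu'' : (c : G) * b.eZ ^ n * (c : G)⁻¹ = h⁻¹ * (b.eZ * b.eW) * h := by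
      simpa using congrArg Subtype.val hu'
    have hcard := card_cent_conj (isConj_iff.mpr ⟨(c : G), hu''⟩)
    have hconj : IsConj (b.eZ * b.eW) (h⁻¹ * (b.eZ * b.eW) * h) :=
      isConj_iff.mpr ⟨h⁻¹, by rw [inv_inv]⟩
    rw [← card_cent_conj hconj, b.card_cent_ZW] at hcard
    rcases Local.zpowers_three b.eZ_pow ⟨n, rfl⟩ with e | e | e <;> simp only at e <;> rw [e] at hu'' hcard
    · exact hy1 (by
        calc b.eZ * b.eW = h * (h⁻¹ * (b.eZ * b.eW) * h) * h⁻¹ := by simp [mul_assoc]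
          _ = 1 := by rw [← hu'']; simp)
    · have := b.card_cent_Z; omega
    · rw [cent_inv] at hcard; have := b.card_cent_Z; omega

/-- The variant of `bad_of_comm_y` for `eZ * eW⁻¹`. -/
theorem bad_of_comm_y' (g : G) (h2 : orderOf g = 2) (hy : Commute g (b.eZ * b.eW⁻¹))
    (hne : g ≠ b.eJ) : b.IsBad g := by
  have hc : IsConj g (b.eT * g * b.eT) := isConj_iff.mpr ⟨b.eT, by rw [b.eT_inv]⟩
  have hbad : b.IsBad (b.eT * g * b.eT) := by
    refine b.bad_of_comm_y _ ?_ ?_ ?_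
    · refine orderOf_eq_prime ?_ fun e => ?_
      · have hg : g * g = 1 := by rw [← pow_two, ← h2, pow_orderOf_eq_one]
        calc (b.eT * g * b.eT) ^ 2 = b.eT * g * (b.eT * b.eT) * g * b.eT := by
              simp [pow_two, mul_assoc]
          _ = 1 := by rw [b.eT_sq, mul_one, mul_assoc b.eT, hg, mul_one, b.eT_sq]
      · have h1 : g = 1 := by
          calc g = (b.eT * b.eT) * g * (b.eT * b.eT) := by simp [b.eT_sq]
            _ = b.eT * (b.eT * g * b.eT) * b.eT := by simp [mul_assoc]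
            _ = 1 := by rw [e, mul_one, b.eT_sq]
        simp [h1] at h2
    · have e := hy.map (MulAut.conj b.eT).toMonoidHom
      simp only [MulEquiv.coe_toMonoidHom, MulAut.conj_apply, b.eT_inv] at e
      have e2 : b.eT * (b.eZ * b.eW⁻¹) * b.eT = (b.eZ * b.eW)⁻¹ := by
        calc b.eT * (b.eZ * b.eW⁻¹) * b.eT
            = b.eT * b.eZ * b.eT * (b.eT⁻¹ * b.eW⁻¹ * b.eT) := by simp [mul_assoc]
          _ = b.eZ⁻¹ * b.eW⁻¹ := by
            rw [b.eT_conj_eZ, (b.comm_eT_eW.inv_inv).eq]; simp [mul_assoc]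
          _ = (b.eZ * b.eW)⁻¹ := by rw [mul_inv_rev, b.comm_eZ_eW.inv_inv.eq]
      rw [e2] at e
      exact Commute.inv_right_iff.mp e
    · intro e
      apply hne
      calc g = (b.eT * b.eT) * g * (b.eT * b.eT) := by simp [b.eT_sq]
        _ = b.eT * (b.eT * g * b.eT) * b.eT := by simp [mul_assoc]
        _ = b.eJ := by rw [e, b.comm_eT_eJ.eq, mul_assoc, b.eT_sq, mul_one]
  exact ⟨h2, fun h => hbad.2.1 (hc.symm.trans h), fun h => hbad.2.2 (hc.symm.trans h)⟩

/-- An involution exchanging `eZ` and `eW`. -/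
theorem exists_swap : ∃ c : G, orderOf c = 2 ∧ c * b.eZ * c = b.eW ∧ Commute c b.eJ ∧
    c * b.eT * c = b.φ b.σ ∧ b.IsBad c := by
  have hzw := b.comm_eZ_eW
  -- an element of the centraliser of `eZ * eW` outside `D⟨eJ⟩`
  obtain ⟨c, hc, hout⟩ : ∃ c ∈ Subgroup.centralizer ({b.eZ * b.eW} : Set G),
      ∀ i k : Fin 3, ∀ l : Fin 2, c ≠ b.eZ ^ (i : ℕ) * (b.eW ^ (k : ℕ) * b.eJ ^ (l : ℕ)) := by
    by_contra! hall
    have h36 := b.card_cent_ZW
    choose i k l e using hall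
    have := Nat.card_le_card_of_injective
      (fun x : Subgroup.centralizer ({b.eZ * b.eW} : Set G) =>
        ((i x x.2, k x x.2, l x x.2) : Fin 3 × Fin 3 × Fin 2))
      (fun x y h => Subtype.ext (by
        simp only [Prod.mk.injEq] at h
        rw [e x x.2, e y y.2, h.1, h.2.1, h.2.2]))
    rw [h36] at this
    simp at this
  have hcy : Commute c (b.eZ * b.eW) := Subgroup.mem_centralizer_singleton_iff.mp hc
  have hD : ∀ d ∈ Subgroup.closure ({b.eZ, b.eW} : Set G), Commute d (b.eZ * b.eW) := by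
    intro d hd
    obtain ⟨i, k, rfl⟩ := b.D_form d hd
    exact ((((Commute.refl _).mul_right hzw).pow_left _).mul_left
      ((hzw.symm.mul_right (Commute.refl _)).pow_left _))
  have hzD : b.eZ ∈ Subgroup.closure ({b.eZ, b.eW} : Set G) := Subgroup.subset_closure (by simp)
  have hwD : b.eW ∈ Subgroup.closure ({b.eZ, b.eW} : Set G) := Subgroup.subset_closure (by simp)
  have hcd : ∀ d ∈ Subgroup.closure ({b.eZ, b.eW} : Set G),
      c * d * c⁻¹ ∈ Subgroup.closure ({b.eZ, b.eW} : Set G) := by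
    intro d hd
    refine b.mem_D_of_mem_cent_y ?_ (n := 2) ?_
    · exact (hcy.mul_left (hD d hd)).mul_left hcy.inv_left
    · rw [show 2 * 2 = 3 + 1 from rfl, pow_succ, conj_pow, b.D_pow d hd]; simp
  have h36 : ∀ i k : Fin 3, i ≠ 0 → k ≠ 0 →
      Nat.card (Subgroup.centralizer ({b.eZ ^ (i : ℕ) * b.eW ^ (k : ℕ)} : Set G)) = 36 := by
    have hz2 : b.eZ ^ 2 = b.eZ⁻¹ := by rw [eq_inv_iff_mul_eq_one, ← pow_succ, b.eZ_pow]
    have hw2 : b.eW ^ 2 = b.eW⁻¹ := by rw [eq_inv_iff_mul_eq_one, ← pow_succ, b.eW_pow]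
    have hflip : Nat.card (Subgroup.centralizer ({b.eZ⁻¹ * b.eW} : Set G)) = 36 := by
      rw [← b.card_cent_ZW]
      refine (card_cent_conj (isConj_iff.mpr ⟨b.eT, ?_⟩)).symm
      rw [b.eT_inv]
      calc b.eT * (b.eZ * b.eW) * b.eT
          = b.eT * b.eZ * b.eT * (b.eT⁻¹ * b.eW * b.eT) := by simp [mul_assoc]
        _ = b.eZ⁻¹ * b.eW := by
          rw [b.eT_conj_eZ, (b.comm_eT_eW.inv_left).eq]; simp [mul_assoc]
    intro i k hi hk
    fin_cases i <;> fin_cases k <;>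
      simp only [Fin.zero_eta, Fin.isValue, ne_eq, not_true_eq_false] at hi hk <;>
      simp only [Fin.mk_one, Fin.reduceFinMk, Fin.val_one, Fin.val_two, pow_one, hz2, hw2]
    · exact b.card_cent_ZW
    · rw [show b.eZ * b.eW⁻¹ = (b.eZ⁻¹ * b.eW)⁻¹ by
        rw [mul_inv_rev, inv_inv, hzw.inv_right.eq], cent_inv]
      exact hflip
    · exact hflip
    · rw [hzw.inv_inv.eq, ← mul_inv_rev, cent_inv]
      exact b.card_cent_ZW
  have hcz : c * b.eZ * c⁻¹ = b.eW ∧ c * b.eW * c⁻¹ = b.eZ := by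
    obtain ⟨i, k, e⟩ := b.D_form _ (hcd _ hzD)
    obtain ⟨i', k', e'⟩ := b.D_form _ (hcd _ hwD)
    have hsum : c * b.eZ * c⁻¹ * (c * b.eW * c⁻¹) = b.eZ * b.eW := by
      calc c * b.eZ * c⁻¹ * (c * b.eW * c⁻¹) = c * (b.eZ * b.eW) * c⁻¹ := by simp [mul_assoc]
        _ = b.eZ * b.eW := by rw [hcy.eq, mul_inv_cancel_right]
    rw [e, e', ((hzw.symm).pow_pow _ _).mul_mul_mul_comm, ← pow_add, ← pow_add] at hsum
    have hs : b.eZ ^ ((i + i' : Fin 3) : ℕ) * b.eW ^ ((k + k' : Fin 3) : ℕ) =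
        b.eZ ^ ((1 : Fin 3) : ℕ) * b.eW ^ ((1 : Fin 3) : ℕ) := by
      refine Eq.trans ?_ (hsum.trans (by simp))
      congr 1
      · exact pow_eq_pow_of_modEq (by simp [Nat.ModEq, Fin.val_add]) b.eZ_pow
      · exact pow_eq_pow_of_modEq (by simp [Nat.ModEq, Fin.val_add]) b.eW_pow
    obtain ⟨hi', hk'⟩ := b.D_inj _ _ _ _ hs
    have hzcard : 120 ≤ Nat.card (Subgroup.centralizer
        ({b.eZ ^ (i : ℕ) * b.eW ^ (k : ℕ)} : Set G)) := by
      rw [← e, Local.card_centralizer_conj]; exact b.card_cent_Z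
    have hwcard : 120 ≤ Nat.card (Subgroup.centralizer
        ({b.eZ ^ (i' : ℕ) * b.eW ^ (k' : ℕ)} : Set G)) := by
      rw [← e', Local.card_centralizer_conj]; exact b.card_cent_W
    have hik : i = 0 ∨ k = 0 := by
      by_contra! h; have := h36 i k h.1 h.2; omega
    have hik' : i' = 0 ∨ k' = 0 := by
      by_contra! h; have := h36 i' k' h.1 h.2; omega
    have hcases : (i = 0 ∧ k = 1 ∧ i' = 1 ∧ k' = 0) ∨ (i = 1 ∧ k = 0 ∧ i' = 0 ∧ k' = 1) := by
      have hall : ∀ i k i' k' : Fin 3, i + i' = 1 → k + k' = 1 → (i = 0 ∨ k = 0) →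
          (i' = 0 ∨ k' = 0) →
          (i = 0 ∧ k = 1 ∧ i' = 1 ∧ k' = 0) ∨ (i = 1 ∧ k = 0 ∧ i' = 0 ∧ k' = 1) := by
        decide
      exact hall i k i' k' hi' hk' hik hik'
    rcases hcases with ⟨rfl, rfl, rfl, rfl⟩ | ⟨rfl, rfl, rfl, rfl⟩
    · exact ⟨by simpa using e, by simpa using e'⟩
    · exfalso
      obtain ⟨i, k, l, hcl⟩ := b.cent_D_form c
        (mul_inv_eq_iff_eq_mul.mp (show c * b.eZ * c⁻¹ = b.eZ by simpa using e))
        (mul_inv_eq_iff_eq_mul.mp (show c * b.eW * c⁻¹ = b.eW by simpa using e'))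
      exact hout i k l hcl
  -- the involution `c ^ 3`
  have hc2 : c ^ 2 ∈ Subgroup.closure ({b.eZ, b.eW} : Set G) := by
    have := b.sq_y c (by rw [← b.ψ_apply]; exact hc)
    rwa [← b.ψ_apply] at this
  set d := c * c ^ 2 with hd
  have hdd : d * d = 1 := by
    have h3 := b.D_pow _ hc2
    rw [hd, ← pow_succ', ← pow_add, show 2 + 1 + (2 + 1) = 2 * 3 from rfl, pow_mul, h3]
  have hdi : d⁻¹ = d := inv_eq_of_mul_eq_one_right hdd
  have hswap : ∀ u v : G, c * u * c⁻¹ = v → Commute (c ^ 2) u → d * u * d = v := by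
    intro u v huv hu
    calc d * u * d = d * u * d⁻¹ := by rw [hdi]
      _ = c * (c ^ 2 * u * (c ^ 2)⁻¹) * c⁻¹ := by rw [hd]; simp [mul_assoc]
      _ = v := by rw [hu.eq, mul_inv_cancel_right, huv]
  obtain ⟨i2, k2, hc2'⟩ := b.D_form _ hc2
  have hcommD : Commute (c ^ 2) b.eZ ∧ Commute (c ^ 2) b.eW := by
    rw [hc2']
    exact ⟨((Commute.refl _).pow_left _).mul_left (hzw.symm.pow_left _),
      (hzw.pow_left _).mul_left ((Commute.refl _).pow_left _)⟩
  have hdz : d * b.eZ * d = b.eW := hswap _ _ hcz.1 hcommD.1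
  have hdw : d * b.eW * d = b.eZ := hswap _ _ hcz.2 hcommD.2
  have hd_eq : ∀ u v : G, d * u * d = v → d * v * d = u := fun u v e => by
    calc d * v * d = (d * d) * u * (d * d) := by rw [← e]; simp [mul_assoc]
      _ = u := by simp [hdd]
  -- it centralises `eJ`
  have hdJ : Commute d b.eJ := by
    have h1 : Commute (d * b.eJ * d) b.eZ := by
      have := (show Commute b.eJ b.eW from (Commute.map (by
        exact p5_rels.2.2.2.2.2.2.2.2.2.2.2.2.2.2.2) b.φ)).map (MulAut.conj d).toMonoidHom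
      simpa [hdi, hdw] using this
    have h2 : Commute (d * b.eJ * d) b.eW := by
      have := ((b.ψc_comm r5).symm).map (MulAut.conj d).toMonoidHom
      simpa [hdi, hdz] using this
    have hsq : (d * b.eJ * d) * (d * b.eJ * d) = 1 := by
      calc (d * b.eJ * d) * (d * b.eJ * d) = d * b.eJ * (d * d) * b.eJ * d := by simp [mul_assoc]
        _ = 1 := by rw [hdd, mul_one, mul_assoc d, b.eJ_sq, mul_one, hdd]
    obtain ⟨x, hx, hx2⟩ := b.cent_Z_invol _ h1 hsq
    have hxc : x * c5 = c5 * x := b.inj (by rw [map_mul, map_mul, ← hx]; exact h2.eq)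
    have hx1 : x ≠ 1 := by
      rintro rfl
      rw [map_one] at hx
      have h := hd_eq _ _ hx
      rw [mul_one, hdd] at h
      exact p5_rels.2.2.2.2.2.2.1 (b.inj (by rw [map_one]; exact h.symm))
    rw [Local.s5_centralizer x (by rw [pow_two]; exact hx2) hxc hx1] at hx
    show d * b.eJ = b.eJ * d
    calc d * b.eJ = d * b.eJ * d * d := by rw [mul_assoc _ d d, hdd, mul_one]
      _ = b.eJ * d := by rw [hx]
  -- the image of `eT`
  have hT1 : Commute (d * b.eT * d) b.eZ := by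
    have := b.comm_eT_eW.map (MulAut.conj d).toMonoidHom
    simpa [hdi, hdw] using this
  have hTsq : (d * b.eT * d) * (d * b.eT * d) = 1 := by
    calc (d * b.eT * d) * (d * b.eT * d) = d * b.eT * (d * d) * b.eT * d := by simp [mul_assoc]
      _ = 1 := by rw [hdd, mul_one, mul_assoc d, b.eT_sq, mul_one, hdd]
  obtain ⟨x, hx, hx2⟩ := b.cent_Z_invol _ hT1 hTsq
  have hxc : x * c5 * x⁻¹ = c5⁻¹ := by
    have hxi : x⁻¹ = x := inv_eq_of_mul_eq_one_right hx2
    refine b.inj ?_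
    rw [hxi, map_mul, map_mul, ← hx, map_inv]
    calc d * b.eT * d * b.eW * (d * b.eT * d) = d * (b.eT * (d * b.eW * d) * b.eT) * d := by
          simp [mul_assoc]
      _ = b.eW⁻¹ := by
        rw [hdw, b.eT_conj_eZ]
        have := congrArg (·⁻¹) hdz
        simpa [hdi, mul_assoc] using this
  have hxr : x * r5 = r5 * x := b.inj (by
    rw [map_mul, map_mul, ← hx]
    exact ((hdJ.mul_left b.comm_eT_eJ).mul_left hdJ).eq)
  obtain ⟨k, hk⟩ := Local.s5_sigma x (by rw [pow_two]; exact hx2) hxc hxr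
  set q := b.eW ^ (k : ℕ) with hq
  have hφ : b.φ (c5 ^ (k : ℕ) * x * (c5 ^ (k : ℕ))⁻¹) = q * (d * b.eT * d) * q⁻¹ := by
    rw [map_mul, map_mul, map_inv, map_pow, hx]
  have hσ : c5 ^ (k : ℕ) * x * (c5 ^ (k : ℕ))⁻¹ = b.σ := by
    have h1 : IsConj (b.φ b.σ) b.eT := isConj_iff.mpr ⟨b.g⁻¹, by rw [inv_inv, eT, b.ψ_apply]⟩
    have h2 : IsConj b.eT (b.φ (c5 ^ (k : ℕ) * x * (c5 ^ (k : ℕ))⁻¹)) :=
      isConj_iff.mpr ⟨q * d, by rw [hφ, mul_inv_rev, hdi]; simp [mul_assoc]⟩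
    have h3 := h1.trans h2
    rcases b.σ_cases with hs | hs <;> rcases hk with e | e <;> rw [e, hs] <;> rw [e, hs] at h3
    · exact absurd (h3.symm.trans b.isConj_eJ_eA.symm) b.not_isConj_X_J
    · exact absurd (h3.trans b.isConj_eJ_eA.symm) b.not_isConj_X_J
  have hqz : Commute q b.eZ := (hzw.symm).pow_left _
  have hqT : Commute q b.eT := (b.comm_eT_eW.symm).pow_left _
  have hqJ : Commute q b.eJ :=
    ((Commute.map p5_rels.2.2.2.2.2.2.2.2.2.2.2.2.2.2.2 b.φ).symm).pow_left _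
  refine ⟨q * d * q⁻¹, ?_, ?_, ?_, ?_, ?_⟩
  · have hd1 : d ≠ 1 := by
      intro e
      rw [e, one_mul, mul_one] at hdz
      exact absurd (b.D_inj 1 0 0 1 (by simpa using hdz)).1 (by decide)
    refine orderOf_eq_prime ?_ ?_
    · rw [conj_pow, pow_two, hdd]; simp
    · exact fun e => hd1 (conj_eq_one_iff.mp e)
  · calc q * d * q⁻¹ * b.eZ * (q * d * q⁻¹) = q * (d * (q⁻¹ * b.eZ * q) * d) * q⁻¹ := by
          simp [mul_assoc]
      _ = q * b.eW * q⁻¹ := by rw [hqz.inv_left.eq, inv_mul_cancel_right, hdz]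
      _ = b.eW := by
        rw [(show Commute q b.eW from (Commute.refl _).pow_left _).eq, mul_inv_cancel_right]
  · exact (hqJ.mul_left hdJ).mul_left hqJ.inv_left
  · calc q * d * q⁻¹ * b.eT * (q * d * q⁻¹) = q * (d * (q⁻¹ * b.eT * q) * d) * q⁻¹ := by
          simp [mul_assoc]
      _ = q * (d * b.eT * d) * q⁻¹ := by rw [hqT.inv_left.eq, inv_mul_cancel_right]
      _ = b.φ b.σ := by rw [← hφ, hσ]
  · have hdy : Commute d (b.eZ * b.eW) := by
      show d * (b.eZ * b.eW) = (b.eZ * b.eW) * d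
      calc d * (b.eZ * b.eW) = (d * b.eZ * d) * (d * b.eW * d) * d := by
            simp only [mul_assoc, hdd, mul_one]
            rw [← mul_assoc d d, hdd, one_mul]
        _ = (b.eZ * b.eW) * d := by rw [hdz, hdw, hzw.eq]
    have hqy : Commute q (b.eZ * b.eW) := hqz.mul_right ((Commute.refl _).pow_left _)
    refine b.bad_of_comm_y _ ?_ ((hqy.mul_left hdy).mul_left hqy.inv_left) ?_
    · refine orderOf_eq_prime ?_ ?_
      · rw [conj_pow, pow_two, hdd]; simp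
      · intro e
        rw [conj_eq_one_iff] at e
        rw [e, one_mul, mul_one] at hdz
        exact absurd (b.D_inj 1 0 0 1 (by simpa using hdz)).1 (by decide)
    · intro e
      have hdJ' : d = b.eJ := by
        calc d = q⁻¹ * (q * d * q⁻¹) * q := by simp [mul_assoc]
          _ = b.eJ := by rw [e, hqJ.inv_left.eq, inv_mul_cancel_right]
      rw [hdJ', (b.ψc_comm r5).symm.eq, mul_assoc, b.eJ_sq, mul_one] at hdz
      exact absurd (b.D_inj 1 0 0 1 (by simpa using hdz)).1 (by decide)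

end Base

end CfsgLib.SymEightThree
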