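import Cfsg.Agent.Lib.SymEightThree.Trivial.CaseACore
import Cfsg.Agent.Lib.SymEightThree.Trivial.Facts
import Cfsg.Agent.Lib.SymEightThree.Trivial.CF

/-!
The trivial configuration with `σ` a transposition is impossible.
-/

set_option autoImplicit false

namespace CfsgLib.SymEightThree.Base

variable {G : Type*} [Group G] [Finite G]

/-- The transposition case of the trivial configuration is impossible. -/
theorem false_of_trivial_a5 (b : Base G) (hσ : b.σ = a5) (hU : b.Trivial) : False :=
  b.false_of_trivial_a5_of_facts hσ (b.fixed_CF hU) b.not_isConj_X_J b.bad_of_comm_y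
    b.bad_of_comm_y' b.exists_swap (b.cf_cases hU)

end CfsgLib.SymEightThree.Base
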