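import Cfsg.Agent.Lib.SymEightThree.Trivial.Defs
import Mathlib.GroupTheory.Nilpotent
import Mathlib.GroupTheory.SpecificGroups.Alternating
import Mathlib.GroupTheory.NoncommCoprod

/-!
The trivial configuration with `σ` a transposition is impossible: a Sylow two-subgroup has order
sixteen and contains at most three involutions outside the two known classes, while the
centraliser of the Sylow three-subgroup forces four of them.
-/

set_option autoImplicit false

namespace CfsgLib.SymEightThree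

open Equiv Subgroup

namespace CaseA

theorem s5_facts :
    a5 * a5 = 1 ∧ r5 * r5 = 1 ∧ p5 * p5 = 1 ∧ a5 * r5 = b5 ∧ r5 * a5 = b5 ∧ a5 ≠ 1 ∧ r5 ≠ 1 ∧
      a5 ≠ r5 ∧ b5 ≠ 1 ∧ p5 * a5 * p5⁻¹ = r5 ∧ p5 * r5 * p5⁻¹ = a5 ∧ a5 * p5 * a5⁻¹ = p5 * b5 ∧
      a5 * (p5 * b5) * a5⁻¹ = p5 ∧ c5⁻¹ = a5 * c5 * a5⁻¹ ∧ r5 * c5 = c5 * r5 ∧
      r5 * b5 = b5 * r5 ∧ a5 * b5 = b5 * a5 ∧ p5 * b5 = b5 * p5 ∧ a5 * p5 ≠ p5 * a5 ∧
      r5 * p5 ≠ p5 * r5 ∧ a5 * r5 * a5⁻¹ = r5 := by
  decide +kernel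

theorem s5_conj : (∃ h, h * a5 * h⁻¹ = r5) ∧ (∃ h, h * p5 * h⁻¹ = b5) ∧
    ∃ h, h * (p5 * b5) * h⁻¹ = b5 := by
  decide +kernel

theorem cent_b5 : ∀ d : Perm (Fin 5), d * b5 = b5 * d → d * d = 1 →
    d = 1 ∨ d = a5 ∨ d = r5 ∨ d = b5 ∨ d = p5 ∨ d = p5 * b5 := by
  decide +kernel

theorem card_cent_b5 : Nat.card {d : Perm (Fin 5) // d * b5 = b5 * d} = 8 := by
  rw [Nat.card_eq_fintype_card]
  decide +kernel

variable {G : Type*} [Group G]

theorem isBad_of_isConj {b : Base G} {x y : G} (hx : b.IsBad x) (h : IsConj x y) : b.IsBad y := by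
  obtain ⟨h2, hj, hX⟩ := hx
  refine ⟨?_, fun hy => hj (h.trans hy), fun hy => hX (h.trans hy)⟩
  obtain ⟨k, rfl⟩ := isConj_iff.mp h
  exact (MulAut.conj k).orderOf_eq x |>.trans h2

theorem isConj_map {b : Base G} {d e : Perm (Fin 5)} (h : ∃ k, k * d * k⁻¹ = e) :
    IsConj (b.φ d) (b.φ e) := b.φ.map_isConj (isConj_iff.mpr h)

/-- `τ` commutes with the range of `φ` and is outside it. -/
theorem eT_eq {b : Base G} {d : Perm (Fin 5)} (hd : d * b5 = b5 * d)
    (hσ : b.σ = a5) : b.eT ≠ b.φ d := by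
  intro h
  have hc : ∀ y, d * y = y * d := fun y => b.inj (by
    rw [map_mul, map_mul, ← h]; exact b.ψσ_comm y)
  have h1 : d = 1 := by
    have key : ∀ d : Perm (Fin 5), d * b5 = b5 * d → d * a5 = a5 * d → d * p5 = p5 * d →
        d * c5 = c5 * d → d = 1 := by decide +kernel
    exact key d hd (hc _) (hc _) (hc _)
  subst h1
  exact s5_facts.2.2.2.2.2.1 (b.ψ_injective (by
    rw [map_one b.ψ, ← hσ]; exact h.trans (map_one b.φ)))

/-- The homomorphism whose range is the Sylow two-subgroup. -/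
noncomputable def hom (b : Base G) :
    zpowers b.eT × centralizer ({b5} : Set (Perm (Fin 5))) →* G :=
  MonoidHom.noncommCoprod (zpowers b.eT).subtype (b.φ.comp (centralizer _).subtype) fun u d => by
    obtain ⟨k, hk⟩ := mem_zpowers_iff.mp u.2
    show Commute (u : G) (b.φ (d : Perm (Fin 5)))
    rw [← hk]
    exact (b.ψσ_comm _).zpow_left k

theorem tau_sq {b : Base G} (hσ : b.σ = a5) : b.eT * b.eT = 1 ∧ b.eT ≠ 1 := by
  constructor
  · show b.ψ b.σ * b.ψ b.σ = 1
    rw [hσ, ← map_mul, s5_facts.1, map_one]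
  · have h := eT_eq (b := b) (d := 1) (by rw [one_mul, mul_one]) hσ
    rwa [map_one] at h

theorem mem_hom {b : Base G} (hσ : b.σ = a5) {g : G} :
    g ∈ (hom b).range ↔ ∃ d, d * b5 = b5 * d ∧ (g = b.φ d ∨ g = b.eT * b.φ d) := by
  constructor
  · rintro ⟨⟨⟨u, hu⟩, ⟨d, hd⟩⟩, rfl⟩
    refine ⟨d, mem_centralizer_singleton_iff.mp hd, ?_⟩
    show u * b.φ d = _ ∨ u * b.φ d = _
    obtain ⟨k, rfl⟩ := mem_zpowers_iff.mp hu
    have h2 : b.eT ^ (2 : ℤ) = 1 := by rw [zpow_two]; exact (tau_sq hσ).1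
    rcases Int.even_or_odd' k with ⟨m, rfl | rfl⟩
    · left; rw [zpow_mul, h2, one_zpow, one_mul]
    · right; rw [zpow_add, zpow_mul, h2, one_zpow, one_mul, zpow_one]
  · rintro ⟨d, hd, rfl | rfl⟩
    · exact ⟨⟨1, ⟨d, mem_centralizer_singleton_iff.mpr hd⟩⟩, one_mul _⟩
    · exact ⟨⟨⟨b.eT, mem_zpowers _⟩, ⟨d, mem_centralizer_singleton_iff.mpr hd⟩⟩, rfl⟩

theorem card_hom {b : Base G} (hσ : b.σ = a5) [Finite G] : Nat.card (hom b).range = 16 := by
  have hinj : Function.Injective (hom b) := by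
    rw [injective_iff_map_eq_one]
    rintro ⟨⟨u, hu⟩, ⟨d, hd⟩⟩ (h : u * b.φ d = 1)
    obtain ⟨k, rfl⟩ := mem_zpowers_iff.mp hu
    have hd' := mem_centralizer_singleton_iff.mp hd
    have h2 : b.eT ^ (2 : ℤ) = 1 := by rw [zpow_two]; exact (tau_sq hσ).1
    rcases Int.even_or_odd' k with ⟨m, rfl | rfl⟩
    · rw [zpow_mul, h2, one_zpow, one_mul, ← map_one b.φ] at h
      have := b.inj h
      subst this
      simp [zpow_mul, h2]
    · rw [zpow_add, zpow_mul, h2, one_zpow, one_mul, zpow_one] at h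
      have hinv : b.eT = b.φ d⁻¹ := by rw [map_inv]; exact eq_inv_of_mul_eq_one_left h
      exact absurd hinv (eT_eq (show Commute d⁻¹ b5 from (show Commute d b5 from hd').inv_left) hσ)
  rw [← Nat.card_congr (MonoidHom.ofInjective hinj).toEquiv, Nat.card_prod, Nat.card_zpowers,
    orderOf_eq_prime (by rw [pow_two]; exact (tau_sq hσ).1) (tau_sq hσ).2]
  have : Nat.card (centralizer ({b5} : Set (Perm (Fin 5)))) = 8 := by
    rw [← card_cent_b5]
    exact Nat.card_congr (Equiv.subtypeEquivRight fun d => mem_centralizer_singleton_iff)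
  rw [this]

end CaseA

namespace Base

variable {G : Type*} [Group G] [Finite G]

open CaseA in
/-- The transposition case of the trivial configuration, from the facts about the centraliser of
the Sylow three-subgroup. -/
theorem false_of_trivial_a5_of_facts (b : Base G) (hσ : b.σ = a5)
    (hfix : ∀ g ∈ b.CF, Commute g b.eP → g = 1 ∨ g = b.eT ∨ g = b.eX ∨ g = b.eT * b.eX)
    (hXJ : ¬ IsConj b.eX b.eJ)
    (hy : ∀ g, orderOf g = 2 → Commute g (b.eZ * b.eW) → g ≠ b.eJ → b.IsBad g)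
    (hy' : ∀ g, orderOf g = 2 → Commute g (b.eZ * b.eW⁻¹) → g ≠ b.eJ → b.IsBad g)
    (hc : ∃ c, orderOf c = 2 ∧ c * b.eZ * c = b.eW ∧ Commute c b.eJ ∧
      c * b.eT * c = b.φ b.σ ∧ b.IsBad c)
    (hCF : (∀ g ∈ b.CF, ∃ f ∈ b.F, Odd (orderOf (f * g))) ∨
      ∀ m ∈ b.CF, b.eP * m * b.eP = m⁻¹ → ∃ e ∈ b.CF, b.eP * m = e⁻¹ * b.eP * e) : False := by
  haveI : Fact (Nat.Prime 2) := ⟨Nat.prime_two⟩
  obtain ⟨haa, hrr, hpp, har, hra, ha1, hr1, hane, hb1, hpa, hpr, hap, hap', hca, hrc, hrb, hab,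
    hpb, hncap, hncrp, hara⟩ := s5_facts
  obtain ⟨hcAJ, hcPX, hcP'X⟩ := s5_conj
  obtain ⟨c, hc2, hczw, hcj, hctau, hcbad⟩ := hc
  rw [hσ] at hctau
  obtain ⟨htt, ht1⟩ := tau_sq hσ
  have tcomm : ∀ d, Commute b.eT (b.φ d) := b.ψσ_comm
  have cc : c * c = 1 := by rw [← pow_two, ← hc2, pow_orderOf_eq_one]
  have pp : b.eP * b.eP = 1 := by show b.φ p5 * b.φ p5 = 1; rw [← map_mul, hpp, map_one]
  have aa : b.eA * b.eA = 1 := by show b.φ a5 * b.φ a5 = 1; rw [← map_mul, haa, map_one]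
  have cinv : c⁻¹ = c := inv_eq_of_mul_eq_one_left cc
  have pinv : b.eP⁻¹ = b.eP := inv_eq_of_mul_eq_one_left pp
  have hca' : c * b.eA * c = b.eT := by
    show c * b.φ a5 * c = _
    rw [← hctau, ← mul_assoc, ← mul_assoc, cc, one_mul, mul_assoc, cc, mul_one]
  have hcj' : c * b.eJ * c = b.eJ := by rw [hcj.eq, mul_assoc, cc, mul_one]
  have hpa' : b.eP * b.eA * b.eP = b.eJ := by
    conv_lhs => arg 2; rw [← pinv]
    show b.φ p5 * b.φ a5 * (b.φ p5)⁻¹ = b.φ r5
    rw [← map_inv, ← map_mul, ← map_mul, hpa]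
  have hpj' : b.eP * b.eJ * b.eP = b.eA := by
    conv_lhs => arg 2; rw [← pinv]
    show b.φ p5 * b.φ r5 * (b.φ p5)⁻¹ = b.φ a5
    rw [← map_inv, ← map_mul, ← map_mul, hpr]
  have hpt' : b.eP * b.eT * b.eP = b.eT := by rw [← (tcomm p5).eq, mul_assoc, pp, mul_one]
  -- classes
  have tJ : IsConj b.eT b.eJ := by
    refine (isConj_iff.mpr ⟨b.g, ?_⟩).trans (isConj_map hcAJ)
    show b.g * b.ψ b.σ * b.g⁻¹ = _
    rw [b.conj_g_ψ, hσ]
  have aJ : IsConj b.eA b.eJ := isConj_map hcAJ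
  have pX : IsConj b.eP b.eX := isConj_map hcPX
  have p'X : IsConj (b.φ (p5 * b5)) b.eX := isConj_map hcP'X
  have tjX : IsConj (b.eT * b.eJ) b.eX := by
    refine isConj_iff.mpr ⟨b.g, ?_⟩
    show b.g * (b.ψ b.σ * b.φ r5) * b.g⁻¹ = _
    rw [← b.ψ_r, ← map_mul, b.conj_g_ψ, hσ, har]
  have taX : IsConj (b.eT * b.eA) b.eX := by
    refine (IsConj.symm ?_).trans tjX
    refine isConj_iff.mpr ⟨b.eP, ?_⟩
    rw [pinv, ← hpj']
    calc b.eP * (b.eT * b.eJ) * b.eP
        = (b.eP * b.eT * b.eP) * (b.eP * b.eJ * b.eP) := by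
          simp only [mul_assoc]; rw [← mul_assoc b.eP b.eP, pp, one_mul]
      _ = b.eT * (b.eP * b.eJ * b.eP) := by rw [hpt']
  -- the conjugate of `c` swapping `eA` and `eJ`
  set c' := c * b.eP * c * b.eP * c with hc'
  have hc'bad : b.IsBad c' := by
    refine isBad_of_isConj hcbad (isConj_iff.mpr ⟨c * b.eP, ?_⟩)
    rw [mul_inv_rev, cinv, pinv, hc']
    simp only [mul_assoc]
  have c'c' : c' * c' = 1 := by rw [← pow_two, ← hc'bad.1, pow_orderOf_eq_one]
  have hconj : ∀ g, c' * g * c' = c * (b.eP * (c * (b.eP * (c * g * c) * b.eP) * c) * b.eP) * c :=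
    fun g => by rw [hc']; simp only [mul_assoc]
  have hc't : c' * b.eT * c' = b.eT := by
    rw [hconj, hctau]
    show c * (b.eP * (c * (b.eP * b.eA * b.eP) * c) * b.eP) * c = _
    rw [hpa', hcj', hpj', hca']
  have hc'a : c' * b.eA * c' = b.eJ := by
    rw [hconj, hca', hpt', hctau]
    show c * (b.eP * b.eA * b.eP) * c = _
    rw [hpa', hcj']
  have hc'j : c' * b.eJ * c' = b.eA := by
    rw [hconj, hcj', hpj', hca', hpt', hctau]
  set m := b.eP * c' with hm
  have hcomm : ∀ {u v : G}, c' * u * c' = v → b.eP * v * b.eP = u → u * m = m * u := by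
    intro u v h1 h2
    have h3 : c' * u = v * c' := by
      rw [← h1]; simp only [mul_assoc, c'c', mul_one]
    have h4 : b.eP * v = u * b.eP := by
      rw [← h2]; simp only [mul_assoc, pp, mul_one]
    rw [hm, mul_assoc b.eP, h3, ← mul_assoc, ← mul_assoc b.eP, h4]
  have hmCF : m ∈ b.CF := by
    refine mem_centralizer_iff.mpr ?_
    rintro u (rfl | rfl | rfl)
    · exact hcomm hc't hpt'
    · exact hcomm hc'a hpj'
    · exact hcomm hc'j hpa'
  have hminv : b.eP * m * b.eP = m⁻¹ := by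
    rw [hm, mul_inv_rev, pinv, inv_eq_of_mul_eq_one_left c'c', ← mul_assoc, pp, one_mul]
  rcases hCF with hodd | hinv
  swap
  · obtain ⟨e, -, he⟩ := hinv m hmCF hminv
    refine hc'bad.2.2 ((IsConj.symm (isConj_iff.mpr ⟨e⁻¹, ?_⟩)).trans pX)
    rw [inv_inv, ← he, hm, ← mul_assoc, pp, one_mul]
  -- the odd case: `eT * eX` is bad
  have hFT : b.F ≤ (hom b).range := by
    refine (closure_le _).mpr ?_
    rintro u (rfl | rfl | rfl)
    · exact (mem_hom hσ).mpr ⟨1, by rw [one_mul, mul_one], Or.inr (by rw [map_one, mul_one])⟩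
    · exact (mem_hom hσ).mpr ⟨a5, hab, Or.inl rfl⟩
    · exact (mem_hom hσ).mpr ⟨r5, hrb, Or.inl rfl⟩
  have hTX : b.IsBad (b.eT * b.eX) := by
    obtain ⟨f, hf, hodd'⟩ := hodd m hmCF
    have htauF : b.eT ∈ b.F := subset_closure (by simp)
    have haF : b.eA ∈ b.F := subset_closure (by simp)
    have hjF : b.eJ ∈ b.F := subset_closure (by simp)
    have hFc : ∀ u ∈ b.F, Commute u m := by
      intro u hu
      have : b.F ≤ centralizer ({m} : Set G) := (closure_le _).mpr (fun v hv =>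
        mem_centralizer_singleton_iff.mpr (mem_centralizer_iff.mp hmCF v hv))
      exact mem_centralizer_singleton_iff.mp (this hu)
    have hfm := hFc f hf
    -- `f` is an involution or trivial, fixed by `eP`
    obtain ⟨d, hdb, hd⟩ := (mem_hom hσ).mp (hFT hf)
    have hpair : ∀ u ∈ ({b.eT, b.eA, b.eJ} : Set G), ∀ v ∈ ({b.eT, b.eA, b.eJ} : Set G),
        Commute u v := by
      have haj : Commute b.eA b.eJ := (show Commute a5 r5 from har.trans hra.symm).map b.φ
      intro u hu v hv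
      rcases hu with rfl | rfl | rfl <;> rcases hv with rfl | rfl | rfl
      exacts [Commute.refl _, tcomm a5, tcomm r5, (tcomm a5).symm, Commute.refl _, haj,
        (tcomm r5).symm, haj.symm, Commute.refl _]
    have hFv : ∀ v ∈ ({b.eT, b.eA, b.eJ} : Set G), ∀ w ∈ b.F, Commute w v := by
      intro v hv w hw
      have : b.F ≤ centralizer ({v} : Set G) := (closure_le _).mpr fun u hu =>
        mem_centralizer_singleton_iff.mpr (hpair u hu v hv).eq
      exact mem_centralizer_singleton_iff.mp (this hw)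
    have hfc : ∀ v ∈ ({b.eT, b.eA, b.eJ} : Set G), Commute f v := fun v hv => hFv v hv f hf
    have hFF : ∀ u ∈ b.F, ∀ v ∈ b.F, Commute u v := by
      intro u hu v hv
      have : b.F ≤ centralizer ({u} : Set G) := (closure_le _).mpr fun r hr =>
        mem_centralizer_singleton_iff.mpr (hFv r hr u hu).symm.eq
      exact (show Commute v u from mem_centralizer_singleton_iff.mp (this hv)).symm
    have hff : f * f = 1 := by
      refine Subgroup.closure_induction (p := fun u _ => u * u = 1) ?_ (mul_one 1) ?_ ?_ hf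
      · rintro u (rfl | rfl | rfl)
        · exact htt
        · exact aa
        · show b.φ r5 * b.φ r5 = 1
          rw [← map_mul, hrr, map_one]
      · intro u v hu hv h1 h2
        calc u * v * (u * v) = (u * u) * (v * v) := Commute.mul_mul_mul_comm (hFF v hv u hu) u v
          _ = 1 := by rw [h1, h2, mul_one]
      · intro u hu h1
        rw [← mul_inv_rev, h1, inv_one]
    set o := f * m with ho
    set s := o ^ ((orderOf o + 1) / 2) with hs
    have hss : s * s = o := by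
      obtain ⟨k, hk⟩ := hodd'
      rw [hs, ← pow_add, hk, show (2 * k + 1 + 1) / 2 + (2 * k + 1 + 1) / 2 = (2 * k + 1) + 1 by
        omega, ← hk, pow_succ, pow_orderOf_eq_one, one_mul]
    have hoo : o * o = m * m := by
      rw [ho, mul_assoc, ← mul_assoc m, ← hfm.eq, mul_assoc, ← mul_assoc, hff, one_mul]
    have hso : s = (o * o) ^ (((orderOf o + 1) / 2) * ((orderOf o + 1) / 2)) := by
      calc s = (s * s) ^ ((orderOf o + 1) / 2) := by rw [hss]
        _ = _ := by rw [hs, ← pow_add, ← two_mul, ← pow_mul, ← pow_two, ← pow_mul]; ring_nf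
    have hps : b.eP * s * b.eP = s⁻¹ := by
      rw [hso, hoo, ← inv_pow, mul_inv_rev]
      conv_lhs => arg 2; rw [← pinv]
      rw [← conj_pow, pinv]
      congr 1
      rw [← hminv]
      simp only [mul_assoc]
      rw [← mul_assoc b.eP b.eP, pp, one_mul]
    have hmfo : m = f * o := by rw [ho, ← mul_assoc, hff, one_mul]
    have hfo : Commute f o := (Commute.refl f).mul_right hfm
    have hfs : Commute f s := hfo.pow_right _
    have hpo : b.eP * o = s⁻¹ * b.eP * s := by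
      rw [← hss, ← hps]
      simp only [mul_assoc]
      rw [← mul_assoc b.eP b.eP s, pp, one_mul]
    have hpf : b.eP * f * b.eP = f := by
      have h1 : b.eP * o * b.eP = o⁻¹ := by
        rw [← hss, mul_inv_rev, ← hps]
        simp only [mul_assoc]
        rw [← mul_assoc b.eP b.eP, pp, one_mul]
      have h2 : b.eP * f * b.eP * (b.eP * o * b.eP) = m⁻¹ := by
        rw [← hminv, hmfo]
        simp only [mul_assoc]
        rw [← mul_assoc b.eP b.eP, pp, one_mul]
      rw [h1, mul_inv_eq_iff_eq_mul] at h2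
      rw [h2, ho, ← mul_assoc, (hfm.inv_right).symm.eq, mul_assoc, inv_mul_cancel, mul_one]
    have hfp : Commute f b.eP := by
      show f * b.eP = b.eP * f
      conv_lhs => rw [← hpf, mul_assoc, pp, mul_one]
    have hc'pf : IsConj (b.eP * f) c' := by
      refine isConj_iff.mpr ⟨s⁻¹, ?_⟩
      have : c' = b.eP * m := by rw [hm, ← mul_assoc, pp, one_mul]
      rw [this, hmfo, inv_inv]
      calc s⁻¹ * (b.eP * f) * s = (s⁻¹ * f) * b.eP * s := by rw [← hfp.eq]; simp only [mul_assoc]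
        _ = f * (s⁻¹ * b.eP * s) := by rw [← hfs.inv_right.eq]; simp only [mul_assoc]
        _ = b.eP * (f * o) := by rw [← hpo, ← mul_assoc, hfp.eq, mul_assoc]
    have hbadpf : b.IsBad (b.eP * f) := isBad_of_isConj hc'bad hc'pf.symm
    have hfCF : f ∈ b.CF := mem_centralizer_iff.mpr fun v hv => (hfc v hv).symm.eq
    have htP : IsConj (b.eT * b.eP) (b.eT * b.eX) := by
      obtain ⟨h, hh⟩ := hcPX
      refine isConj_iff.mpr ⟨b.φ h, ?_⟩
      calc b.φ h * (b.eT * b.φ p5) * (b.φ h)⁻¹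
          = b.eT * (b.φ h * b.φ p5 * (b.φ h)⁻¹) := by
            rw [← mul_assoc, ← (tcomm h).eq]; simp only [mul_assoc]
        _ = b.eT * b.eX := by rw [← map_inv, ← map_mul, ← map_mul, hh]
    rcases hfix f hfCF hfp with rfl | rfl | rfl | rfl
    · rw [mul_one] at hbadpf
      exact absurd pX hbadpf.2.2
    · rw [← (tcomm p5).eq] at hbadpf
      exact isBad_of_isConj hbadpf htP
    · exfalso
      refine hbadpf.2.2 ?_
      show IsConj (b.φ p5 * b.φ b5) b.eX
      rw [← map_mul]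
      exact p'X
    · refine isBad_of_isConj hbadpf ((IsConj.symm (isConj_iff.mpr ⟨b.eA, ?_⟩)).trans htP)
      show b.φ a5 * (b.eT * b.φ p5) * (b.φ a5)⁻¹ = b.φ p5 * (b.eT * b.φ b5)
      rw [← mul_assoc (b.φ p5), ← (tcomm p5).eq, ← mul_assoc (b.φ a5), ← (tcomm a5).eq]
      simp only [mul_assoc, ← map_inv, ← map_mul]
      rw [← mul_assoc a5, hap]
  -- involutions of `hom b`
  have htP : b.IsBad (b.eT * b.eP) := by
    obtain ⟨h, hh⟩ := hcPX
    refine isBad_of_isConj hTX (IsConj.symm (isConj_iff.mpr ⟨b.φ h, ?_⟩))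
    calc b.φ h * (b.eT * b.φ p5) * (b.φ h)⁻¹
        = b.eT * (b.φ h * b.φ p5 * (b.φ h)⁻¹) := by
          rw [← mul_assoc, ← (tcomm h).eq]; simp only [mul_assoc]
      _ = b.eT * b.eX := by rw [← map_inv, ← map_mul, ← map_mul, hh]
  have htP' : b.IsBad (b.eT * b.φ (p5 * b5)) := by
    refine isBad_of_isConj htP (isConj_iff.mpr ⟨b.eA, ?_⟩)
    show b.φ a5 * (b.eT * b.φ p5) * (b.φ a5)⁻¹ = _
    rw [← mul_assoc, ← (tcomm a5).eq]
    simp only [mul_assoc, ← map_inv, ← map_mul]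
    rw [← mul_assoc a5, hap]
  have invol : ∀ g ∈ (hom b).range, g * g = 1 → g = 1 ∨ (g = b.eT ∨ g = b.eA ∨ g = b.eJ) ∨
      (g = b.eX ∨ g = b.eP ∨ g = b.φ (p5 * b5) ∨ g = b.eT * b.eA ∨ g = b.eT * b.eJ) ∨
      (g = b.eT * b.eX ∨ g = b.eT * b.eP ∨ g = b.eT * b.φ (p5 * b5)) := by
    intro g hg hgg
    obtain ⟨d, hd, rfl | rfl⟩ := (mem_hom hσ).mp hg
    · have : d * d = 1 := b.inj (by rw [map_mul, map_one]; exact hgg)
      rcases cent_b5 d hd this with rfl | rfl | rfl | rfl | rfl | rfl <;> simp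
    · have : d * d = 1 := b.inj (by
        rw [map_mul, map_one]
        calc b.φ d * b.φ d = (b.eT * b.eT) * (b.φ d * b.φ d) := by rw [htt, one_mul]
          _ = b.eT * b.φ d * (b.eT * b.φ d) := Commute.mul_mul_mul_comm (tcomm d) _ _
          _ = 1 := hgg)
      rcases cent_b5 d hd this with rfl | rfl | rfl | rfl | rfl | rfl <;> simp
  have xX : ¬ IsConj b.eX b.eJ := hXJ
  have jclass : ∀ g ∈ (hom b).range, IsConj g b.eJ → g = b.eT ∨ g = b.eA ∨ g = b.eJ := by
    intro g hg hgj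
    obtain ⟨k, hk⟩ := isConj_iff.mp hgj
    have hgg : g * g = 1 := by
      have h1 : k * (g * g) * k⁻¹ = 1 := by
        calc k * (g * g) * k⁻¹ = (k * g * k⁻¹) * (k * g * k⁻¹) := by group
          _ = 1 := by rw [hk]; show b.φ r5 * b.φ r5 = 1; rw [← map_mul, hrr, map_one]
      exact conj_eq_one_iff.mp h1
    rcases invol g hg hgg with rfl | h | h | h
    · exact absurd (b.inj ((map_one b.φ).trans (isConj_one_right.mp hgj).symm)) (Ne.symm hr1)
    · exact h
    · exfalso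
      rcases h with rfl | rfl | rfl | rfl | rfl
      · exact xX hgj
      · exact xX (pX.symm.trans hgj)
      · exact xX (p'X.symm.trans hgj)
      · exact xX (taX.symm.trans hgj)
      · exact xX (tjX.symm.trans hgj)
    · exfalso
      rcases h with rfl | rfl | rfl
      · exact hTX.2.1 hgj
      · exact htP.2.1 hgj
      · exact htP'.2.1 hgj
  have xclass : ∀ g ∈ (hom b).range, IsConj g b.eX →
      g = b.eX ∨ g = b.eP ∨ g = b.φ (p5 * b5) ∨ g = b.eT * b.eA ∨ g = b.eT * b.eJ := by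
    intro g hg hgx
    obtain ⟨k, hk⟩ := isConj_iff.mp hgx
    have hgg : g * g = 1 := by
      have h1 : k * (g * g) * k⁻¹ = 1 := by
        calc k * (g * g) * k⁻¹ = (k * g * k⁻¹) * (k * g * k⁻¹) := by group
          _ = 1 := by
            rw [hk]; show b.φ b5 * b.φ b5 = 1
            rw [← map_mul, show b5 * b5 = 1 from by decide +kernel, map_one]
      exact conj_eq_one_iff.mp h1
    rcases invol g hg hgg with rfl | h | h | h
    · exact absurd (b.inj ((map_one b.φ).trans (isConj_one_right.mp hgx).symm)) (Ne.symm hb1)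
    · exfalso
      rcases h with rfl | rfl | rfl
      · exact xX (hgx.symm.trans tJ)
      · exact xX (hgx.symm.trans aJ)
      · exact xX hgx.symm
    · exact h
    · exfalso
      rcases h with rfl | rfl | rfl
      · exact hTX.2.2 hgx
      · exact htP.2.2 hgx
      · exact htP'.2.2 hgx
  -- self-normalising
  have hmemT : ∀ d, d * b5 = b5 * d → b.φ d ∈ (hom b).range := fun d hd =>
    (mem_hom hσ).mpr ⟨d, hd, Or.inl rfl⟩
  have htT : b.eT ∈ (hom b).range :=
    (mem_hom hσ).mpr ⟨1, by rw [one_mul, mul_one], Or.inr (by rw [map_one, mul_one])⟩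
  have hnorm : ∀ g : G, (∀ u ∈ (hom b).range, g * u * g⁻¹ ∈ (hom b).range) →
      (∀ u ∈ (hom b).range, g⁻¹ * u * g ∈ (hom b).range) → g ∈ (hom b).range := by
    intro g h1 h2
    have hcenter : ∀ u ∈ (hom b).range, Commute (g * b.eT * g⁻¹) u := by
      intro u hu
      obtain ⟨d, -, hd | hd⟩ := (mem_hom hσ).mp (h2 u hu)
      · have h3 := (tcomm d).map (MulAut.conj g).toMonoidHom
        rw [← hd] at h3
        simpa [mul_assoc] using h3
      · have h3 := ((Commute.refl b.eT).mul_right (tcomm d)).map (MulAut.conj g).toMonoidHom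
        rw [← hd] at h3
        simpa [mul_assoc] using h3
    have hgt : g * b.eT * g⁻¹ = b.eT := by
      rcases jclass _ (h1 _ htT) ((IsConj.symm (isConj_iff.mpr ⟨g, rfl⟩)).trans tJ) with h | h | h
      · exact h
      · exfalso
        have h3 := hcenter _ (hmemT p5 hpb)
        rw [h] at h3
        exact hncap (b.inj (by rw [map_mul, map_mul]; exact h3))
      · exfalso
        have h3 := hcenter _ (hmemT p5 hpb)
        rw [h] at h3
        exact hncrp (b.inj (by rw [map_mul, map_mul]; exact h3))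
    have hinj' : ∀ {u v : G}, g * u * g⁻¹ = g * v * g⁻¹ → u = v := fun h =>
      mul_left_cancel (mul_right_cancel h)
    have hneT : ∀ {d}, d * b5 = b5 * d → b.φ d ≠ b.eT := fun hd h => eT_eq hd hσ h.symm
    have hga : g * b.eA * g⁻¹ = b.eA ∨ g * b.eA * g⁻¹ = b.eJ := by
      rcases jclass _ (h1 _ (hmemT a5 hab)) ((IsConj.symm (isConj_iff.mpr ⟨g, rfl⟩)).trans aJ) with
        h | h
      · exact absurd (hinj' (h.trans hgt.symm)) (hneT hab)
      · exact h
    have hgj : g * b.eJ * g⁻¹ = b.eA ∨ g * b.eJ * g⁻¹ = b.eJ := by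
      rcases jclass _ (h1 _ (hmemT r5 hrb)) (IsConj.symm (isConj_iff.mpr ⟨g, rfl⟩)) with h | h
      · exact absurd (hinj' (h.trans hgt.symm)) (hneT hrb)
      · exact h
    have haj : b.eA ≠ b.eJ := fun h => hane (b.inj h)
    obtain ⟨g₁, hg₁, k₁t, k₁a, k₁j, hn1⟩ : ∃ g₁, g₁ * g⁻¹ ∈ (hom b).range ∧
        g₁ * b.eT * g₁⁻¹ = b.eT ∧ g₁ * b.eA * g₁⁻¹ = b.eA ∧ g₁ * b.eJ * g₁⁻¹ = b.eJ ∧
        g₁ * b.eP * g₁⁻¹ ∈ (hom b).range := by
      rcases hga with ha | ha
      · refine ⟨g, by rw [mul_inv_cancel]; exact one_mem _, hgt, ha, ?_, h1 _ (hmemT p5 hpb)⟩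
        rcases hgj with hj | hj
        · exact absurd (hinj' (hj.trans ha.symm)) haj.symm
        · exact hj
      · refine ⟨b.eP * g, ?_, ?_, ?_, ?_, ?_⟩
        · rw [mul_assoc, mul_inv_cancel, mul_one]; exact hmemT p5 hpb
        · rw [mul_inv_rev, pinv]
          calc b.eP * g * b.eT * (g⁻¹ * b.eP) = b.eP * (g * b.eT * g⁻¹) * b.eP := by group
            _ = b.eT := by rw [hgt, hpt']
        · rw [mul_inv_rev, pinv]
          calc b.eP * g * b.eA * (g⁻¹ * b.eP) = b.eP * (g * b.eA * g⁻¹) * b.eP := by group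
            _ = b.eA := by rw [ha, hpj']
        · rw [mul_inv_rev, pinv]
          rcases hgj with hj | hj
          · calc b.eP * g * b.eJ * (g⁻¹ * b.eP) = b.eP * (g * b.eJ * g⁻¹) * b.eP := by group
              _ = b.eJ := by rw [hj, hpa']
          · exact absurd (hinj' (ha.trans hj.symm)) haj
        · rw [mul_inv_rev, pinv]
          have := mul_mem (mul_mem (hmemT p5 hpb) (h1 _ (hmemT p5 hpb))) (hmemT p5 hpb)
          simpa [mul_assoc] using this
    have hx1 : g₁ * b.eX * g₁⁻¹ = b.eX := by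
      calc g₁ * b.φ b5 * g₁⁻¹ = (g₁ * b.φ a5 * g₁⁻¹) * (g₁ * b.φ r5 * g₁⁻¹) := by
            rw [← har, map_mul]; group
        _ = b.eX := by rw [k₁a, k₁j, ← map_mul, har]
    have hinj₁ : ∀ {u v : G}, g₁ * u * g₁⁻¹ = g₁ * v * g₁⁻¹ → u = v := fun h =>
      mul_left_cancel (mul_right_cancel h)
    have hne5 : p5 ≠ b5 := by decide +kernel
    have hgp : g₁ * b.eP * g₁⁻¹ = b.eP ∨ g₁ * b.eP * g₁⁻¹ = b.φ (p5 * b5) := by
      rcases xclass _ hn1 ((IsConj.symm (isConj_iff.mpr ⟨g₁, rfl⟩)).trans pX) with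
        h | h | h | h | h
      · exact absurd (b.inj (hinj₁ (h.trans hx1.symm))) hne5
      · exact Or.inl h
      · exact Or.inr h
      · exfalso
        have h4 : g₁ * (b.eT * b.eA) * g₁⁻¹ = b.eT * b.eA := by
          calc g₁ * (b.eT * b.eA) * g₁⁻¹ = (g₁ * b.eT * g₁⁻¹) * (g₁ * b.eA * g₁⁻¹) := by group
            _ = b.eT * b.eA := by rw [k₁t, k₁a]
        have h5 := hinj₁ (h.trans h4.symm)
        refine eT_eq (show Commute (p5 * a5⁻¹) b5 from
          (show Commute p5 b5 from hpb).mul_left (show Commute a5 b5 from hab).inv_left) hσ ?_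
        rw [map_mul, map_inv, eq_mul_inv_iff_mul_eq]
        exact h5.symm
      · exfalso
        have h4 : g₁ * (b.eT * b.eJ) * g₁⁻¹ = b.eT * b.eJ := by
          calc g₁ * (b.eT * b.eJ) * g₁⁻¹ = (g₁ * b.eT * g₁⁻¹) * (g₁ * b.eJ * g₁⁻¹) := by group
            _ = b.eT * b.eJ := by rw [k₁t, k₁j]
        have h5 := hinj₁ (h.trans h4.symm)
        refine eT_eq (show Commute (p5 * r5⁻¹) b5 from
          (show Commute p5 b5 from hpb).mul_left (show Commute r5 b5 from hrb).inv_left) hσ ?_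
        rw [map_mul, map_inv, eq_mul_inv_iff_mul_eq]
        exact h5.symm
    have key : ∀ g₂, g₂ * b.eT * g₂⁻¹ = b.eT → g₂ * b.eA * g₂⁻¹ = b.eA →
        g₂ * b.eJ * g₂⁻¹ = b.eJ → g₂ * b.eP * g₂⁻¹ = b.eP → g₂ ∈ (hom b).range := by
      intro g₂ e1 e2 e3 e4
      have hx : ∀ {u : G}, g₂ * u * g₂⁻¹ = u → g₂ * u = u * g₂ := fun h =>
        mul_inv_eq_iff_eq_mul.mp h
      have hCFm : g₂ ∈ b.CF := by
        refine mem_centralizer_iff.mpr ?_
        rintro u (rfl | rfl | rfl)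
        exacts [(hx e1).symm, (hx e2).symm, (hx e3).symm]
      rcases hfix g₂ hCFm (hx e4) with rfl | rfl | rfl | rfl
      · exact one_mem _
      · exact htT
      · exact hmemT b5 rfl
      · exact mul_mem htT (hmemT b5 rfl)
    have hg₁T : g₁ ∈ (hom b).range := by
      rcases hgp with hp | hp
      · exact key g₁ k₁t k₁a k₁j hp
      · have h6 : b.eA * g₁ ∈ (hom b).range := by
          refine key _ ?_ ?_ ?_ ?_
          · calc b.eA * g₁ * b.eT * (b.eA * g₁)⁻¹
                = b.eA * (g₁ * b.eT * g₁⁻¹) * b.eA⁻¹ := by group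
              _ = b.eT := by rw [k₁t, ← (tcomm a5).eq, mul_inv_cancel_right]
          · calc b.eA * g₁ * b.eA * (b.eA * g₁)⁻¹
                = b.eA * (g₁ * b.eA * g₁⁻¹) * b.eA⁻¹ := by group
              _ = b.eA := by rw [k₁a, mul_inv_cancel_right]
          · calc b.eA * g₁ * b.eJ * (b.eA * g₁)⁻¹
                = b.eA * (g₁ * b.eJ * g₁⁻¹) * b.eA⁻¹ := by group
              _ = b.eJ := by
                rw [k₁j]; show b.φ a5 * b.φ r5 * (b.φ a5)⁻¹ = _
                rw [← map_inv, ← map_mul, ← map_mul, hara]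
          · calc b.eA * g₁ * b.eP * (b.eA * g₁)⁻¹
                = b.eA * (g₁ * b.eP * g₁⁻¹) * b.eA⁻¹ := by group
              _ = b.eP := by
                rw [hp]; show b.φ a5 * _ * (b.φ a5)⁻¹ = _
                rw [← map_inv, ← map_mul, ← map_mul, hap']
        have := mul_mem (inv_mem (hmemT a5 hab)) h6
        rwa [inv_mul_cancel_left] at this
    have := mul_mem (inv_mem hg₁) hg₁T
    rwa [mul_inv_rev, inv_inv, inv_mul_cancel_right] at this
  -- a Sylow two-subgroup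
  have hTp : IsPGroup 2 (hom b).range := IsPGroup.of_card (n := 4) (card_hom hσ)
  obtain ⟨Q, hQ⟩ := hTp.exists_le_sylow
  have hQT : (Q : Subgroup G) = (hom b).range := by
    refine le_antisymm ?_ hQ
    by_contra hne
    haveI := Q.2.isNilpotent
    have hlt : (hom b).range.subgroupOf (Q : Subgroup G) < ⊤ :=
      lt_top_iff_ne_top.mpr fun h => hne (subgroupOf_eq_top.mp h)
    obtain ⟨n, hn, hn'⟩ := SetLike.exists_of_lt
      (Group.normalizerCondition_of_isNilpotent _ hlt)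
    have hconj' : ∀ u : G, ∀ hu : u ∈ (hom b).range,
        (n : G) * u * (n : G)⁻¹ ∈ (hom b).range := fun u hu => by
      simpa [mem_subgroupOf] using ((mem_normalizer_iff.mp hn) ⟨u, hQ hu⟩).mp hu
    have hconj'' : ∀ u : G, ∀ hu : u ∈ (hom b).range,
        (n : G)⁻¹ * u * (n : G) ∈ (hom b).range := fun u hu => by
      have := ((mem_normalizer_iff.mp hn) (n⁻¹ * ⟨u, hQ hu⟩ * n)).mpr
        (by simpa [mem_subgroupOf, mul_assoc] using hu)
      simpa [mem_subgroupOf] using this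
    exact hn' (hnorm n hconj' hconj'')
  -- the second two-subgroup
  have hnc : zpowers c ≤ Subgroup.normalizer (b.F : Set G) := by
    rw [zpowers_le]
    have hmap : b.F.map (MulAut.conj c).toMonoidHom ≤ b.F := by
      rw [Base.F, MonoidHom.map_closure, closure_le]
      rintro _ ⟨u, hu, rfl⟩
      show c * u * c⁻¹ ∈ _
      rw [cinv]
      rcases hu with rfl | rfl | rfl
      · rw [hctau]; exact subset_closure (by simp)
      · rw [hca']; exact subset_closure (by simp)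
      · rw [hcj']; exact subset_closure (by simp)
    refine mem_normalizer_iff.mpr fun u => ⟨fun hu => hmap ⟨u, hu, rfl⟩, fun hu => ?_⟩
    have h7 : c * (c * u * c⁻¹) * c⁻¹ ∈ b.F := hmap ⟨_, hu, rfl⟩
    rw [cinv, ← mul_assoc, ← mul_assoc, cc, one_mul, mul_assoc, cc, mul_one] at h7
    exact h7
  have hPp : IsPGroup 2 (b.F ⊔ zpowers c : Subgroup G) :=
    (hTp.to_le hFT).to_sup_of_normal_left'
      (IsPGroup.of_card (n := 1) (by rw [Nat.card_zpowers, hc2, pow_one])) hnc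
  obtain ⟨R, hR⟩ := hPp.exists_le_sylow
  obtain ⟨k, hk⟩ := MulAction.exists_smul_eq G R Q
  have hmove : ∀ u ∈ (b.F ⊔ zpowers c : Subgroup G), b.IsBad u →
      k * u * k⁻¹ = b.eT * b.eX ∨ k * u * k⁻¹ = b.eT * b.eP ∨
        k * u * k⁻¹ = b.eT * b.φ (p5 * b5) := by
    intro u hu hbad
    have hmem : k * u * k⁻¹ ∈ (hom b).range := by
      rw [← hQT, ← hk, Sylow.coe_subgroup_smul]
      exact ⟨u, hR hu, rfl⟩
    have hbad' := isBad_of_isConj hbad (isConj_iff.mpr ⟨k, rfl⟩)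
    rcases invol _ hmem (by rw [← pow_two, ← hbad'.1, pow_orderOf_eq_one]) with h | h | h | h
    · exfalso; have := hbad'.1; rw [h, orderOf_one] at this; omega
    · exfalso
      rcases h with h | h | h <;> rw [h] at hbad'
      exacts [hbad'.2.1 tJ, hbad'.2.1 aJ, hbad'.2.1 (IsConj.refl _)]
    · exfalso
      rcases h with h | h | h | h | h <;> rw [h] at hbad'
      exacts [hbad'.2.2 (IsConj.refl _), hbad'.2.2 pX, hbad'.2.2 p'X, hbad'.2.2 taX,
        hbad'.2.2 tjX]
    · exact h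
  have hcP : c ∈ (b.F ⊔ zpowers c : Subgroup G) := mem_sup_right (mem_zpowers c)
  have hFP : ∀ u ∈ b.F, c * u ∈ (b.F ⊔ zpowers c : Subgroup G) := fun u hu =>
    mul_mem hcP (mem_sup_left hu)
  have htaF : b.eT * b.eA ∈ b.F :=
    mul_mem (subset_closure (by simp)) (subset_closure (by simp))
  have hjF : b.eJ ∈ b.F := subset_closure (by simp)
  have hcta : Commute c (b.eT * b.eA) := by
    show c * (b.eT * b.eA) = _
    calc c * (b.eT * b.eA) = (c * b.eT * c) * (c * b.eA * c) * c := by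
          simp only [mul_assoc, cc, mul_one]; rw [← mul_assoc c c, cc, one_mul]
      _ = b.eT * b.eA * c := by rw [hctau, hca', ← (tcomm a5).eq]
  have hjta : Commute b.eJ (b.eT * b.eA) :=
    (tcomm r5).symm.mul_right ((show Commute r5 a5 from hra.trans har.symm).map b.φ)
  have order2 : ∀ u : G, u * u = 1 → Commute c u → c * u ≠ 1 → orderOf (c * u) = 2 :=
    fun u hu hcu hne => orderOf_eq_prime
      (by rw [pow_two, Commute.mul_mul_mul_comm hcu.symm c u, cc, hu, one_mul]) hne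
  have ctt : (b.eT * b.eA) * (b.eT * b.eA) = 1 := by
    rw [Commute.mul_mul_mul_comm (tcomm a5).symm, htt, aa, one_mul]
  have hne1 : ∀ u ∈ b.F, c * u ≠ 1 := by
    intro u hu h
    have hcF : c ∈ b.F := by rw [← cinv, inv_eq_of_mul_eq_one_right h]; exact hu
    obtain ⟨d, hd, hd' | hd'⟩ := (mem_hom hσ).mp (hFT hcF) <;> rw [hd'] at hctau
    · refine eT_eq hab hσ (Eq.trans ?_ hctau)
      rw [← (tcomm d).eq, mul_assoc, ← hd', cc, mul_one]
    · refine eT_eq hab hσ (Eq.trans ?_ hctau)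
      rw [← ((Commute.refl b.eT).mul_right (tcomm d)).eq, mul_assoc, ← hd', cc, mul_one]
  have hneJ : ∀ u ∈ b.F, c * u ≠ b.eJ := by
    intro u hu h
    refine hne1 (u * b.eJ⁻¹) (mul_mem hu (inv_mem hjF)) ?_
    rw [← mul_assoc, h, mul_inv_cancel]
  have hyz : Commute c (b.eZ * b.eW) := by
    show c * (b.eZ * b.eW) = b.eZ * b.eW * c
    have h8 : c * b.eW * c = b.eZ := by
      rw [← hczw, ← mul_assoc, ← mul_assoc, cc, one_mul, mul_assoc, cc, mul_one]
    calc c * (b.eZ * b.eW) = (c * b.eZ * c) * (c * b.eW * c) * c := by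
          simp only [mul_assoc, cc, mul_one]; rw [← mul_assoc c c, cc, one_mul]
      _ = b.eW * b.eZ * c := by rw [hczw, h8]
      _ = b.eZ * b.eW * c := by rw [(b.ψc_comm c5).eq]
  have hjy : Commute b.eJ (b.eZ * b.eW) :=
    (b.ψc_comm r5).symm.mul_right ((show Commute r5 c5 from hrc).map b.φ)
  have hty : Commute (c * (b.eT * b.eA)) (b.eZ * b.eW⁻¹) := by
    have hzt : b.eT * b.eZ * b.eT = b.eZ⁻¹ := by
      show b.ψ b.σ * b.ψ c5 * b.ψ b.σ = (b.ψ c5)⁻¹
      rw [hσ, ← map_inv, ← map_mul, ← map_mul, hca]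
      rw [show a5⁻¹ = a5 from inv_eq_of_mul_eq_one_left haa]
    have hwa : b.eA * b.eW⁻¹ * b.eA = b.eW := by
      show b.φ a5 * (b.φ c5)⁻¹ * b.φ a5 = b.φ c5
      rw [← map_inv, ← map_mul, ← map_mul, hca]
      congr 1
      simp only [mul_assoc]
      rw [show a5⁻¹ * a5 = 1 from inv_mul_cancel a5, mul_one, ← mul_assoc, haa, one_mul]
    have h8 : (b.eT * b.eA) * (b.eZ * b.eW⁻¹) = (b.eZ⁻¹ * b.eW) * (b.eT * b.eA) := by
      have e1 : Commute b.eA b.eZ := (b.ψc_comm a5).symm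
      have e2 : Commute b.eT b.eW := tcomm c5
      calc (b.eT * b.eA) * (b.eZ * b.eW⁻¹)
          = (b.eT * b.eZ * b.eT) * (b.eT * (b.eA * b.eW⁻¹ * b.eA)) * b.eA := by
            simp only [mul_assoc, aa, mul_one]
            rw [← mul_assoc b.eT b.eT, htt, one_mul, ← mul_assoc b.eA b.eZ, e1.eq, mul_assoc]
        _ = b.eZ⁻¹ * b.eW * (b.eT * b.eA) := by rw [hzt, hwa, e2.eq]; simp only [mul_assoc]
    show c * (b.eT * b.eA) * (b.eZ * b.eW⁻¹) = _
    have h9 : c * b.eW * c = b.eZ := by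
      rw [← hczw, ← mul_assoc, ← mul_assoc, cc, one_mul, mul_assoc, cc, mul_one]
    have h10 : c * b.eZ⁻¹ * c = b.eW⁻¹ := by rw [← hczw, mul_inv_rev, mul_inv_rev, cinv, mul_assoc]
    calc c * (b.eT * b.eA) * (b.eZ * b.eW⁻¹)
        = c * (b.eZ⁻¹ * b.eW) * (b.eT * b.eA) := by rw [mul_assoc, h8, ← mul_assoc]
      _ = (c * b.eZ⁻¹ * c) * (c * b.eW * c) * (c * (b.eT * b.eA)) := by
          simp only [mul_assoc]; rw [← mul_assoc c c, cc, one_mul, ← mul_assoc c c, cc, one_mul]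
      _ = b.eW⁻¹ * b.eZ * (c * (b.eT * b.eA)) := by rw [h10, h9]
      _ = _ := by rw [(b.ψc_comm c5).inv_right.eq]
  have hjy' : Commute b.eJ (b.eZ * b.eW⁻¹) :=
    (b.ψc_comm r5).symm.mul_right (((show Commute r5 c5 from hrc).map b.φ).inv_right)
  have jj : b.eJ * b.eJ = 1 := by show b.φ r5 * b.φ r5 = 1; rw [← map_mul, hrr, map_one]
  have bad1 : b.IsBad (c * b.eJ) := hy _ (order2 _ jj hcj (hne1 _ hjF))
    (hyz.mul_left hjy) (hneJ _ hjF)
  have bad2 : b.IsBad (c * (b.eT * b.eA)) := hy' _ (order2 _ ctt hcta (hne1 _ htaF)) hty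
    (hneJ _ htaF)
  have bad3 : b.IsBad (c * (b.eT * b.eA * b.eJ)) := by
    refine hy' _ (order2 _ ?_ (hcta.mul_right hcj) (hne1 _ (mul_mem htaF hjF))) ?_
      (hneJ _ (mul_mem htaF hjF))
    · rw [Commute.mul_mul_mul_comm hjta, ctt, jj, one_mul]
    · rw [← mul_assoc c]; exact hty.mul_left hjy'
  have hinjk : ∀ {u v : G}, k * u * k⁻¹ = k * v * k⁻¹ → u = v := fun h =>
    mul_left_cancel (mul_right_cancel h)
  have hdist : ∀ {u v : G}, u ≠ v → c * u ≠ c * v := fun h e => h (mul_left_cancel e)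
  have n1 : b.eJ ≠ 1 := fun h => hr1 (b.inj (h.trans (map_one b.φ).symm))
  have n2 : b.eT * b.eA ≠ 1 := fun h => eT_eq (show Commute a5⁻¹ b5 from
    (show Commute a5 b5 from hab).inv_left) hσ (by rw [map_inv]; exact eq_inv_of_mul_eq_one_left h)
  have n3 : b.eJ ≠ b.eT * b.eA := fun h => eT_eq (show Commute (r5 * a5⁻¹) b5 from
    (show Commute r5 b5 from hrb).mul_left (show Commute a5 b5 from hab).inv_left) hσ (by
      rw [map_mul, map_inv, eq_mul_inv_iff_mul_eq]; exact h.symm)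
  have n4 : b.eT * b.eA * b.eJ ≠ 1 := fun h => n3 (by
    rw [eq_inv_of_mul_eq_one_left h]; exact (inv_eq_of_mul_eq_one_left jj).symm)
  have n5 : b.eT * b.eA * b.eJ ≠ b.eJ := fun h => n2 (mul_eq_right.mp h)
  have n6 : b.eT * b.eA * b.eJ ≠ b.eT * b.eA := fun h => n1 (mul_eq_left.mp h)
  have p0 := hmove c hcP hcbad
  have p1 := hmove _ (hFP _ hjF) bad1
  have p2 := hmove _ (hFP _ htaF) bad2
  have p3 := hmove _ (hFP _ (mul_mem htaF hjF)) bad3
  have d01 : c ≠ c * b.eJ := fun h => n1 (mul_eq_left.mp h.symm)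
  have d02 : c ≠ c * (b.eT * b.eA) := fun h => n2 (mul_eq_left.mp h.symm)
  have d03 : c ≠ c * (b.eT * b.eA * b.eJ) := fun h => n4 (mul_eq_left.mp h.symm)
  have d12 := hdist n3
  have d13 := hdist (Ne.symm n5)
  have d23 := hdist (Ne.symm n6)
  rcases p0 with e0 | e0 | e0 <;> rcases p1 with e1 | e1 | e1 <;>
    first
    | exact d01 (hinjk (e0.trans e1.symm))
    | (rcases p2 with e2 | e2 | e2 <;>
        first
        | exact d02 (hinjk (e0.trans e2.symm))
        | exact d12 (hinjk (e1.trans e2.symm))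
        | (rcases p3 with e3 | e3 | e3 <;>
            first
            | exact d03 (hinjk (e0.trans e3.symm))
            | exact d13 (hinjk (e1.trans e3.symm))
            | exact d23 (hinjk (e2.trans e3.symm))))

end Base

end CfsgLib.SymEightThree
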