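import Cfsg.Agent.Lib.SymEightThree.Trivial.Defs
import Cfsg.Agent.Lib.SymEightThree.Sym
import Mathlib.Tactic

/-!
The trivial configuration with `σ` a double transposition: the commutator of the two mixed
involutions is forced into the central four-group and none of its values is possible.
-/

set_option autoImplicit false

namespace CfsgLib.SymEightThree

open Equiv

/-- What the final step of the double transposition case needs. -/
structure Base.CaseBData {G : Type*} [Group G] (b : Base G) : Prop where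
  σ_eq : b.σ = b5
  cent : ∀ g, Commute g b.eX → Commute g b.eP →
    g ∈ Subgroup.closure ({b.eX, b.eP, b.eZ, b.eT} : Set G)
  fixed : ∀ g ∈ b.CF, Commute g b.eP → g = 1 ∨ g = b.eT ∨ g = b.eX ∨ g = b.eT * b.eX
  cases : b.CF ≤ b.F ∨
    ∀ m ∈ b.CF, b.eP * m * b.eP = m⁻¹ → ∃ e ∈ b.CF, b.eP * m = e⁻¹ * b.eP * e
  swap : ∃ c : G, orderOf c = 2 ∧ c * b.eZ * c = b.eW ∧ Commute c b.eJ ∧ c * b.eT * c = b.φ b.σ

namespace Base

variable {G : Type*} [Group G] (b : Base G)

theorem φ_comm {x y : Perm (Fin 5)} (h : x * y = y * x) : Commute (b.φ x) (b.φ y) := by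
  show _ = _
  rw [← map_mul, h, map_mul]

theorem ψ_comm {x y : Perm (Fin 5)} (h : x * y = y * x) : Commute (b.ψ x) (b.ψ y) := by
  show _ = _
  rw [← map_mul, h, map_mul]

/-- An involution centralising `z` lies in the range of `φ`. -/
theorem mem_range_of_comm_z {g : G} (h : Commute g b.eZ) (h2 : g * g = 1) : ∃ u, b.φ u = g := by
  have hZ : b.eZ = b.g⁻¹ * b.φ c5 * b.g := b.ψ_apply c5
  have hmem := b.centz (Subgroup.mem_centralizer_singleton_iff.2 (hZ ▸ h.eq))
  rw [← hZ] at hmem
  have key : ∀ k ∈ Subgroup.zpowers b.eZ ⊔ b.φ.range, ∃ i : ℤ, ∃ u, k = b.eZ ^ i * b.φ u := by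
    intro k hk
    rw [Subgroup.zpowers_eq_closure, ← Subgroup.closure_eq b.φ.range, ← Subgroup.closure_union] at hk
    induction hk using Subgroup.closure_induction with
    | mem a ha =>
      rcases ha with rfl | ⟨u, rfl⟩
      · exact ⟨1, 1, by simp⟩
      · exact ⟨0, u, by simp⟩
    | one => exact ⟨0, 1, by simp⟩
    | mul x y _ _ hx hy =>
      obtain ⟨i, u, rfl⟩ := hx
      obtain ⟨k, v, rfl⟩ := hy
      refine ⟨i + k, u * v, ?_⟩
      rw [zpow_add, map_mul, mul_assoc, ← mul_assoc (b.φ u), ((b.ψc_comm u).zpow_left k).symm.eq]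
      simp only [mul_assoc]
    | inv x _ hx =>
      obtain ⟨i, u, rfl⟩ := hx
      refine ⟨-i, u⁻¹, ?_⟩
      rw [mul_inv_rev, zpow_neg, map_inv, ((b.ψc_comm u).zpow_left i).inv_inv.eq]
  obtain ⟨i, u, rfl⟩ := key g hmem
  have hc : Commute (b.eZ ^ i) (b.φ u) := (b.ψc_comm u).zpow_left i
  have hz3 : b.eZ ^ (3 : ℤ) = 1 := by
    rw [eZ, ← map_zpow, show c5 ^ (3 : ℤ) = 1 from by decide, map_one]
  have h3 : b.eZ ^ (2 * i) ∈ b.φ.range := by
    refine ⟨(u * u)⁻¹, ?_⟩
    rw [map_inv, map_mul, inv_eq_iff_mul_eq_one, ← h2, two_mul, zpow_add, ← hc.mul_mul_mul_comm,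
      ← mul_assoc]
    simp only [hc.eq, hc.left_comm, mul_assoc]
  have h4 : b.eZ ^ i ∈ b.φ.range := by
    have h5 : b.eZ ^ i = (b.eZ ^ (2 * i)) ^ (2 : ℤ) := by
      rw [← zpow_mul, show 2 * i * 2 = i + 3 * i by ring, zpow_add, zpow_mul, hz3, one_zpow, mul_one]
    rw [h5]; exact zpow_mem h3 2
  obtain ⟨u', hu'⟩ := h4
  exact ⟨u' * u, by rw [map_mul, hu']⟩

/-- An involution centralising `w` lies in the range of `ψ`. -/
theorem mem_range_of_comm_w {g : G} (h : Commute g b.eW) (h2 : g * g = 1) : ∃ u, b.ψ u = g := by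
  have h' : Commute (b.g⁻¹ * g * b.g) b.eZ := by
    have := h.map (MulAut.conj b.g⁻¹).toMonoidHom
    simpa [eW, ψ_apply] using this
  obtain ⟨u, hu⟩ := b.mem_range_of_comm_z h' (by
    simp only [mul_assoc, mul_inv_cancel_left]; rw [← mul_assoc g, h2, one_mul, inv_mul_cancel])
  obtain ⟨_, ⟨v, rfl⟩, hv⟩ :
      b.g * b.φ u * b.g⁻¹ ∈ b.φ.range.map (MulAut.conj b.g⁻¹).toMonoidHom := by
    rw [← b.g_range]; exact ⟨b.φ u, ⟨u, rfl⟩, by simp⟩
  refine ⟨v, ?_⟩
  calc b.ψ v = b.g * b.φ u * b.g⁻¹ := by rw [ψ_apply]; simpa using hv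
    _ = g := by rw [hu]; group

theorem commute_inv_of_mul_self {g : G} (h : g * g = 1) : g⁻¹ = g := inv_eq_of_mul_eq_one_right h

theorem conj_swap_P (hσ : b.σ = b5) {c : G} (hcz : c * b.eZ * c = b.eW) (hcj : Commute c b.eJ)
    (hct : c * b.eT * c = b.φ b.σ) (hcc : c * c = 1) :
    ∃ u : Perm (Fin 5), c * b.eP * c = b.ψ u ∧ (u = p5 ∨ u = b5 * p5) := by
  have hconj : ∀ a a' : G, c * (a * a') * c = (c * a * c) * (c * a' * c) := fun a a' => by
    simp only [mul_assoc]; simp only [← mul_assoc c c, hcc, one_mul]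
  have h2 : (c * b.eP * c) * (c * b.eP * c) = 1 := by
    rw [← hconj, ← map_mul, show p5 * p5 = 1 from by decide, map_one, mul_one, hcc]
  have hmap : ∀ {a a' : G}, Commute a a' → Commute (c * a * c) (c * a' * c) := fun h => by
    show _ = _; rw [← hconj, ← hconj, h.eq]
  have hw : Commute (c * b.eP * c) b.eW := hcz ▸ hmap (b.ψc_comm p5).symm
  obtain ⟨u, hu⟩ := b.mem_range_of_comm_w hw h2
  refine ⟨u, hu.symm, ?_⟩
  have htx : c * b.φ b.σ * c = b.eT := by
    rw [← hct]; simp only [mul_assoc]; simp only [← mul_assoc c c, hcc, one_mul, mul_one]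
  have hcomm : Commute (b.ψ u) (b.ψ b5) := by
    have := hmap (b.φ_comm (x := p5) (y := b5) (by decide))
    rw [← hu, ← hσ, htx] at this
    simpa [eT, hσ] using this
  have hjc : c * b.eJ * c = b.eJ := by rw [hcj.eq, mul_assoc, hcc, mul_one]
  have hr : b.ψ u * b.ψ r5 * b.ψ u = b.ψ a5 := by
    rw [b.ψ_r, hu, show b.φ r5 = c * b.eJ * c from hjc.symm, ← hconj, ← hconj]
    have : b.eP * b.eJ * b.eP = b.φ b.σ * b.eJ := by
      rw [hσ, eP, eJ, ← map_mul, ← map_mul, ← map_mul]; exact congrArg b.φ (by decide)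
    rw [this, hconj, ← hct, hjc]
    have e0 : c * (c * b.eT * c) * c = b.eT := by
      simp only [mul_assoc]; simp only [← mul_assoc c c, hcc, one_mul, mul_one]
    rw [e0, eT, hσ, eJ, ← b.ψ_r, ← map_mul]
    exact congrArg b.ψ (by decide)
  rw [← map_mul, ← map_mul] at hr
  exact (by decide +kernel : ∀ u : Perm (Fin 5), u * b5 = b5 * u → u * r5 * u = a5 →
    u * u = 1 → u = p5 ∨ u = b5 * p5) u
      (b.ψ_injective (by rw [map_mul, map_mul]; exact hcomm.eq)) (b.ψ_injective hr)
      (b.ψ_injective (by rw [map_mul, map_one, hu]; exact h2))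

theorem conj_swap_P' (hσ : b.σ = b5) {c : G} (hcz : c * b.eZ * c = b.eW) (hcj : Commute c b.eJ)
    (hct : c * b.eT * c = b.φ b.σ) (hcc : c * c = 1) :
    ∃ v : Perm (Fin 5), c * b.eP' * c = b.φ v ∧ (v = p5 ∨ v = b5 * p5) := by
  have hconj : ∀ a a' : G, c * (a * a') * c = (c * a * c) * (c * a' * c) := fun a a' => by
    simp only [mul_assoc]; simp only [← mul_assoc c c, hcc, one_mul]
  have h2 : (c * b.eP' * c) * (c * b.eP' * c) = 1 := by
    rw [← hconj, ← map_mul, show p5 * p5 = 1 from by decide, map_one, mul_one, hcc]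
  have hmap : ∀ {a a' : G}, Commute a a' → Commute (c * a * c) (c * a' * c) := fun h => by
    show _ = _; rw [← hconj, ← hconj, h.eq]
  have hwz : c * b.eW * c = b.eZ := by
    rw [← hcz]; simp only [mul_assoc]; simp only [← mul_assoc c c, hcc, one_mul, mul_one]
  have hw : Commute (c * b.eP' * c) b.eZ := hwz ▸ hmap (b.φc_comm p5).symm
  obtain ⟨u, hu⟩ := b.mem_range_of_comm_z hw h2
  refine ⟨u, hu.symm, ?_⟩
  have hcomm : Commute (b.φ u) (b.φ b5) := by
    have := hmap (b.ψ_comm (x := p5) (y := b5) (by decide))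
    rw [← hu, ← hσ] at this
    rw [← hσ, ← hct]
    exact this
  have hjc : c * b.eJ * c = b.eJ := by rw [hcj.eq, mul_assoc, hcc, mul_one]
  have hr : b.φ u * b.φ r5 * b.φ u = b.φ a5 := by
    rw [hu, show b.φ r5 = c * b.eJ * c from hjc.symm, ← hconj, ← hconj]
    have : b.eP' * b.eJ * b.eP' = b.eT * b.eJ := by
      rw [eT, hσ, eP', eJ, ← b.ψ_r, ← map_mul, ← map_mul, ← map_mul]
      exact congrArg b.ψ (by decide)
    rw [this, hconj, hct, hjc, hσ, eJ, ← map_mul]
    exact congrArg b.φ (by decide)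
  rw [← map_mul, ← map_mul] at hr
  exact (by decide +kernel : ∀ u : Perm (Fin 5), u * b5 = b5 * u → u * r5 * u = a5 →
    u * u = 1 → u = p5 ∨ u = b5 * p5) u
      (b.inj (by rw [map_mul, map_mul]; exact hcomm.eq)) (b.inj hr)
      (b.inj (by rw [map_mul, map_one, hu]; exact h2))

theorem false_of_caseBData (hd : b.CaseBData) : False := by
  obtain ⟨hσ, hcent, hfix, hcases, c, hc2, hcz, hcj, hct⟩ := hd
  have hp5 : p5 * p5 = 1 := by decide
  have hpp : b.eP * b.eP = 1 := by rw [← map_mul, hp5, map_one]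
  have hp'p' : b.eP' * b.eP' = 1 := by rw [← map_mul, hp5, map_one]
  -- the images of `φ σ`
  have hX : b.φ b.σ = b.eX := by rw [hσ]
  have hXψ : ∀ y, Commute b.eX (b.ψ y) := fun y => hX ▸ b.φσ_comm y
  have hTφ : ∀ y, Commute b.eT (b.φ y) := b.ψσ_comm
  have hTψ : b.eT = b.ψ b5 := by simp [eT, hσ]
  have hTX : Commute b.eT b.eX := hTφ _
  have hTP : Commute b.eT b.eP := hTφ _
  have hTP' : Commute b.eT b.eP' := by rw [hTψ]; exact b.ψ_comm (by decide)
  have hXP : Commute b.eX b.eP := b.φ_comm (by decide)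
  have hXP' : Commute b.eX b.eP' := hXψ _
  have hJ : b.eJ = b.ψ r5 := b.ψ_r.symm
  have hA : b.eA = b.eX * b.eJ := by rw [eX, eJ, ← map_mul]; exact congrArg b.φ (by decide)
  have hpj : b.eP * b.eJ * b.eP = b.eX * b.eJ := by
    rw [← hA, eP, eJ, ← map_mul, ← map_mul]; exact congrArg b.φ (by decide)
  have hp'j : b.eP' * b.eJ * b.eP' = b.eT * b.eJ := by
    rw [hJ, hTψ, eP', ← map_mul, ← map_mul, ← map_mul]; exact congrArg b.ψ (by decide)
  have hTJ : Commute b.eT b.eJ := hTφ _
  have hXJ : Commute b.eX b.eJ := b.φ_comm (by decide)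
  -- `x` is not in the range of `ψ`, and `t ≠ x`
  have hXnot : ∀ u, b.ψ u ≠ b.eX := by
    intro u hu
    have hc : ∀ y, u * y = y * u := fun y => b.ψ_injective (by
      rw [map_mul, map_mul, hu]; exact hXψ y)
    have hu1 : u = 1 := (by decide +kernel : ∀ u : Perm (Fin 5),
      u * c5 = c5 * u → u * (swap 0 3) = swap 0 3 * u → u * r5 = r5 * u → u = 1) u (hc _) (hc _)
        (hc _)
    rw [hu1, map_one] at hu
    exact absurd (b.inj (hu.symm.trans (map_one b.φ).symm)) (by decide)
  have hTneX : b.eT ≠ b.eX := by rw [hTψ]; exact hXnot _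
  have hXne : b.eX ≠ 1 := fun h => hXnot 1 (by rw [map_one, h])
  -- the commutator
  set d := b.eP * b.eP' * b.eP * b.eP' with hd_def
  have hdinv : d⁻¹ = b.eP' * b.eP * b.eP' * b.eP := by
    simp only [hd_def, mul_inv_rev, commute_inv_of_mul_self hpp, commute_inv_of_mul_self hp'p',
      mul_assoc]
  have hd : b.eP * d * b.eP = d⁻¹ := by
    rw [hdinv, hd_def]
    simp only [← mul_assoc, hpp, one_mul]
  have hdCF : d ∈ b.CF := by
    have conj : ∀ {g a a' : G}, g * g = 1 → g * a * g = a' → g * a = a' * g := by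
      intro g a a' hg h
      rw [← h, mul_assoc (g * a), hg, mul_one]
    have hj : Commute d b.eJ := by
      have e1 : b.eP * b.eJ = b.eX * b.eJ * b.eP := conj hpp hpj
      have e2 : b.eP' * b.eJ = b.eT * b.eJ * b.eP' := conj hp'p' hp'j
      have e3 : b.eP * b.eT = b.eT * b.eP := hTP.eq.symm
      have e4 : b.eP' * b.eX = b.eX * b.eP' := hXP'.eq.symm
      have e5 : b.eP * b.eX = b.eX * b.eP := hXP.eq.symm
      have e6 : b.eP' * b.eT = b.eT * b.eP' := hTP'.eq.symm
      have a1 : b.eP * b.eP' * b.eT = b.eT * (b.eP * b.eP') := by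
        rw [mul_assoc, e6, ← mul_assoc, e3, mul_assoc]
      have a2 : b.eP * b.eP' * b.eX = b.eX * (b.eP * b.eP') := by
        rw [mul_assoc, e4, ← mul_assoc, e5, mul_assoc]
      have a3 : b.eP * b.eP' * b.eJ = b.eT * b.eX * b.eJ * (b.eP * b.eP') := by
        rw [mul_assoc, e2, ← mul_assoc, ← mul_assoc, e3, mul_assoc b.eT, e1]
        simp only [mul_assoc]
      have hT2 : b.eT * b.eT = 1 := by
        rw [hTψ, ← map_mul, show b5 * b5 = 1 from by decide, map_one]
      have hX2 : b.eX * b.eX = 1 := by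
        rw [← map_mul, show b5 * b5 = 1 from by decide, map_one]
      show d * b.eJ = b.eJ * d
      calc d * b.eJ = b.eP * b.eP' * (b.eP * b.eP' * b.eJ) := by simp only [hd_def, mul_assoc]
        _ = b.eP * b.eP' * b.eT * b.eX * b.eJ * (b.eP * b.eP') := by
          rw [a3]; simp only [mul_assoc]
        _ = b.eT * b.eX * (b.eP * b.eP' * b.eJ) * (b.eP * b.eP') := by
          rw [a1, mul_assoc b.eT (b.eP * b.eP') b.eX, a2]
          simp only [mul_assoc]
        _ = (b.eT * b.eX) * (b.eT * b.eX) * b.eJ * (b.eP * b.eP' * (b.eP * b.eP')) := by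
          rw [a3]; simp only [mul_assoc]
        _ = b.eJ * d := by
          have hsq : (b.eT * b.eX) * (b.eT * b.eX) = 1 := by
            rw [mul_assoc, ← mul_assoc b.eX, hTX.eq.symm, mul_assoc, hX2, mul_one, hT2]
          rw [hsq, one_mul]; simp only [hd_def, mul_assoc]
    have hdT : Commute d b.eT :=
      (((hTP.symm).mul_left hTP'.symm).mul_left hTP.symm).mul_left hTP'.symm
    have hdX : Commute d b.eX :=
      (((hXP.symm).mul_left hXP'.symm).mul_left hXP.symm).mul_left hXP'.symm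
    have hdA : Commute d b.eA := hA ▸ hdX.mul_right hj
    intro a ha
    rcases ha with rfl | rfl | rfl
    exacts [hdT.eq.symm, hdA.eq.symm, hj.eq.symm]
  -- conjugating the first mixed involution into the second kind is impossible
  have hno : ∀ e ∈ b.CF, b.eP * d ≠ e⁻¹ * b.eP * e := by
    intro e he h
    have h1 : b.eP' * b.eP * b.eP' = e⁻¹ * b.eP * e := by
      rw [← h, hd_def]; simp only [← mul_assoc, hpp, one_mul]
    have hcommP : Commute (e * b.eP') b.eP := by
      show _ = _
      have h2 : e * (b.eP' * b.eP * b.eP') * e⁻¹ = b.eP := by rw [h1]; group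
      calc e * b.eP' * b.eP = e * (b.eP' * b.eP * b.eP') * e⁻¹ * (e * b.eP') := by
            simp only [mul_assoc, inv_mul_cancel_left, hp'p', mul_one]
        _ = b.eP * (e * b.eP') := by rw [h2]
    have heT : ∀ a ∈ ({b.eT, b.eA, b.eJ} : Set G), Commute e a := fun a ha => (he a ha).symm
    have heX : Commute e b.eX := by
      have h3 : b.eX = b.eA * b.eJ := by rw [eX, eA, eJ, ← map_mul]; exact congrArg b.φ (by decide)
      rw [h3]; exact (heT _ (by simp)).mul_right (heT _ (by simp))
    have hmem := hcent _ (heX.mul_left hXP'.symm) hcommP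
    -- the closure moves `j` within `{j, x j}`
    have hJc : ∀ g ∈ Subgroup.closure ({b.eX, b.eP, b.eZ, b.eT} : Set G),
        g * b.eJ * g⁻¹ = b.eJ ∨ g * b.eJ * g⁻¹ = b.eX * b.eJ := by
      have hX2 : b.eX * b.eX = 1 := by
        rw [← map_mul, show b5 * b5 = 1 from by decide, map_one]
      have hZJ : Commute b.eZ b.eJ := b.ψc_comm _
      have hgx : ∀ g ∈ Subgroup.closure ({b.eX, b.eP, b.eZ, b.eT} : Set G), Commute g b.eX := by
        intro g hg
        induction hg using Subgroup.closure_induction with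
        | mem a ha =>
          rcases ha with rfl | rfl | rfl | rfl
          exacts [Commute.refl _, hXP.symm, b.ψc_comm _, hTX]
        | one => exact Commute.one_left _
        | mul _ _ _ _ h1 h2 => exact h1.mul_left h2
        | inv _ _ h1 => exact h1.inv_left
      intro g hg
      induction hg using Subgroup.closure_induction with
      | mem a ha =>
        rcases ha with rfl | rfl | rfl | rfl
        · left; rw [hXJ.eq, mul_inv_cancel_right]
        · right; rw [commute_inv_of_mul_self hpp]; exact hpj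
        · left; rw [hZJ.eq, mul_inv_cancel_right]
        · left; rw [hTJ.eq, mul_inv_cancel_right]
      | one => left; simp
      | mul u v hu hv h1 h2 =>
        have hux := (hgx u hu).eq
        have e1 : u * v * b.eJ * (u * v)⁻¹ = u * (v * b.eJ * v⁻¹) * u⁻¹ := by group
        rw [e1]
        rcases h2 with h2 | h2 <;> rw [h2]
        · exact h1
        · have e2 : u * (b.eX * b.eJ) * u⁻¹ = b.eX * (u * b.eJ * u⁻¹) := by
            rw [← mul_assoc u, hux]; group
          rw [e2]
          rcases h1 with h1 | h1 <;> rw [h1]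
          · exact Or.inr rfl
          · left; rw [← mul_assoc, hX2, one_mul]
      | inv u hu h1 =>
        have hux := (hgx u hu).inv_left.eq
        rcases h1 with h1 | h1
        · left
          calc u⁻¹ * b.eJ * u⁻¹⁻¹ = u⁻¹ * (u * b.eJ * u⁻¹) * u⁻¹⁻¹ := by rw [h1]
            _ = b.eJ := by group
        · right
          have e3 : b.eJ = u⁻¹ * (b.eX * b.eJ) * u := by rw [← h1]; group
          calc u⁻¹ * b.eJ * u⁻¹⁻¹ = b.eX * (b.eX * (u⁻¹ * b.eJ * u)) := by
                rw [← mul_assoc, hX2, one_mul, inv_inv]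
            _ = b.eX * b.eJ := by
                conv_rhs => rw [e3]
                simp only [← mul_assoc, hux]
    have he' : e * b.eP' * b.eJ * (e * b.eP')⁻¹ = b.eT * b.eJ := by
      calc e * b.eP' * b.eJ * (e * b.eP')⁻¹ = e * (b.eP' * b.eJ * b.eP') * e⁻¹ := by
            rw [mul_inv_rev, commute_inv_of_mul_self hp'p']; simp only [mul_assoc]
        _ = e * (b.eT * b.eJ) * e⁻¹ := by rw [hp'j]
        _ = b.eT * b.eJ := by
            rw [((heT _ (by simp)).mul_right (heT _ (by simp)) : Commute e (b.eT * b.eJ)).eq]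
            group
    rcases hJc _ hmem with h2 | h2 <;> rw [he'] at h2
    · have := mul_eq_right.1 h2
      rw [hTψ] at this
      exact absurd (b.ψ_injective (this.trans (map_one b.ψ).symm)) (by decide)
    · exact hTneX (mul_right_cancel h2)
  rcases hcases with hF | hall
  swap
  · obtain ⟨e, he, h⟩ := hall d hdCF hd
    exact hno e he h
  -- the commutator is centralised by `p`
  have hdsq : d = d⁻¹ := by
    have hAJ : Commute b.eA b.eJ := b.φ_comm (by decide)
    have hTA : Commute b.eT b.eA := hTφ _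
    have hgen : ∀ a ∈ ({b.eT, b.eA, b.eJ} : Set G), ∀ a' ∈ ({b.eT, b.eA, b.eJ} : Set G),
        a * a' = a' * a := by
      rintro a (rfl | rfl | rfl) a' (rfl | rfl | rfl)
      exacts [rfl, hTA.eq, hTJ.eq, hTA.eq.symm, rfl, hAJ.eq, hTJ.eq.symm, hAJ.eq.symm, rfl]
    haveI : IsMulCommutative b.F := Subgroup.isMulCommutative_closure hgen
    have hsq : ∀ g ∈ b.F, g * g = 1 ∧ True := by
      intro g hg
      refine ⟨?_, trivial⟩
      induction hg using Subgroup.closure_induction with
      | mem a ha =>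
        rcases ha with rfl | rfl | rfl
        · rw [hTψ, ← map_mul, show b5 * b5 = 1 from by decide, map_one]
        · rw [← map_mul, show a5 * a5 = 1 from by decide, map_one]
        · rw [← map_mul, show r5 * r5 = 1 from by decide, map_one]
      | one => exact one_mul 1
      | mul u v hu hv h1 h2 =>
        have huv : Commute u v := congrArg Subtype.val (mul_comm' (⟨u, hu⟩ : b.F) ⟨v, hv⟩)
        rw [mul_assoc, ← mul_assoc v, ← huv.eq, mul_assoc, h2, mul_one, h1]
      | inv u _ h1 => rw [← mul_inv_rev, h1, inv_one]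
    exact (inv_eq_of_mul_eq_one_right (hsq d (hF hdCF)).1).symm
  have hdP : Commute d b.eP := by
    show _ = _
    calc d * b.eP = b.eP * (b.eP * d * b.eP) := by simp only [← mul_assoc, hpp, one_mul]
      _ = b.eP * d := by rw [hd, ← hdsq]
  -- the square relation with a five-cycle
  have heps : ∀ u, b.eP * b.eP' * b.eP = b.ψ u * b.eX →
      Odd (orderOf (p5 * c5)) → False := by
    intro u hu hodd
    have hpc : b.eP * b.eZ * b.eP = b.eZ := by
      rw [mul_assoc, (b.ψc_comm p5).eq, ← mul_assoc, hpp, one_mul]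
    have hy : b.eP * b.ψ (p5 * c5) * b.eP = b.ψ (u * c5) * b.eX := by
      calc b.eP * b.ψ (p5 * c5) * b.eP = (b.eP * b.eP' * b.eP) * (b.eP * b.eZ * b.eP) := by
            rw [map_mul]; simp only [mul_assoc]; rw [← mul_assoc b.eP b.eP, hpp, one_mul]
        _ = b.ψ u * b.eX * b.eZ := by rw [hu, hpc]
        _ = b.ψ (u * c5) * b.eX := by rw [map_mul, mul_assoc, (hXψ c5).eq, ← mul_assoc]
    obtain ⟨k, hk⟩ := hodd
    have hpow : (b.eP * b.ψ (p5 * c5) * b.eP) ^ (2 * k + 1) = 1 := by
      have h0 : b.eP * b.ψ (p5 * c5) * b.eP = b.eP * b.ψ (p5 * c5) * b.eP⁻¹ := by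
        rw [commute_inv_of_mul_self hpp]
      rw [h0, conj_pow, ← map_pow, ← hk, pow_orderOf_eq_one, map_one, mul_one, mul_inv_cancel]
    have hX2 : b.eX ^ 2 = 1 := by
      rw [← map_pow, show b5 ^ 2 = 1 from by decide, map_one]
    rw [hy, ((hXψ (u * c5)).symm).mul_pow, pow_succ b.eX, pow_mul, hX2, one_pow, one_mul,
      ← map_pow] at hpow
    refine hXnot ((u * c5) ^ (2 * k + 1))⁻¹ ?_
    rw [map_inv]
    exact (eq_inv_of_mul_eq_one_right hpow).symm
  have hodd : Odd (orderOf (p5 * c5)) := by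
    haveI : Fact (Nat.Prime 5) := ⟨by norm_num⟩
    rw [orderOf_eq_prime (p := 5) (by decide) (by decide)]; decide
  have hconjP : b.eP * b.eP' * b.eP = d * b.eP' := by
    rw [hd_def, mul_assoc _ b.eP' b.eP', hp'p', mul_one]
  rcases hfix d hdCF hdP with hd1 | hdTT | hdXX | hdTX
  · refine hno 1 (one_mem _) ?_
    rw [hd1]; simp
  · -- conjugate by the swap
    have hcc : c * c = 1 := by
      have := pow_orderOf_eq_one c; rwa [hc2, pow_two] at this
    have hci : c⁻¹ = c := commute_inv_of_mul_self hcc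
    obtain ⟨u, hu, hu'⟩ : ∃ u : Perm (Fin 5), c * b.eP * c = b.ψ u ∧ (u = p5 ∨ u = b5 * p5) := by
      exact conj_swap_P b hσ hcz hcj hct hcc
    obtain ⟨v, hv, hv'⟩ : ∃ v : Perm (Fin 5), c * b.eP' * c = b.φ v ∧ (v = p5 ∨ v = b5 * p5) := by
      exact conj_swap_P' b hσ hcz hcj hct hcc
    have hcd : c * d * c = b.ψ u * b.φ v * b.ψ u * b.φ v := by
      rw [← hu, ← hv, hd_def]
      simp only [mul_assoc]
      simp only [← mul_assoc c c, hcc, one_mul]
    rw [hdTT, hct, hX] at hcd
    have hval : b.ψ u * b.φ v * b.ψ u * b.φ v = b.eT := by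
      have hbase : b.eP' * b.eP * b.eP' * b.eP = b.eT := by rw [← hdinv, ← hdsq, hdTT]
      have hTT : b.eT * b.eT = 1 := by
        rw [hTψ, ← map_mul, show b5 * b5 = 1 from by decide, map_one]
      have hXX : b.eX * b.eX = 1 := by
        rw [← map_mul, show b5 * b5 = 1 from by decide, map_one]
      have hBP : b.ψ (b5 * p5) = b.eT * b.eP' := by rw [map_mul, hTψ]
      have hBP2 : b.φ (b5 * p5) = b.eX * b.eP := by rw [map_mul]
      have step1 : ∀ q : G, Commute b.eT q → (b.eT * b.eP') * q * (b.eT * b.eP') * q =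
          b.eP' * q * b.eP' * q := by
        intro q hq
        calc (b.eT * b.eP') * q * (b.eT * b.eP') * q
            = b.eT * ((b.eP' * q) * b.eT) * (b.eP' * q) := by simp only [mul_assoc]
          _ = b.eT * (b.eT * (b.eP' * q)) * (b.eP' * q) := by rw [(hTP'.mul_right hq).eq]
          _ = _ := by rw [← mul_assoc b.eT b.eT, hTT, one_mul]; simp only [mul_assoc]
      have step2 : b.eP' * (b.eX * b.eP) * b.eP' * (b.eX * b.eP) =
          b.eP' * b.eP * b.eP' * b.eP := by
        calc b.eP' * (b.eX * b.eP) * b.eP' * (b.eX * b.eP)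
            = (b.eX * (b.eP' * b.eP)) * (b.eX * (b.eP' * b.eP)) := by
              rw [← mul_assoc b.eP', ← hXP'.eq]; simp only [mul_assoc]
              rw [← mul_assoc b.eP' b.eX b.eP, ← hXP'.eq]; simp only [mul_assoc]
          _ = b.eX * b.eX * ((b.eP' * b.eP) * (b.eP' * b.eP)) := by
              have := (hXP'.mul_right hXP).eq
              rw [mul_assoc b.eX (b.eP' * b.eP), ← mul_assoc (b.eP' * b.eP) b.eX, ← this]
              simp only [mul_assoc]
          _ = _ := by rw [hXX, one_mul]; simp only [mul_assoc]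
      have hTv : Commute b.eT (b.φ v) := hTφ v
      rcases hu' with rfl | rfl
      · rcases hv' with rfl | rfl
        · exact hbase
        · rw [hBP2, ← eP']; exact step2.trans hbase
      · rw [hBP, step1 _ hTv]
        rcases hv' with rfl | rfl
        · exact hbase
        · rw [hBP2]; exact step2.trans hbase
    exact hTneX (hval.symm.trans hcd.symm)
  · refine heps p5 ?_ hodd
    rw [hconjP, hdXX, (hXψ p5).eq]
  · refine heps (b5 * p5) ?_ hodd
    rw [hconjP, hdTX, map_mul, hTψ, mul_assoc, (hXψ p5).eq, ← mul_assoc]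

end Base

end CfsgLib.SymEightThree
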