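import Cfsg.Agent.Lib.SymEightThree.Trivial.Facts
import Cfsg.Agent.Lib.SymEightThree.Tri
import Cfsg.Agent.Lib.Invol.GlaubermanZStar
import Cfsg.Agent.S0205
import Mathlib.GroupTheory.FixedPointFree

/-!
The trivial configuration with `σ` a double transposition, when the centraliser of the elementary
subgroup of order eight has a normal complement of odd order: that complement is trivial.
-/

set_option autoImplicit false
set_option linter.style.haveILetI false
set_option linter.unusedSectionVars false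
set_option maxHeartbeats 1000000

namespace CfsgLib.SymEightThree

open Subgroup Equiv

universe u

namespace BOdd

variable {G : Type u} [Group G]

theorem sq_two {a : G} (ha : a * a = 1) {x : G} (hx : x ∈ zpowers a) : x = 1 ∨ x = a := by
  obtain ⟨k, rfl⟩ := mem_zpowers_iff.1 hx
  rcases Int.even_or_odd k with ⟨m, rfl⟩ | ⟨m, rfl⟩
  · left
    rw [← two_mul, zpow_mul, show (2 : ℤ) = ((2 : ℕ) : ℤ) from rfl, zpow_natCast, pow_two, ha, one_zpow]
  · right
    rw [zpow_add, zpow_one, zpow_mul, show (2 : ℤ) = ((2 : ℕ) : ℤ) from rfl, zpow_natCast, pow_two, ha,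
      one_zpow, one_mul]

/-- An element of odd order conjugating `e` to `e` or its inverse centralises it. -/
theorem odd_comm {g e : G} (hg : Odd (orderOf g)) (h : g * e * g⁻¹ = e ∨ g * e * g⁻¹ = e⁻¹) :
    Commute g e := by
  rcases h with h | h
  · exact mul_inv_eq_iff_eq_mul.1 h
  · have h2 : Commute (g * g) e := by
      refine mul_inv_eq_iff_eq_mul.1 ?_
      calc g * g * e * (g * g)⁻¹ = g * (g * e * g⁻¹) * g⁻¹ := by group
        _ = g * e⁻¹ * g⁻¹ := by rw [h]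
        _ = (g * e * g⁻¹)⁻¹ := by group
        _ = e := by rw [h, inv_inv]
    obtain ⟨k, hk⟩ := hg
    have e1 : g = (g * g) ^ (k + 1) := by
      rw [← pow_two, ← pow_mul, show 2 * (k + 1) = (2 * k + 1) + 1 by ring, pow_succ, ← hk,
        pow_orderOf_eq_one, one_mul]
    rw [e1]
    exact h2.pow_left _

theorem eq_one_of_odd_of_sq {g : G} (hg : Odd (orderOf g)) (h : g * g = 1) : g = 1 := by
  refine orderOf_eq_one_iff.1 ?_
  have hd : orderOf g ∣ 2 := orderOf_dvd_of_pow_eq_one (by rw [pow_two]; exact h)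
  exact Nat.dvd_one.1 ((Nat.coprime_two_right.2 hg).dvd_of_dvd_mul_right (by simpa using hd))

theorem order_conj (q g : G) : orderOf (q * g * q⁻¹) = orderOf g :=
  (MulAut.conj q).orderOf_eq g

theorem odd_conj {g : G} (q : G) (hg : Odd (orderOf g)) : Odd (orderOf (q * g * q⁻¹)) := by
  rwa [order_conj]

variable (b : Base G)

theorem mem_CF {g : G} : g ∈ b.CF ↔ Commute g b.eT ∧ Commute g b.eA ∧ Commute g b.eJ := by
  rw [Base.CF, mem_centralizer_iff]
  refine ⟨fun h => ⟨(h _ (by simp)).symm, (h _ (by simp)).symm, (h _ (by simp)).symm⟩, ?_⟩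
  rintro ⟨h1, h2, h3⟩ x (rfl | rfl | rfl)
  exacts [h1.eq.symm, h2.eq.symm, h3.eq.symm]

theorem gens_mem : b.eT ∈ b.F ∧ b.eA ∈ b.F ∧ b.eJ ∈ b.F :=
  ⟨subset_closure (by simp), subset_closure (by simp), subset_closure (by simp)⟩

theorem F_cases {f : G} (hf : f ∈ b.F) :
    ∃ t, (t = 1 ∨ t = b.eT) ∧ ∃ s, (s = 1 ∨ s = b.eA) ∧ ∃ r, (r = 1 ∨ r = b.eJ) ∧ f = t * (s * r) := by
  have hle : b.F ≤ zpowers b.eT ⊔ (zpowers b.eA ⊔ zpowers b.eJ) := by
    rw [Base.F, closure_le]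
    rintro _ (rfl | rfl | rfl)
    exacts [mem_sup_left (mem_zpowers _), mem_sup_right (mem_sup_left (mem_zpowers _)),
      mem_sup_right (mem_sup_right (mem_zpowers _))]
  have hAJ : ∀ a ∈ zpowers b.eA, ∀ c ∈ zpowers b.eJ, Commute a c := fun a ha c hc => by
    obtain ⟨k, rfl⟩ := mem_zpowers_iff.1 ha
    obtain ⟨l, rfl⟩ := mem_zpowers_iff.1 hc
    exact b.comm_eA_eJ.zpow_zpow k l
  obtain ⟨t, ht, sr, hsr, rfl⟩ := Tri.exists_mul_of_mem_sup (fun t ht c hc => by
    obtain ⟨k, rfl⟩ := mem_zpowers_iff.1 ht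
    obtain ⟨s, hs, r, hr, rfl⟩ := Tri.exists_mul_of_mem_sup hAJ hc
    obtain ⟨l, rfl⟩ := mem_zpowers_iff.1 hs
    obtain ⟨l', rfl⟩ := mem_zpowers_iff.1 hr
    exact (b.comm_eT_eA.zpow_zpow k l).mul_right (b.comm_eT_eJ.zpow_zpow k l')) (hle hf)
  obtain ⟨s, hs, r, hr, rfl⟩ := Tri.exists_mul_of_mem_sup hAJ hsr
  exact ⟨t, sq_two b.eT_sq ht, s, sq_two b.eA_sq hs, r, sq_two b.eJ_sq hr, rfl⟩

theorem F_le_CF : b.F ≤ b.CF := by
  rw [Base.F, closure_le]
  rintro _ (rfl | rfl | rfl) <;> rw [SetLike.mem_coe, mem_CF]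
  exacts [⟨Commute.refl _, b.comm_eT_eA, b.comm_eT_eJ⟩, ⟨b.comm_eT_eA.symm, Commute.refl _, b.comm_eA_eJ⟩,
    ⟨b.comm_eT_eJ.symm, b.comm_eA_eJ.symm, Commute.refl _⟩]

theorem comm_F {g f : G} (hg : g ∈ b.CF) (hf : f ∈ b.F) : Commute g f := by
  obtain ⟨hT, hA, hJ⟩ := (mem_CF b).1 hg
  obtain ⟨t, ht, s, hs, r, hr, rfl⟩ := F_cases b hf
  refine Commute.mul_right ?_ (Commute.mul_right ?_ ?_)
  · rcases ht with rfl | rfl
    exacts [Commute.one_right g, hT]
  · rcases hs with rfl | rfl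
    exacts [Commute.one_right g, hA]
  · rcases hr with rfl | rfl
    exacts [Commute.one_right g, hJ]

theorem F_sq {f : G} (hf : f ∈ b.F) : f * f = 1 := by
  obtain ⟨t, ht, s, hs, r, hr, rfl⟩ := F_cases b hf
  have hsr : Commute s r := by
    rcases hs with rfl | rfl
    · exact Commute.one_left r
    · rcases hr with rfl | rfl
      exacts [Commute.one_right _, b.comm_eA_eJ]
  have htsr : Commute t (s * r) := by
    rcases ht with rfl | rfl
    · exact Commute.one_left _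
    · refine Commute.mul_right ?_ ?_
      · rcases hs with rfl | rfl
        exacts [Commute.one_right _, b.comm_eT_eA]
      · rcases hr with rfl | rfl
        exacts [Commute.one_right _, b.comm_eT_eJ]
  rw [htsr.symm.mul_mul_mul_comm, hsr.symm.mul_mul_mul_comm]
  rcases ht with rfl | rfl <;> rcases hs with rfl | rfl <;> rcases hr with rfl | rfl <;>
    simp [b.eT_sq, b.eA_sq, b.eJ_sq]

/-- Two elements of odd order in one coset of `F` agree. -/
theorem uniq {f g : G} (hf : f ∈ b.F) (hg : g ∈ b.CF) (h1 : Odd (orderOf g))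
    (h2 : Odd (orderOf (f * g))) : f = 1 := by
  obtain ⟨n, hn⟩ := h1.mul h2
  have hc : Commute f g := (comm_F b hg hf).symm
  have e1 : g ^ (orderOf g * orderOf (f * g)) = 1 := by rw [pow_mul, pow_orderOf_eq_one, one_pow]
  have e2 : (f * g) ^ (orderOf g * orderOf (f * g)) = 1 := by
    rw [mul_comm, pow_mul, pow_orderOf_eq_one, one_pow]
  rw [hc.mul_pow, e1, mul_one, hn, pow_succ, pow_mul, pow_two, F_sq b hf, one_pow, one_mul] at e2
  exact e2

theorem conj_mem_CF {q g : G} (hq : q ∈ normalizer (b.F : Set G)) (hg : g ∈ b.CF) :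
    q * g * q⁻¹ ∈ b.CF := by
  have key : ∀ f ∈ b.F, Commute (q * g * q⁻¹) f := by
    intro f hf
    have hf' : q⁻¹ * f * q ∈ b.F := by
      simpa using Tri.conj_mem_of_mem_normalizer (inv_mem hq) hf
    have := Commute.map (comm_F b hg hf') (MulAut.conj q)
    simp only [MulAut.conj_apply] at this
    rwa [show q * (q⁻¹ * f * q) * q⁻¹ = f by group] at this
  exact (mem_CF b).2 ⟨key _ (gens_mem b).1, key _ (gens_mem b).2.1, key _ (gens_mem b).2.2⟩

variable [Finite G]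

theorem mem_normalizer_F {q : G} (hT : q * b.eT * q⁻¹ ∈ b.F) (hA : q * b.eA * q⁻¹ ∈ b.F)
    (hJ : q * b.eJ * q⁻¹ ∈ b.F) : q ∈ normalizer (b.F : Set G) := by
  refine Tri.mem_normalizer_of_conj_mem fun f hf => ?_
  have hle : b.F ≤ b.F.comap (MulAut.conj q).toMonoidHom := by
    rw [Base.F, closure_le]
    rintro _ (rfl | rfl | rfl)
    exacts [hT, hA, hJ]
  exact hle hf

/-- A fixed-point-free involution inverts the elements of odd order, and they commute. -/
theorem invert (hodd : ∀ g ∈ b.CF, ∃ f ∈ b.F, Odd (orderOf (f * g))) {q : G} (hq : q * q = 1)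
    (hqN : q ∈ normalizer (b.F : Set G))
    (hfix : ∀ g ∈ b.CF, Odd (orderOf g) → Commute g q → g = 1) :
    (∀ g ∈ b.CF, Odd (orderOf g) → q * g * q⁻¹ = g⁻¹) ∧
      ∀ g ∈ b.CF, Odd (orderOf g) → ∀ k ∈ b.CF, Commute k g := by
  classical
  set N := b.F.subgroupOf b.CF with hN
  haveI : N.Normal := ⟨fun v hv x => by
    rw [hN, mem_subgroupOf] at hv ⊢
    rw [Subgroup.coe_mul, Subgroup.coe_mul, Subgroup.coe_inv, (comm_F b x.2 hv).eq, mul_inv_cancel_right]
    exact hv⟩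
  let α0 : b.CF →* b.CF :=
    ((MulAut.conj q).toMonoidHom.comp b.CF.subtype).codRestrict b.CF fun g => conj_mem_CF b hqN g.2
  let α : b.CF ⧸ N →* b.CF ⧸ N := QuotientGroup.map N N α0 fun v hv => by
    rw [mem_comap, hN, mem_subgroupOf]
    exact Tri.conj_mem_of_mem_normalizer hqN hv
  have hmk : ∀ g : b.CF, α (QuotientGroup.mk g) = QuotientGroup.mk (α0 g) := fun g => rfl
  have hrep : ∀ g : b.CF, ∃ g0 : b.CF, Odd (orderOf (g0 : G)) ∧
      (QuotientGroup.mk g0 : b.CF ⧸ N) = QuotientGroup.mk g := fun g => by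
    obtain ⟨f, hf, ho⟩ := hodd g g.2
    refine ⟨⟨f, F_le_CF b hf⟩ * g, ho, ?_⟩
    rw [QuotientGroup.mk_mul, (QuotientGroup.eq_one_iff (⟨f, F_le_CF b hf⟩ : b.CF)).2 hf, one_mul]
  have hsame : ∀ g k : b.CF, Odd (orderOf (g : G)) → Odd (orderOf (k : G)) →
      (QuotientGroup.mk g : b.CF ⧸ N) = QuotientGroup.mk k → (g : G) = k := by
    intro g k hg hk h
    have hm : (g : G) * (k : G)⁻¹ ∈ b.F := by
      refine mem_subgroupOf.1 ((QuotientGroup.eq_one_iff (g * k⁻¹)).1 ?_)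
      rw [QuotientGroup.mk_mul, QuotientGroup.mk_inv, h, mul_inv_cancel]
    have := uniq b hm k.2 hk (by rwa [inv_mul_cancel_right])
    exact mul_inv_eq_one.1 this
  have hα : MonoidHom.FixedPointFree α := by
    intro k hk
    obtain ⟨g, rfl⟩ := QuotientGroup.mk_surjective k
    obtain ⟨g0, ho, he⟩ := hrep g
    rw [← he, hmk] at hk
    have hfx : q * (g0 : G) * q⁻¹ = g0 := hsame (α0 g0) g0 (odd_conj q ho) ho hk
    have h1 : (g0 : G) = 1 := hfix g0 g0.2 ho (mul_inv_eq_iff_eq_mul.1 hfx).symm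
    rw [← he, show g0 = 1 from Subtype.ext h1, QuotientGroup.mk_one]
  have hinv : Function.Involutive α := by
    intro k
    obtain ⟨g, rfl⟩ := QuotientGroup.mk_surjective k
    rw [hmk, hmk]
    refine congrArg _ (Subtype.ext ?_)
    show q * (q * (g : G) * q⁻¹) * q⁻¹ = g
    calc q * (q * (g : G) * q⁻¹) * q⁻¹ = q * q * g * (q * q)⁻¹ := by group
      _ = g := by rw [hq, one_mul, inv_one, mul_one]
  refine ⟨fun g hg ho => ?_, fun g hg ho k hk => ?_⟩
  · refine hsame (α0 ⟨g, hg⟩) (⟨g, hg⟩⁻¹) (odd_conj q ho) ?_ ?_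
    · show Odd (orderOf g⁻¹)
      rwa [orderOf_inv]
    · rw [← hmk, hα.coe_eq_inv_of_involutive hinv, QuotientGroup.mk_inv]
  · have h := (hα.commute_all_of_involutive hinv (QuotientGroup.mk ⟨k, hk⟩) (QuotientGroup.mk ⟨g, hg⟩)).eq
    refine mul_inv_eq_iff_eq_mul.1 (hsame (⟨k, hk⟩ * ⟨g, hg⟩ * ⟨k, hk⟩⁻¹) ⟨g, hg⟩ (odd_conj k ho) ho ?_)
    rw [QuotientGroup.mk_mul, QuotientGroup.mk_mul, QuotientGroup.mk_inv, h, mul_inv_cancel_right]

/-! ### relations for `σ = b5` -/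

theorem rels (hσ : b.σ = b5) :
    b.eX = b.φ b.σ ∧ b.eP' * b.eJ * b.eP' = b.eT * b.eJ ∧ b.eP' * b.eA * b.eP' = b.eT * b.eA ∧
      b.eT * b.eX * b.eJ = b.eT * b.eA ∧ b.eT ≠ b.eX ∧ IsConj b.eT b.eX := by
  have h1 : b.eP' * b.eJ * b.eP' = b.eT * b.eJ := by
    rw [b.eP'_conj_eJ, show b.eJ = b.ψ r5 from b.ψ_r.symm, ← map_mul, hσ]
    exact congrArg b.ψ (by decide +kernel)
  have hxj : b.eX * b.eJ = b.eA := by rw [b.eX_eq, mul_assoc, b.eJ_sq, mul_one]
  refine ⟨by rw [hσ], h1, ?_, by rw [mul_assoc, hxj], ?_, isConj_iff.2 ⟨b.g, by rw [b.conj_g_ψ, hσ]⟩⟩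
  · calc b.eP' * b.eA * b.eP' = b.eP' * (b.eX * b.eJ) * b.eP' := by rw [hxj]
      _ = (b.eP' * b.eX) * b.eJ * b.eP' := by group
      _ = (b.eX * b.eP') * b.eJ * b.eP' := by rw [(b.comm_eP'_eX hσ).eq]
      _ = b.eX * (b.eP' * b.eJ * b.eP') := by group
      _ = b.eX * (b.eT * b.eJ) := by rw [h1]
      _ = b.eT * (b.eX * b.eJ) := by rw [← mul_assoc, b.comm_eT_eX.symm.eq, mul_assoc]
      _ = b.eT * b.eA := by rw [hxj]
  · intro h
    have hc : Commute b.eT b.eZ := by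
      rw [h]; exact (b.ψc_comm b5).symm
    have e := b.eT_conj_eZ
    rw [hc.eq, mul_assoc, b.eT_sq, mul_one] at e
    have h2 : b.eZ * b.eZ = 1 := by nth_rewrite 1 [e]; exact inv_mul_cancel _
    have h3 : b.eZ * b.eZ * b.eZ = 1 := Tri.z_cube b
    rw [h2, one_mul] at h3
    exact Tri.z_ne b h3

theorem eP_normalizer : b.eP ∈ normalizer (b.F : Set G) := by
  obtain ⟨hT, hA, hJ⟩ := gens_mem b
  refine mem_normalizer_F b ?_ ?_ ?_ <;> rw [b.eP_inv]
  · rwa [← b.comm_eT_eP.eq, mul_assoc, b.eP_sq, mul_one]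
  · rwa [b.eP_conj_eA]
  · rwa [b.eP_conj_eJ]

theorem eP'_normalizer (hσ : b.σ = b5) : b.eP' ∈ normalizer (b.F : Set G) := by
  obtain ⟨hT, hA, hJ⟩ := gens_mem b
  refine mem_normalizer_F b ?_ ?_ ?_ <;> rw [inv_eq_of_mul_eq_one_right b.eP'_sq]
  · rwa [(b.comm_eP'_eT hσ).eq, mul_assoc, b.eP'_sq, mul_one]
  · rw [(rels b hσ).2.2.1]; exact mul_mem hT hA
  · rw [(rels b hσ).2.1]; exact mul_mem hT hJ

theorem fix_eP (hU : b.Trivial) {g : G} (hg : g ∈ b.CF) (ho : Odd (orderOf g)) (hc : Commute g b.eP) :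
    g = 1 := by
  refine eq_one_of_odd_of_sq ho ?_
  obtain ⟨hT, hA, hJ⟩ := gens_mem b
  have hX : b.eX ∈ b.F := by rw [b.eX_eq]; exact mul_mem hA hJ
  rcases b.fixed_CF hU g hg hc with rfl | rfl | rfl | rfl
  exacts [one_mul 1, b.eT_sq, b.eX_sq, F_sq b (mul_mem hT hX)]

theorem fix_eP' (hσ : b.σ = b5) (hU : b.Trivial) {g : G} (hg : g ∈ b.CF) (ho : Odd (orderOf g))
    (hc : Commute g b.eP') : g = 1 := by
  obtain ⟨hT, hA, hJ⟩ := (mem_CF b).1 hg
  set k := b.g * g * b.g⁻¹ with hk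
  have hkx : Commute k b.eX := by
    have := hT.map (MulAut.conj b.g)
    simpa only [MulAut.conj_apply, b.conj_g_ψ, hσ] using this
  have hkp : Commute k b.eP := by
    have := hc.map (MulAut.conj b.g)
    simpa only [MulAut.conj_apply, b.conj_g_ψ] using this
  obtain ⟨v, hv, i, l, he⟩ := b.closure_form k (b.cent_x_p hU k hkx hkp)
  have hv2 : ∀ v ∈ [1, b5, p5, b5 * p5], v * v = 1 := by decide +kernel
  set u := c5 ^ (i : ℕ) * b.σ ^ (l : ℕ) with hu
  have hk2 : k * k = b.ψ (u * u) := by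
    rw [he, ((b.comm_word (i : ℕ) (l : ℕ) v)).mul_mul_mul_comm, ← map_mul b.φ, hv2 v hv, map_one,
      one_mul, ← map_mul]
  have hmem : b.ψ (u * u) ∈ b.φ.range.map (MulAut.conj b.g).toMonoidHom := by
    rw [b.g_range, ← Base.ψ_range]; exact ⟨_, rfl⟩
  obtain ⟨_, ⟨t, rfl⟩, ht⟩ := hmem
  simp only [MulEquiv.coe_toMonoidHom, MulAut.conj_apply] at ht
  have hg2 : g * g = b.φ t := by
    calc g * g = b.g⁻¹ * (k * k) * b.g := by rw [hk]; group
      _ = b.g⁻¹ * (b.g * b.φ t * b.g⁻¹) * b.g := by rw [hk2, ht]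
      _ = b.φ t := by group
  have ht2 : ∀ t : Perm (Fin 5), t * a5 = a5 * t → t * r5 = r5 * t → t * t = 1 := by decide +kernel
  have h1 : b.φ t * b.φ t = 1 := by
    have hA' : Commute (b.φ t) b.eA := hg2 ▸ hA.mul_left hA
    have hJ' : Commute (b.φ t) b.eJ := hg2 ▸ hJ.mul_left hJ
    rw [← map_mul, ht2 t (b.inj (by rw [map_mul, map_mul]; exact hA'.eq))
      (b.inj (by rw [map_mul, map_mul]; exact hJ'.eq)), map_one]
  rw [← hg2] at h1
  have hsq : Odd (orderOf (g * g)) :=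
    ho.of_dvd_nat (orderOf_dvd_of_pow_eq_one (by rw [← pow_two, pow_right_comm, pow_orderOf_eq_one, one_pow]))
  exact eq_one_of_odd_of_sq ho (eq_one_of_odd_of_sq hsq h1)

/-- The images of `eT` and `eX` under an element of `N(F) ∩ C(eJ)`. -/
theorem image_cases (hσ : b.σ = b5) (hxj : ¬ IsConj b.eX b.eJ) {u s : G}
    (hu : u ∈ normalizer (b.F : Set G)) (hs : s = b.eT ∨ s = b.eX) :
    u * s * u⁻¹ = b.eT ∨ u * s * u⁻¹ = b.eX ∨ u * s * u⁻¹ = b.eT * b.eX := by
  obtain ⟨-, hP'J, hP'A, -, -, hTX⟩ := rels b hσ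
  obtain ⟨hT, hA, hJ⟩ := gens_mem b
  have hinv' : b.eP'⁻¹ = b.eP' := inv_eq_of_mul_eq_one_right b.eP'_sq
  have hjA : IsConj b.eJ b.eA := b.isConj_eJ_eA
  have hjTJ : IsConj b.eJ (b.eT * b.eJ) := isConj_iff.2 ⟨b.eP', by rw [hinv', hP'J]⟩
  have hjTA : IsConj b.eJ (b.eT * b.eA) :=
    hjA.trans (isConj_iff.2 ⟨b.eP', by rw [hinv', hP'A]⟩)
  have hsx : IsConj s b.eX := by
    rcases hs with rfl | rfl
    exacts [hTX, IsConj.refl _]
  have hconj : IsConj s (u * s * u⁻¹) := isConj_iff.2 ⟨u, rfl⟩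
  have hne : ¬ IsConj b.eJ (u * s * u⁻¹) := fun h => hxj (hsx.symm.trans (hconj.trans h.symm))
  have hsF : s ∈ b.F := by
    rcases hs with rfl | rfl
    exacts [hT, b.eX_eq ▸ mul_mem hA hJ]
  have hne1 : u * s * u⁻¹ ≠ 1 := fun h => by
    have h2 : orderOf s = 2 := by
      rcases hs with rfl | rfl
      exacts [b.order_eT, b.order_eX]
    rw [conj_eq_one_iff.1 h, orderOf_one] at h2
    norm_num at h2
  obtain ⟨t, ht, a, ha, r, hr, e⟩ := F_cases b (Tri.conj_mem_of_mem_normalizer hu hsF)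
  rw [e] at hne hne1 ⊢
  rcases ht with rfl | rfl <;> rcases ha with rfl | rfl <;> rcases hr with rfl | rfl <;>
    simp only [one_mul, mul_one, ← b.eX_eq] at hne hne1 ⊢
  · exact absurd rfl hne1
  · exact absurd (IsConj.refl _) hne
  · exact absurd hjA hne
  · simp
  · simp
  · exact absurd hjTJ hne
  · exact absurd hjTA hne
  · simp

/-! ### an element moving `eT * eX` -/

theorem le_F_of_moved (hσ : b.σ = b5) (hU : b.Trivial) (hxj : ¬ IsConj b.eX b.eJ)
    (hodd : ∀ g ∈ b.CF, ∃ f ∈ b.F, Odd (orderOf (f * g))) {u : G}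
    (hu : u ∈ normalizer (b.F : Set G)) (huj : Commute u b.eJ)
    (hmove : u * b.eT * u⁻¹ = b.eT * b.eX ∨ u * b.eX * u⁻¹ = b.eT * b.eX) : b.CF ≤ b.F := by
  obtain ⟨-, hP'J, -, -, -, -⟩ := rels b hσ
  have hinv' : b.eP'⁻¹ = b.eP' := inv_eq_of_mul_eq_one_right b.eP'_sq
  obtain ⟨hPinv, hPcomm⟩ :=
    invert b hodd b.eP_sq (eP_normalizer b) fun g hg ho hc => fix_eP b hU hg ho hc
  obtain ⟨hP'inv, -⟩ :=
    invert b hodd b.eP'_sq (eP'_normalizer b hσ) fun g hg ho hc => fix_eP' b hσ hU hg ho hc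
  -- the element to be conjugated
  obtain ⟨q0, s, hq0s, hq0T, hq0X, hq0j, hq0⟩ : ∃ q0 s : G, u * s * u⁻¹ = b.eT * b.eX ∧
      Commute q0 b.eT ∧ Commute q0 b.eX ∧ q0 * b.eJ * q0⁻¹ = s * b.eJ ∧
      ∀ g ∈ b.CF, Odd (orderOf g) → q0 * g * q0⁻¹ = g⁻¹ := by
    rcases hmove with h | h
    · exact ⟨b.eP', b.eT, h, b.comm_eP'_eT hσ, b.comm_eP'_eX hσ, by rw [hinv', hP'J], hP'inv⟩
    · refine ⟨b.eP, b.eX, h, b.comm_eT_eP.symm, b.comm_eP_eX, ?_, hPinv⟩
      rw [b.eP_inv, b.eP_conj_eJ, b.eX_eq, mul_assoc, b.eJ_sq, mul_one]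
  set q := u * q0 * u⁻¹ with hq
  have huj' : u * b.eJ * u⁻¹ = b.eJ := by rw [huj.eq, mul_inv_cancel_right]
  have hqj : q * b.eJ * q⁻¹ = b.eT * b.eX * b.eJ := by
    calc q * b.eJ * q⁻¹ = u * q0 * (u⁻¹ * b.eJ * u) * q0⁻¹ * u⁻¹ := by rw [hq]; group
      _ = u * (q0 * b.eJ * q0⁻¹) * u⁻¹ := by
        rw [show u⁻¹ * b.eJ * u = b.eJ by rw [mul_assoc, ← huj.eq, inv_mul_cancel_left]]; group
      _ = (u * s * u⁻¹) * (u * b.eJ * u⁻¹) := by rw [hq0j]; group
      _ = b.eT * b.eX * b.eJ := by rw [hq0s, huj']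
  have hqU : ∀ e, (e = b.eT ∨ e = b.eX) → Commute q e := by
    intro e he
    have h0 : Commute q0 (u⁻¹ * e * u) := by
      rcases image_cases b hσ hxj (inv_mem hu) he with h | h | h <;> rw [inv_inv] at h <;> rw [h]
      exacts [hq0T, hq0X, hq0T.mul_right hq0X]
    have := h0.map (MulAut.conj u)
    simp only [MulAut.conj_apply] at this
    rwa [show u * (u⁻¹ * e * u) * u⁻¹ = e by group] at this
  set r := b.eP * b.eP' with hr
  have hrj : r * b.eJ * r⁻¹ = b.eT * b.eX * b.eJ := by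
    calc r * b.eJ * r⁻¹ = b.eP * (b.eP' * b.eJ * b.eP') * b.eP := by
          rw [hr, mul_inv_rev, hinv', b.eP_inv]; group
      _ = (b.eP * b.eT) * b.eJ * b.eP := by rw [hP'J]; group
      _ = (b.eT * b.eP) * b.eJ * b.eP := by rw [b.comm_eT_eP.eq]
      _ = b.eT * (b.eP * b.eJ * b.eP) := by group
      _ = b.eT * b.eX * b.eJ := by
          rw [b.eP_conj_eJ, b.eX_eq, mul_assoc b.eT, mul_assoc b.eA, b.eJ_sq, mul_one]
  have hrT : Commute r b.eT := b.comm_eT_eP.symm.mul_left (b.comm_eP'_eT hσ)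
  have hrX : Commute r b.eX := b.comm_eP_eX.mul_left (b.comm_eP'_eX hσ)
  have hmT : Commute (r⁻¹ * q) b.eT := hrT.inv_left.mul_left (hqU _ (Or.inl rfl))
  have hmX : Commute (r⁻¹ * q) b.eX := hrX.inv_left.mul_left (hqU _ (Or.inr rfl))
  have hmJ : Commute (r⁻¹ * q) b.eJ := mul_inv_eq_iff_eq_mul.1 (by
    calc r⁻¹ * q * b.eJ * (r⁻¹ * q)⁻¹ = r⁻¹ * (q * b.eJ * q⁻¹) * r := by group
      _ = r⁻¹ * (r * b.eJ * r⁻¹) * r := by rw [hqj, hrj]
      _ = b.eJ := by group)
  have hm : r⁻¹ * q ∈ b.CF := by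
    refine (mem_CF b).2 ⟨hmT, ?_, hmJ⟩
    rw [show b.eA = b.eX * b.eJ by rw [b.eX_eq, mul_assoc, b.eJ_sq, mul_one]]
    exact hmX.mul_right hmJ
  intro g hg
  obtain ⟨f, hf, ho⟩ := hodd g hg
  set g0 := f * g with hg0
  have hg0C : g0 ∈ b.CF := mul_mem (F_le_CF b hf) hg
  suffices h1 : g0 = 1 by
    rw [show g = f⁻¹ from eq_inv_of_mul_eq_one_right h1]
    exact inv_mem hf
  refine eq_one_of_odd_of_sq ho ?_
  have hq' : q * g0 * q⁻¹ = g0⁻¹ := by
    have hg1 : u⁻¹ * g0 * u ∈ b.CF := by simpa using conj_mem_CF b (inv_mem hu) hg0C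
    have ho1 : Odd (orderOf (u⁻¹ * g0 * u)) := by simpa using odd_conj u⁻¹ ho
    calc q * g0 * q⁻¹ = u * (q0 * (u⁻¹ * g0 * u) * q0⁻¹) * u⁻¹ := by rw [hq]; group
      _ = u * (u⁻¹ * g0 * u)⁻¹ * u⁻¹ := by rw [hq0 _ hg1 ho1]
      _ = g0⁻¹ := by group
  have hr' : r * g0 * r⁻¹ = g0 := by
    calc r * g0 * r⁻¹ = b.eP * (b.eP' * g0 * b.eP'⁻¹) * b.eP⁻¹ := by rw [hr]; group
      _ = (b.eP * g0 * b.eP⁻¹)⁻¹ := by rw [hP'inv g0 hg0C ho]; group
      _ = g0 := by rw [hPinv g0 hg0C ho, inv_inv]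
  have hqq : q * g0 * q⁻¹ = g0 := by
    calc q * g0 * q⁻¹ = r * ((r⁻¹ * q) * g0 * (r⁻¹ * q)⁻¹) * r⁻¹ := by group
      _ = r * g0 * r⁻¹ := by rw [(hPcomm g0 hg0C ho _ hm).eq, mul_inv_cancel_right]
      _ = g0 := hr'
  have he : g0 = g0⁻¹ := hqq.symm.trans hq'
  nth_rewrite 1 [he]
  exact inv_mul_cancel g0

/-! ### the case without such an element -/

theorem le_D {R : Subgroup G} (hR : IsPGroup 3 R)
    (hn : R ≤ normalizer (Tri.D b : Set G) ∨ Tri.D b ≤ normalizer (R : Set G)) : R ≤ Tri.D b := by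
  haveI : Fact (Nat.Prime 3) := ⟨Nat.prime_three⟩
  have hD : IsPGroup 3 (Tri.D b) := IsPGroup.of_card (n := 2) (by rw [Tri.card_D]; norm_num)
  have hS : IsPGroup 3 (R ⊔ Tri.D b : Subgroup G) := by
    rcases hn with h | h
    · exact hR.to_sup_of_normal_right' hD h
    · exact hR.to_sup_of_normal_left' hD h
  obtain ⟨k, hk⟩ := IsPGroup.iff_card.1 hS
  have hk2 : k ≤ 2 := by
    by_contra hlt
    exact b.not_dvd ((show 27 ∣ 3 ^ k from Nat.pow_dvd_pow 3 (show 3 ≤ k by omega)).trans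
      (hk ▸ Subgroup.card_subgroup_dvd_card _))
  have hle : Nat.card (R ⊔ Tri.D b : Subgroup G) ≤ Nat.card (Tri.D b) := by
    rw [hk, Tri.card_D]
    exact (Nat.pow_le_pow_right (by norm_num) hk2).trans (by norm_num)
  exact le_sup_left.trans (eq_of_le_of_card_ge le_sup_right hle).ge

/-- An element of odd order centralising a third line and the elementary subgroup is trivial. -/
theorem eq_one_of_line {g : G} (ho : Odd (orderOf g)) (hg : g ∈ b.CF)
    (hl : Commute g (b.eZ * b.eW) ∨ Commute g (b.eZ * b.eW⁻¹)) : g = 1 := by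
  haveI : Fact (Nat.Prime 3) := ⟨Nat.prime_three⟩
  obtain ⟨h36, hn⟩ := Tri.line_facts b hl
  have h9 : g ^ 9 = 1 := by
    refine orderOf_dvd_iff_pow_eq_one.1 ?_
    have hd : orderOf g ∣ 9 * 4 := orderOf_dvd_of_pow_eq_one h36
    exact (Nat.Coprime.pow_right 2 (Nat.coprime_two_right.2 ho)).dvd_of_dvd_mul_right hd
  have hp : IsPGroup 3 (zpowers g) := fun x => ⟨2, by
    obtain ⟨k, hk⟩ := mem_zpowers_iff.1 x.2
    refine Subtype.ext ?_
    rw [SubmonoidClass.coe_pow, ← hk, ← zpow_natCast, ← zpow_mul, mul_comm, zpow_mul, zpow_natCast,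
      show 3 ^ 2 = 9 from rfl, h9, one_zpow]
    rfl⟩
  have hgD : g ∈ Tri.D b :=
    le_D b hp (Or.inl (zpowers_le.2 (Tri.mem_normalizer_of_conj_mem fun d hd => hn d hd)))
      (mem_zpowers g)
  obtain ⟨s, hs, t, ht, rfl⟩ := Tri.exists_of_mem_D b hgD
  obtain ⟨hT, hA, -⟩ := (mem_CF b).1 hg
  have hs1 : s = 1 := by
    have htT : Commute t b.eT := by
      rcases ht with rfl | rfl | rfl
      exacts [Commute.one_left _, b.comm_eT_eW.symm, b.comm_eT_eW.symm.inv_left]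
    have hsT : Commute s b.eT := by
      have := hT.mul_left htT.inv_left
      rwa [mul_inv_cancel_right] at this
    have key : ∀ s : G, Commute s b.eT → (b.eT * s * b.eT = s⁻¹) → s * s = 1 := by
      intro s h e
      rw [← h.eq, mul_assoc, b.eT_sq, mul_one] at e
      nth_rewrite 1 [e]; exact inv_mul_cancel s
    rcases hs with rfl | rfl | rfl
    · rfl
    · exfalso
      have h2 := key _ hsT b.eT_conj_eZ
      have h3 := Tri.z_cube b
      rw [h2, one_mul] at h3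
      exact Tri.z_ne b h3
    · exfalso
      have h2 := key b.eZ (by simpa using hsT.inv_left) b.eT_conj_eZ
      have h3 := Tri.z_cube b
      rw [h2, one_mul] at h3
      exact Tri.z_ne b h3
  subst hs1
  rw [one_mul] at hA ⊢
  have e : b.eA * b.eW * b.eA = b.eW⁻¹ := by
    rw [← map_mul, ← map_mul, ← map_inv, Tri.c5_facts.2.2.2.1]
  have key : Commute b.eW b.eA → False := by
    intro h
    rw [← h.eq, mul_assoc, b.eA_sq, mul_one] at e
    have h2 : b.eW * b.eW = 1 := by nth_rewrite 1 [e]; exact inv_mul_cancel _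
    have h3 := Tri.w_cube b
    rw [h2, one_mul] at h3
    exact Tri.w_ne b h3
  rcases ht with rfl | rfl | rfl
  · rfl
  · exact (key hA).elim
  · exact (key (by simpa using hA.inv_left)).elim

/-- An abelian subgroup normalised by the Sylow three-subgroup and inside `C(eJ)`. -/
theorem eq_bot_of_invariant {A : Subgroup G} (hA : Odd (Nat.card A)) (h3 : ¬ 3 ∣ Nat.card A)
    (hAj : ∀ g ∈ A, Commute g b.eJ) (hz : b.eZ ∈ normalizer (A : Set G))
    (hw : b.eW ∈ normalizer (A : Set G)) : A = ⊥ := by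
  haveI : Fact (Nat.Prime 3) := ⟨Nat.prime_three⟩
  have hcop : ∀ g ∈ A, ∀ n : ℕ, (n = 6 ∨ n = 36) → g ^ n = 1 → g = 1 := by
    intro g hg n hn h
    have hd : orderOf g ∣ n := orderOf_dvd_of_pow_eq_one h
    have hA' : orderOf g ∣ Nat.card A := Subgroup.orderOf_dvd_natCard A hg
    have hc2 : Nat.Coprime (Nat.card A) 2 := Nat.coprime_two_right.2 hA
    have hc3 : Nat.Coprime (Nat.card A) 3 := ((Nat.prime_three.coprime_iff_not_dvd).2 h3).symm
    have hc : Nat.Coprime (Nat.card A) n := by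
      rcases hn with rfl | rfl
      · exact hc2.mul_right hc3
      · exact (hc2.pow_right 2).mul_right (hc3.pow_right 2)
    exact orderOf_eq_one_iff.1 (Nat.eq_one_of_dvd_coprimes hc hA' hd)
  have h6 : ∀ u : Perm (Fin 5), u * r5 = r5 * u → u ^ 6 = 1 := by decide +kernel
  rw [eq_bot_iff]
  refine CfsgLib.Solvable.le_of_lines_centralizer_le (r := 3) (Tri.comm_zw b) hz hw h3
    (by rw [pow_succ, pow_two, Tri.z_cube]; exact one_mem _)
    (by rw [pow_succ, pow_two, Tri.w_cube]; exact one_mem _) (fun i => ?_) ?_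
  · intro g hg
    obtain ⟨hgA, hgc⟩ := mem_inf.1 hg
    rw [mem_centralizer_singleton_iff,
      pow_eq_pow_mod i (show b.φ c5 ^ 3 = 1 by rw [pow_succ, pow_two]; exact Tri.w_cube b)] at hgc
    rw [Subgroup.mem_bot]
    have hi : i % 3 = 0 ∨ i % 3 = 1 ∨ i % 3 = 2 := by omega
    rcases hi with h | h | h <;> rw [h] at hgc
    · rw [pow_zero, mul_one] at hgc
      obtain ⟨s, hs, u, rfl⟩ := Tri.exists_of_comm_z b hgc
      obtain ⟨k, rfl⟩ := mem_zpowers_iff.1 hs
      have hsu : Commute (b.ψ c5 ^ k) (b.φ u) := (b.ψc_comm u).zpow_left k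
      have hsj : Commute (b.ψ c5 ^ k) b.eJ := (b.ψc_comm r5).zpow_left k
      have huj : Commute (b.φ u) b.eJ := by
        have := hsj.inv_left.mul_left (hAj _ hgA)
        rwa [inv_mul_cancel_left] at this
      refine hcop _ hgA 6 (Or.inl rfl) ?_
      rw [hsu.mul_pow, ← map_pow b.φ u, h6 u (b.inj (by rw [map_mul, map_mul]; exact huj.eq)), map_one,
        mul_one, show (6 : ℕ) = 3 * 2 from rfl, pow_mul,
        Tri.D_cube b (mem_sup_left (zpow_mem (mem_zpowers _) k)), one_pow]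
    · rw [pow_one] at hgc
      exact hcop g hgA 36 (Or.inr rfl) (Tri.line_facts b (Or.inl hgc)).1
    · have hsq : b.φ c5 ^ 2 = (b.φ c5)⁻¹ :=
        eq_inv_of_mul_eq_one_left (by rw [pow_two]; exact Tri.w_cube b)
      rw [hsq] at hgc
      exact hcop g hgA 36 (Or.inr rfl) (Tri.line_facts b (Or.inr hgc)).1
  · intro g hg
    obtain ⟨hgA, hgc⟩ := mem_inf.1 hg
    rw [mem_centralizer_singleton_iff] at hgc
    rw [Subgroup.mem_bot]
    obtain ⟨s, hs, u, rfl⟩ := Tri.exists_of_comm_w b hgc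
    obtain ⟨k, rfl⟩ := mem_zpowers_iff.1 hs
    have hsu : Commute (b.φ c5 ^ k) (b.ψ u) := (Tri.comm_w b u).zpow_left k
    have hsj : Commute (b.φ c5 ^ k) (b.ψ r5) := (Tri.comm_w b r5).zpow_left k
    have huj : Commute (b.ψ u) (b.ψ r5) := by
      have := hsj.inv_left.mul_left (show Commute (b.φ c5 ^ k * b.ψ u) (b.ψ r5) by rw [b.ψ_r]; exact hAj _ hgA)
      rwa [inv_mul_cancel_left] at this
    refine hcop _ hgA 6 (Or.inl rfl) ?_
    rw [hsu.mul_pow, ← map_pow b.ψ u, h6 u (b.ψ_injective (by rw [map_mul, map_mul]; exact huj.eq)),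
      map_one, mul_one, show (6 : ℕ) = 3 * 2 from rfl, pow_mul,
      Tri.D_cube b (mem_sup_right (zpow_mem (mem_zpowers _) k)), one_pow]

/-- The odd normal subgroup of `C(eJ)` containing the Sylow three-subgroup forces the odd part out. -/
theorem le_F_of_core {c : G} (hc2 : c * c = 1) (hcz : c * b.eZ * c = b.eW) (hcj : Commute c b.eJ)
    (hodd : ∀ g ∈ b.CF, ∃ f ∈ b.F, Odd (orderOf (f * g)))
    (X : Subgroup G) (hX : X = centralizer ({b.eJ} : Set G)) (N : Subgroup X) (hN : N.Normal)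
    (hNodd : Odd (Nat.card N)) (hDN : Tri.D b ≤ N.map X.subtype) : b.CF ≤ b.F := by
  classical
  haveI : Fact (Nat.Prime 3) := ⟨Nat.prime_three⟩
  haveI := hN
  haveI hsol : Group.IsSolvable N := Cfsg.Agent.S0205.result hNodd
  have hne : ∃ k, derivedSeries N k = ⊥ := hsol.solvable
  obtain ⟨k, hk⟩ : ∃ k, Nat.find hne = k + 1 := by
    refine ⟨Nat.find hne - 1, (Nat.succ_pred_eq_of_ne_zero fun h0 => ?_).symm⟩
    have := Nat.find_spec hne
    rw [h0, derivedSeries_zero] at this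
    have hD1 : Nat.card (Tri.D b) ≤ Nat.card (N.map X.subtype) := card_le_of_le hDN
    rw [card_map_of_injective X.subtype_injective, Tri.card_D, ← Subgroup.card_top (G := N), this,
      Subgroup.card_bot] at hD1
    omega
  set A0 := derivedSeries N k with hA0
  have hA0ne : A0 ≠ ⊥ := Nat.find_min hne (by omega)
  have hA0c : ∀ s ∈ A0, ∀ t ∈ A0, Commute s t := by
    intro s hs t ht
    have h := commutator_mem_commutator hs ht
    rw [hA0, ← derivedSeries_succ, ← hk, Nat.find_spec hne, Subgroup.mem_bot] at h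
    exact commutatorElement_eq_one_iff_mul_comm.1 h
  haveI : (A0.map N.subtype).Normal := ConjAct.normal_of_characteristic_of_normal
  set A := (A0.map N.subtype).map X.subtype with hA
  have hAX : A ≤ X := map_subtype_le _
  have hAnorm : ∀ g ∈ X, g ∈ normalizer (A : Set G) := by
    intro g hg
    refine Tri.mem_normalizer_of_conj_mem ?_
    rintro _ ⟨s, hs, rfl⟩
    exact ⟨⟨g, hg⟩ * s * ⟨g, hg⟩⁻¹, (inferInstance : (A0.map N.subtype).Normal).conj_mem s hs _, rfl⟩
  have hAne : A ≠ ⊥ := by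
    rw [hA, Ne, map_eq_bot_iff_of_injective _ X.subtype_injective,
      map_eq_bot_iff_of_injective _ N.subtype_injective]
    exact hA0ne
  have hAodd : Odd (Nat.card A) := by
    rw [hA, card_map_of_injective X.subtype_injective]
    exact hNodd.of_dvd_nat (card_dvd_of_le (map_subtype_le _))
  have hAc : ∀ s ∈ A, ∀ t ∈ A, Commute s t := by
    rintro _ ⟨_, ⟨s, hs, rfl⟩, rfl⟩ _ ⟨_, ⟨t, ht, rfl⟩, rfl⟩
    exact ((hA0c s hs t ht).map N.subtype).map X.subtype
  have hXmem : ∀ {g : G}, g ∈ X ↔ g * b.eJ = b.eJ * g := fun {g} => by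
    rw [hX, mem_centralizer_singleton_iff]
  have hzX : b.eZ ∈ X := hXmem.2 (b.ψc_comm r5).eq
  have hwX : b.eW ∈ X := hXmem.2 (by
    rw [← map_mul, ← map_mul, Tri.c5_facts.2.2.1])
  have h3A : 3 ∣ Nat.card A := by
    by_contra h3
    exact hAne (eq_bot_of_invariant b hAodd h3
      (fun g hg => hXmem.1 (hAX hg)) (hAnorm _ hzX) (hAnorm _ hwX))
  let E : Subgroup G :=
    { carrier := {g | g ∈ A ∧ g ^ 3 = 1}
      one_mem' := ⟨one_mem _, one_pow 3⟩
      mul_mem' := fun {s t} hs ht => ⟨mul_mem hs.1 ht.1, by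
        rw [(hAc s hs.1 t ht.1).mul_pow, hs.2, ht.2, one_mul]⟩
      inv_mem' := fun {s} hs => ⟨inv_mem hs.1, by rw [inv_pow, hs.2, inv_one]⟩ }
  have hEnorm : ∀ g ∈ X, ∀ e ∈ E, g * e * g⁻¹ ∈ E := fun g hg e he =>
    ⟨Tri.conj_mem_of_mem_normalizer (hAnorm g hg) he.1, by rw [conj_pow, he.2, mul_one, mul_inv_cancel]⟩
  have hED : E ≤ Tri.D b := by
    refine le_D b (fun x => ⟨1, Subtype.ext x.2.2⟩) (Or.inr ?_)
    exact sup_le (zpowers_le.2 (Tri.mem_normalizer_of_conj_mem (hEnorm _ hzX)))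
      (zpowers_le.2 (Tri.mem_normalizer_of_conj_mem (hEnorm _ hwX)))
  obtain ⟨⟨e0, he0A⟩, he0o⟩ := exists_prime_orderOf_dvd_card' 3 h3A
  rw [Subgroup.orderOf_mk] at he0o
  have he0 : e0 ∈ E := ⟨he0A, he0o ▸ pow_orderOf_eq_one e0⟩
  intro g hg
  obtain ⟨f, hf, ho⟩ := hodd g hg
  set g0 := f * g with hg0
  have hg0C : g0 ∈ b.CF := mul_mem (F_le_CF b hf) hg
  suffices h1 : g0 = 1 by
    rw [show g = f⁻¹ from eq_inv_of_mul_eq_one_right h1]
    exact inv_mem hf
  obtain ⟨hT, hA', hJ⟩ := (mem_CF b).1 hg0C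
  have hgX : g0 ∈ X := hXmem.2 hJ.eq
  refine eq_one_of_line b ho hg0C ?_
  have hcX : c ∈ X := hXmem.2 hcj.eq
  have hcinv : c⁻¹ = c := inv_eq_of_mul_eq_one_right hc2
  have hcw : c * b.eW * c = b.eZ := by
    rw [← hcz]
    calc c * (c * b.eZ * c) * c = (c * c) * b.eZ * (c * c) := by group
      _ = b.eZ := by rw [hc2, one_mul, mul_one]
  by_cases hzE : b.eZ ∈ E
  · have hwE : b.eW ∈ E := by
      have := hEnorm c hcX _ hzE
      rwa [hcinv, hcz] at this
    have hDE : Tri.D b ≤ E := sup_le (zpowers_le.2 hzE) (zpowers_le.2 hwE)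
    have hz' : Commute g0 b.eZ := by
      refine odd_comm ho ?_
      obtain ⟨s, hs, t, ht, e⟩ := Tri.exists_of_mem_D b (hED (hEnorm g0 hgX _ hzE))
      have hcA : Commute (g0 * b.eZ * g0⁻¹) b.eA :=
        (hA'.mul_left (b.ψc_comm a5)).mul_left hA'.inv_left
      have hsA : Commute s b.eA := by
        rcases hs with rfl | rfl | rfl
        exacts [Commute.one_left _, b.ψc_comm a5, (b.ψc_comm a5).inv_left]
      rw [e] at hcA
      have htA : Commute t b.eA := by
        have := hsA.inv_left.mul_left hcA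
        rwa [inv_mul_cancel_left] at this
      have ht1 : t = 1 := by
        have key : Commute b.eW b.eA → False := by
          intro h
          have e : b.eA * b.eW * b.eA = b.eW⁻¹ := by
            rw [← map_mul, ← map_mul, ← map_inv, Tri.c5_facts.2.2.2.1]
          rw [← h.eq, mul_assoc, b.eA_sq, mul_one] at e
          have h2 : b.eW * b.eW = 1 := by nth_rewrite 1 [e]; exact inv_mul_cancel _
          have h3 := Tri.w_cube b
          rw [h2, one_mul] at h3
          exact Tri.w_ne b h3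
        rcases ht with rfl | rfl | rfl
        · rfl
        · exact (key htA).elim
        · exact (key (by simpa using htA.inv_left)).elim
      rw [ht1, mul_one] at e
      rw [e]
      rcases hs with rfl | rfl | rfl
      · exact absurd (conj_eq_one_iff.1 e) (Tri.z_ne b)
      · exact Or.inl rfl
      · exact Or.inr rfl
    have hw' : Commute g0 b.eW := by
      refine odd_comm ho ?_
      obtain ⟨s, hs, t, ht, e⟩ := Tri.exists_of_mem_D b (hED (hEnorm g0 hgX _ hwE))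
      have hcT : Commute (g0 * b.eW * g0⁻¹) b.eT :=
        (hT.mul_left b.comm_eT_eW.symm).mul_left hT.inv_left
      have htT : Commute t b.eT := by
        rcases ht with rfl | rfl | rfl
        exacts [Commute.one_left _, b.comm_eT_eW.symm, b.comm_eT_eW.symm.inv_left]
      rw [e] at hcT
      have hsT : Commute s b.eT := by
        have := hcT.mul_left htT.inv_left
        rwa [mul_inv_cancel_right] at this
      have hs1 : s = 1 := by
        have key : Commute b.eZ b.eT → False := by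
          intro h
          have e := b.eT_conj_eZ
          rw [← h.eq, mul_assoc, b.eT_sq, mul_one] at e
          have h2 : b.eZ * b.eZ = 1 := by nth_rewrite 1 [e]; exact inv_mul_cancel _
          have h3 := Tri.z_cube b
          rw [h2, one_mul] at h3
          exact Tri.z_ne b h3
        rcases hs with rfl | rfl | rfl
        · rfl
        · exact (key hsT).elim
        · exact (key (by simpa using hsT.inv_left)).elim
      rw [hs1, one_mul] at e
      rw [e]
      rcases ht with rfl | rfl | rfl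
      · exact absurd (conj_eq_one_iff.1 e) (Tri.w_ne b)
      · exact Or.inl rfl
      · exact Or.inr rfl
    exact Or.inl (hz'.mul_right hw')
  · have hwE : b.eW ∉ E := fun h => hzE (by
      have := hEnorm c hcX _ h
      rwa [hcinv, hcw] at this)
    have hcardE : Nat.card E = 3 := by
      have hdvd : Nat.card E ∣ 3 ^ 2 := by
        have := card_dvd_of_le hED
        rwa [Tri.card_D] at this
      obtain ⟨i, hi, hie⟩ := (Nat.dvd_prime_pow Nat.prime_three).1 hdvd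
      have hi0 : i ≠ 0 := fun h0 => by
        rw [h0, pow_zero] at hie
        have := (Subgroup.eq_bot_of_card_eq E hie) ▸ he0
        rw [Subgroup.mem_bot] at this
        rw [this, orderOf_one] at he0o
        norm_num at he0o
      have hi2 : i ≠ 2 := fun h2 => by
        refine hzE ((eq_of_le_of_card_ge hED ?_).ge (mem_sup_left (mem_zpowers _)))
        rw [hie, h2, Tri.card_D]; norm_num
      rw [hie, show i = 1 by omega, pow_one]
    have hEeq : zpowers e0 = E := eq_of_le_of_card_ge (zpowers_le.2 he0)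
      (by rw [hcardE, Nat.card_zpowers, he0o])
    have hcomm : Commute g0 e0 := by
      refine odd_comm ho ?_
      have hm := hEnorm g0 hgX _ he0
      rw [← hEeq] at hm
      rcases Tri.zpowers_three (by
        have := pow_orderOf_eq_one e0
        rwa [he0o, pow_succ, pow_two] at this) hm with h | h | h
      · rw [conj_eq_one_iff.1 h, orderOf_one] at he0o
        norm_num at he0o
      · exact Or.inl h
      · exact Or.inr h
    have he0ne : e0 ≠ 1 := fun h => by rw [h, orderOf_one] at he0o; norm_num at he0o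
    obtain ⟨s, hs, t, ht, rfl⟩ := Tri.exists_of_mem_D b (hED he0)
    have hzw : (b.eZ⁻¹ * b.eW⁻¹)⁻¹ = b.eZ * b.eW := by
      rw [mul_inv_rev, inv_inv, inv_inv, b.comm_eZ_eW.eq]
    have hzw' : (b.eZ⁻¹ * b.eW)⁻¹ = b.eZ * b.eW⁻¹ := by
      rw [mul_inv_rev, inv_inv, b.comm_eZ_eW.inv_right.eq]
    rcases hs with rfl | rfl | rfl <;> rcases ht with rfl | rfl | rfl
    · exact absurd (one_mul 1) he0ne
    · exact absurd (by simpa using he0) hwE
    · exact absurd (by simpa using he0) hwE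
    · exact absurd (by simpa using he0) hzE
    · exact Or.inl hcomm
    · exact Or.inr hcomm
    · exact absurd (by simpa using he0) hzE
    · exact Or.inr (hzw' ▸ hcomm.inv_right)
    · exact Or.inl (hzw ▸ hcomm.inv_right)

/-- The Sylow two-subgroup of `C(eJ)`. -/
def P0 {c : G} (hc2 : c * c = 1) (hcF : ∀ f ∈ b.F, c * f * c ∈ b.F) : Subgroup G where
  carrier := {g | g ∈ b.F ∨ g * c ∈ b.F}
  one_mem' := Or.inl (one_mem _)
  mul_mem' := by
    rintro s t (hs | hs) (ht | ht)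
    · exact Or.inl (mul_mem hs ht)
    · exact Or.inr (by rw [mul_assoc]; exact mul_mem hs ht)
    · refine Or.inr ?_
      have := mul_mem hs (hcF _ ht)
      rwa [show s * c * (c * t * c) = s * (c * c) * (t * c) by group, hc2, mul_one, ← mul_assoc] at this
    · refine Or.inl ?_
      have := mul_mem hs (hcF _ ht)
      rwa [show s * c * (c * (t * c) * c) = s * (c * c) * t * (c * c) by group, hc2, mul_one, mul_one] at this
  inv_mem' := by
    rintro s (hs | hs)
    · exact Or.inl (inv_mem hs)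
    · refine Or.inr ?_
      have := inv_mem (hcF _ hs)
      rwa [show c * (s * c) * c = c * s * (c * c) by group, hc2, mul_one, mul_inv_rev,
        inv_eq_of_mul_eq_one_right hc2] at this

theorem main (hσ : b.σ = b5) (hU : b.Trivial) (hxj : ¬ IsConj b.eX b.eJ)
    (hbad : ∀ g, orderOf g = 2 → Commute g (b.eZ * b.eW) → g ≠ b.eJ → b.IsBad g)
    {c : G} (hc : orderOf c = 2) (hcz : c * b.eZ * c = b.eW) (hcj : Commute c b.eJ)
    (hct : c * b.eT * c = b.φ b.σ)
    (hodd : ∀ g ∈ b.CF, ∃ f ∈ b.F, Odd (orderOf (f * g))) : b.CF ≤ b.F := by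
  classical
  haveI : Fact (Nat.Prime 2) := ⟨Nat.prime_two⟩
  by_cases hmv : ∃ u : G, u ∈ normalizer (b.F : Set G) ∧ Commute u b.eJ ∧
      (u * b.eT * u⁻¹ = b.eT * b.eX ∨ u * b.eX * u⁻¹ = b.eT * b.eX)
  · obtain ⟨u, hu, huj, hm⟩ := hmv
    exact le_F_of_moved b hσ hU hxj hodd hu huj hm
  obtain ⟨hXσ, hP'J, hP'A, hTXJ, hTneX, hTX⟩ := rels b hσ
  rw [← hXσ] at hct
  obtain ⟨hTm, hAm, hJm⟩ := gens_mem b
  have hXm : b.eX ∈ b.F := b.eX_eq ▸ mul_mem hAm hJm
  have hc2 : c * c = 1 := by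
    have := pow_orderOf_eq_one c
    rwa [hc, pow_two] at this
  have hcinv : c⁻¹ = c := inv_eq_of_mul_eq_one_right hc2
  have hcmul : ∀ s t : G, c * (s * t) * c = (c * s * c) * (c * t * c) := fun s t => by
    rw [show c * s * c * (c * t * c) = c * s * (c * c) * (t * c) by group, hc2, mul_one]; group
  have hcJ' : c * b.eJ * c = b.eJ := by rw [hcj.eq, mul_assoc, hc2, mul_one]
  have hcX : c * b.eX * c = b.eT := by
    rw [← hct, show c * (c * b.eT * c) * c = (c * c) * b.eT * (c * c) by group, hc2, one_mul, mul_one]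
  have hxjA : b.eX * b.eJ = b.eA := by rw [b.eX_eq, mul_assoc, b.eJ_sq, mul_one]
  have hcA : c * b.eA * c = b.eT * b.eJ := by rw [← hxjA, hcmul, hcX, hcJ']
  have hcF : ∀ f ∈ b.F, c * f * c ∈ b.F := by
    have hm : c ∈ normalizer (b.F : Set G) := mem_normalizer_F b (by rw [hcinv, hct]; exact hXm)
      (by rw [hcinv, hcA]; exact mul_mem hTm hJm) (by rw [hcinv, hcJ']; exact hJm)
    intro f hf
    have := Tri.conj_mem_of_mem_normalizer hm hf
    rwa [hcinv] at this
  -- the position of the elements of `N(F) ∩ C(j)`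
  have hTXfix : ∀ u ∈ normalizer (b.F : Set G), Commute u b.eJ →
      u * (b.eT * b.eX) * u⁻¹ = b.eT * b.eX ∧
        ((u * b.eT * u⁻¹ = b.eT ∧ u * b.eX * u⁻¹ = b.eX) ∨
          (u * b.eT * u⁻¹ = b.eX ∧ u * b.eX * u⁻¹ = b.eT)) := by
    intro u hu huj
    push Not at hmv
    obtain ⟨n1, n2⟩ := hmv u hu huj
    have h1 := image_cases b hσ hxj hu (Or.inl rfl)
    have h2 := image_cases b hσ hxj hu (Or.inr rfl)
    have hne : u * b.eT * u⁻¹ ≠ u * b.eX * u⁻¹ := fun h =>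
      hTneX (mul_left_cancel (mul_right_cancel h))
    have hprod : u * (b.eT * b.eX) * u⁻¹ = (u * b.eT * u⁻¹) * (u * b.eX * u⁻¹) := by group
    rcases h1 with e1 | e1 | e1
    · rcases h2 with e2 | e2 | e2
      · exact absurd (e1.trans e2.symm) hne
      · exact ⟨by rw [hprod, e1, e2], Or.inl ⟨e1, e2⟩⟩
      · exact absurd e2 n2
    · rcases h2 with e2 | e2 | e2
      · exact ⟨by rw [hprod, e1, e2, b.comm_eT_eX.eq], Or.inr ⟨e1, e2⟩⟩
      · exact absurd (e1.trans e2.symm) hne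
      · exact absurd e2 n2
    · exact absurd e1 n1
  -- the element `τ a`
  set ta := b.eT * b.eA with hta
  have htaJ : IsConj b.eJ ta := b.isConj_eJ_eA.trans
    (isConj_iff.2 ⟨b.eP', by rw [inv_eq_of_mul_eq_one_right b.eP'_sq, hP'A]⟩)
  have htafix : ∀ u ∈ normalizer (b.F : Set G), Commute u b.eJ → u * ta * u⁻¹ = ta := by
    intro u hu huj
    rw [← hTXJ, show u * (b.eT * b.eX * b.eJ) * u⁻¹ =
      (u * (b.eT * b.eX) * u⁻¹) * (u * b.eJ * u⁻¹) by group, (hTXfix u hu huj).1, huj.eq,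
      mul_inv_cancel_right]
  -- the bad involutions outside `F`
  have hbad' : ∀ g, orderOf g = 2 → Commute g (b.eZ * b.eW⁻¹) → g ≠ b.eJ → b.IsBad g := by
    intro g hg hgc hgj
    have hTinv : b.eT⁻¹ = b.eT := b.eT_inv
    have hw' : b.eT * b.eW⁻¹ * b.eT = b.eW⁻¹ := by
      rw [b.comm_eT_eW.inv_right.eq, mul_assoc, b.eT_sq, mul_one]
    have h1 : Commute (b.eT * g * b.eT⁻¹) (b.eZ * b.eW) := by
      have := hgc.map (MulAut.conj b.eT)
      simp only [map_mul, MulAut.conj_apply, hTinv, b.eT_conj_eZ, hw'] at this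
      have h := this.inv_right
      rw [hTinv]
      rwa [mul_inv_rev, inv_inv, inv_inv, b.comm_eZ_eW.symm.eq] at h
    obtain ⟨-, n1, n2⟩ := hbad _ (by rw [order_conj, hg]) h1 (fun h => hgj (by
      have e : b.eT * b.eJ * b.eT⁻¹ = b.eJ := by rw [b.comm_eT_eJ.eq, mul_inv_cancel_right]
      exact mul_left_cancel (mul_right_cancel (h.trans e.symm))))
    have hconj : IsConj g (b.eT * g * b.eT⁻¹) := isConj_iff.2 ⟨b.eT, rfl⟩
    exact ⟨hg, fun h => n1 (hconj.symm.trans h), fun h => n2 (hconj.symm.trans h)⟩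
  have hcw : c * b.eW * c = b.eZ := by
    rw [← hcz, show c * (c * b.eZ * c) * c = (c * c) * b.eZ * (c * c) by group, hc2, one_mul, mul_one]
  have hcnF : c ∉ b.F := by
    intro h
    obtain ⟨t, ht, s, hs, r, hr, e⟩ := F_cases b h
    have conjz : ∀ g : G, g * b.eZ * g⁻¹ ∈ zpowers b.eZ → ∀ g' : G,
        g' * b.eZ * g'⁻¹ ∈ zpowers b.eZ → g * g' * b.eZ * (g * g')⁻¹ ∈ zpowers b.eZ := by
      intro g hg g' hg'
      obtain ⟨k, hk⟩ := mem_zpowers_iff.1 hg'
      rw [show g * g' * b.eZ * (g * g')⁻¹ = g * (g' * b.eZ * g'⁻¹) * g⁻¹ by group, ← hk, ← conj_zpow]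
      exact zpow_mem hg k
    have hm : c * b.eZ * c⁻¹ ∈ zpowers b.eZ := by
      rw [e]
      refine conjz _ ?_ _ (conjz _ ?_ _ ?_)
      · rcases ht with rfl | rfl
        · simp
        · rw [b.eT_inv, b.eT_conj_eZ]; exact inv_mem (mem_zpowers _)
      · rcases hs with rfl | rfl
        · simp
        · rw [← (b.ψc_comm a5).eq, mul_inv_cancel_right]; exact mem_zpowers _
      · rcases hr with rfl | rfl
        · simp
        · rw [← (b.ψc_comm r5).eq, mul_inv_cancel_right]; exact mem_zpowers _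
    rw [hcinv, hcz] at hm
    rcases Tri.zpowers_three (Tri.z_cube b) hm with h | h | h
    · exact Tri.w_ne b h
    · exact Tri.z_not_mem b ⟨c5, h⟩
    · exact Tri.z_not_mem b ⟨c5⁻¹, (map_inv b.φ c5).trans (inv_eq_iff_eq_inv.2 h)⟩
  have hinF : ∀ s : G, (s ∈ b.F ∨ s * c ∈ b.F) → s * s = 1 → IsConj b.eJ s → s ∈ b.F := by
    intro s hs hs2 hsj
    refine hs.elim id fun hf => ?_
    exfalso
    set f := s * c with hfdef
    have hsf : s = f * c := by rw [hfdef, mul_assoc, hc2, mul_one]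
    have hfix : c * f * c = f := by
      have h : f * (c * f * c) = 1 := by
        rw [show f * (c * f * c) = (f * c) * (f * c) by group, ← hsf, hs2]
      rw [eq_inv_of_mul_eq_one_right h]
      exact inv_eq_of_mul_eq_one_right (F_sq b hf)
    have hne1 : s ≠ 1 := fun h => hcnF (by
      rw [h, one_mul] at hfdef
      exact hfdef ▸ hf)
    have hord : orderOf s = 2 := orderOf_eq_prime (by rw [pow_two, hs2]) hne1
    have hnj : s ≠ b.eJ := fun h => hcnF (by
      have := mul_mem hJm hf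
      rwa [hfdef, h, ← mul_assoc, b.eJ_sq, one_mul] at this)
    suffices hb : b.IsBad s from hb.2.1 hsj.symm
    have hcy : Commute c (b.eZ * b.eW) := by
      refine mul_inv_eq_iff_eq_mul.1 ?_
      rw [hcinv, hcmul, hcz, hcw, b.comm_eZ_eW.eq]
    have hjy : Commute b.eJ (b.eZ * b.eW) :=
      (b.ψc_comm r5).symm.mul_right (show Commute (b.φ r5) (b.φ c5) by
        rw [commute_iff_eq, ← map_mul, ← map_mul, Tri.c5_facts.2.2.1])
    have haw : b.eA * b.eW * b.eA = b.eW⁻¹ := by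
      rw [← map_mul, ← map_mul, ← map_inv, Tri.c5_facts.2.2.2.1]
    have htaz : ta * b.eZ * ta⁻¹ = b.eZ⁻¹ := by
      rw [hta, show b.eT * b.eA * b.eZ * (b.eT * b.eA)⁻¹ =
        b.eT * (b.eA * b.eZ * b.eA⁻¹) * b.eT⁻¹ by group, ← (b.ψc_comm a5).eq, mul_inv_cancel_right,
        b.eT_inv, b.eT_conj_eZ]
    have htaw : ta * b.eW * ta⁻¹ = b.eW⁻¹ := by
      rw [hta, show b.eT * b.eA * b.eW * (b.eT * b.eA)⁻¹ =
        b.eT * (b.eA * b.eW * b.eA⁻¹) * b.eT⁻¹ by group,
        inv_eq_of_mul_eq_one_right b.eA_sq, haw, b.comm_eT_eW.inv_right.eq, mul_inv_cancel_right]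
    have htac : Commute (ta * c) (b.eZ * b.eW⁻¹) := by
      refine mul_inv_eq_iff_eq_mul.1 ?_
      have e1 : c * (b.eZ * b.eW⁻¹) * c⁻¹ = b.eW * b.eZ⁻¹ := by
        rw [hcinv, hcmul, hcz,
          show c * b.eW⁻¹ * c = b.eZ⁻¹ by rw [← hcw, mul_inv_rev, mul_inv_rev, hcinv, mul_assoc]]
      calc ta * c * (b.eZ * b.eW⁻¹) * (ta * c)⁻¹ = ta * (c * (b.eZ * b.eW⁻¹) * c⁻¹) * ta⁻¹ := by group
        _ = (ta * b.eW * ta⁻¹) * (ta * b.eZ * ta⁻¹)⁻¹ := by rw [e1]; group
        _ = b.eW⁻¹ * b.eZ := by rw [htaw, htaz, inv_inv]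
        _ = b.eZ * b.eW⁻¹ := b.comm_eZ_eW.symm.inv_left.eq
    have hjy' : Commute b.eJ (b.eZ * b.eW⁻¹) :=
      (b.ψc_comm r5).symm.mul_right (Commute.inv_right (show Commute (b.φ r5) (b.φ c5) by
        rw [commute_iff_eq, ← map_mul, ← map_mul, Tri.c5_facts.2.2.1]))
    -- the fixed points of `c` in `F`
    obtain ⟨t, ht, a, ha, r, hr, e⟩ := F_cases b hf
    have hr' : Commute r (b.eZ * b.eW) ∧ Commute r (b.eZ * b.eW⁻¹) ∧ c * r * c = r := by
      rcases hr with rfl | rfl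
      · exact ⟨Commute.one_left _, Commute.one_left _, by rw [mul_one, hc2]⟩
      · exact ⟨hjy, hjy', hcJ'⟩
    rw [e, hcmul, hcmul, hr'.2.2, ← mul_assoc, ← mul_assoc t] at hfix
    have hfix' : c * t * c * (c * a * c) = t * a := mul_right_cancel hfix
    rcases ht with rfl | rfl <;> rcases ha with rfl | rfl
    · refine hbad s hord ?_ hnj
      rw [hsf, e, one_mul, one_mul]
      exact hr'.1.mul_left hcy
    · rw [mul_one, hc2, one_mul, one_mul, hcA] at hfix'
      refine absurd ?_ hTneX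
      have := congrArg (· * b.eJ) hfix'
      simp only [mul_assoc, b.eJ_sq, mul_one] at this
      rw [this, b.eX_eq]
    · rw [mul_one c, hc2, mul_one, mul_one, hct] at hfix'
      exact absurd hfix'.symm hTneX
    · refine hbad' s hord ?_ hnj
      have hrta : Commute (b.eT * b.eA) r := by
        rcases hr with rfl | rfl
        exacts [Commute.one_right _, b.comm_eT_eJ.mul_left b.comm_eA_eJ]
      rw [hsf, e, ← mul_assoc b.eT, hrta.eq, mul_assoc r, ← hta]
      exact hr'.2.1.mul_left htac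
  -- weak closure
  have hweak : ∀ u : G, Commute u b.eJ → (∀ f ∈ b.F, u * f * u⁻¹ ∈ b.F ∨ u * f * u⁻¹ * c ∈ b.F) →
      u ∈ normalizer (b.F : Set G) := by
    intro u huj hu
    have hJ' : u * b.eJ * u⁻¹ = b.eJ := by rw [huj.eq, mul_inv_cancel_right]
    have key : ∀ f ∈ b.F, IsConj b.eJ f → u * f * u⁻¹ ∈ b.F := fun f hf hj =>
      hinF _ (hu f hf) (by rw [show u * f * u⁻¹ * (u * f * u⁻¹) = u * (f * f) * u⁻¹ by group,
        F_sq b hf, mul_one, mul_inv_cancel]) (hj.trans (isConj_iff.2 ⟨u, rfl⟩))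
    refine mem_normalizer_F b ?_ (key _ hAm b.isConj_eJ_eA) (by rw [hJ']; exact hJm)
    have h1 := key _ (mul_mem hTm hJm)
      (isConj_iff.2 ⟨b.eP', by rw [inv_eq_of_mul_eq_one_right b.eP'_sq, hP'J]⟩)
    rw [show u * (b.eT * b.eJ) * u⁻¹ = (u * b.eT * u⁻¹) * (u * b.eJ * u⁻¹) by group, hJ'] at h1
    have := mul_mem h1 hJm
    rwa [mul_assoc, b.eJ_sq, mul_one] at this
  -- the Sylow two-subgroup of `C(j)`
  set X := centralizer ({b.eJ} : Set G) with hX
  set P := P0 b hc2 hcF with hP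
  have hFX : b.F ≤ X := fun f hf =>
    mem_centralizer_singleton_iff.2 ((mem_CF b).1 (F_le_CF b hf)).2.2.eq
  have hPX : P ≤ X := by
    rintro g (hg | hg)
    · exact hFX hg
    · have := mul_mem (hFX hg) (mem_centralizer_singleton_iff.2 hcj.eq : c ∈ X)
      rwa [mul_assoc, hc2, mul_one] at this
  have hP2 : IsPGroup 2 P := fun g => ⟨2, by
    refine Subtype.ext ?_
    rw [SubmonoidClass.coe_pow, show 2 ^ 2 = 2 * 2 from rfl, pow_mul, pow_two (g : G), pow_two]
    show (g : G) * g * ((g : G) * g) = 1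
    rcases g.2 with hg | hg
    · rw [F_sq b hg, one_mul]
    · refine F_sq b ?_
      have := mul_mem hg (hcF _ hg)
      rwa [show (g : G) * c * (c * ((g : G) * c) * c) = (g : G) * (c * c) * g * (c * c) by group, hc2,
        mul_one, mul_one] at this⟩
  have hPX2 : IsPGroup 2 (P.subgroupOf X) := hP2.comap_subtype
  obtain ⟨Q, hPQ⟩ := hPX2.exists_le_sylow
  have hQ : ∀ g : X, g ∈ (Q : Subgroup X) → (g : G) ∈ P := by
    by_contra hne
    push Not at hne
    obtain ⟨g1, hg1, hg1'⟩ := hne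
    haveI := Q.isPGroup'.isNilpotent
    have hlt : (P.subgroupOf X).subgroupOf (Q : Subgroup X) < ⊤ := lt_top_iff_ne_top.2 fun h =>
      hg1' (mem_subgroupOf.1 (subgroupOf_eq_top.1 h hg1))
    obtain ⟨u, hu, huP⟩ := SetLike.exists_of_lt (Group.normalizerCondition_of_isNilpotent _ hlt)
    refine huP ?_
    show ((u : X) : G) ∈ P
    set v := ((u : X) : G) with hv
    have hvj : Commute v b.eJ := mem_centralizer_singleton_iff.1 (u : X).2
    have hvn : v ∈ normalizer (b.F : Set G) := by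
      refine hweak v hvj fun f hf => ?_
      have h := Tri.conj_mem_of_mem_normalizer hu
        (x := (⟨⟨f, hFX hf⟩, hPQ (Or.inl hf)⟩ : (Q : Subgroup X))) (Or.inl hf)
      exact h
    -- the part centralising `F`
    obtain ⟨w, hwQ, hwC, hwP⟩ : ∃ w : X, w ∈ (Q : Subgroup X) ∧ (w : G) ∈ b.CF ∧
        ((w : G) ∈ P → v ∈ P) := by
      have hA' : ∀ w : G, Commute w b.eJ → Commute w b.eT → Commute w b.eX → w ∈ b.CF := fun w h1 h2 h3 =>
        (mem_CF b).2 ⟨h2, hxjA ▸ h3.mul_right h1, h1⟩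
      rcases (hTXfix v hvn hvj).2 with ⟨e1, e2⟩ | ⟨e1, e2⟩
      · exact ⟨(u : X), u.2, hA' v hvj (mul_inv_eq_iff_eq_mul.1 e1) (mul_inv_eq_iff_eq_mul.1 e2), id⟩
      · have hcP : c ∈ P := Or.inr (by rw [hc2]; exact one_mem _)
        refine ⟨⟨c, hPX hcP⟩ * (u : X), mul_mem (hPQ (mem_subgroupOf.2 hcP)) u.2, ?_, fun h => ?_⟩
        · refine hA' _ (hcj.mul_left hvj) ?_ ?_
          · refine mul_inv_eq_iff_eq_mul.1 ?_
            show c * v * b.eT * (c * v)⁻¹ = b.eT
            rw [show c * v * b.eT * (c * v)⁻¹ = c * (v * b.eT * v⁻¹) * c⁻¹ by group, e1, hcinv, hcX]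
          · refine mul_inv_eq_iff_eq_mul.1 ?_
            show c * v * b.eX * (c * v)⁻¹ = b.eX
            rw [show c * v * b.eX * (c * v)⁻¹ = c * (v * b.eX * v⁻¹) * c⁻¹ by group, e2, hcinv, hct]
        · have := mul_mem hcP h
          rwa [Subgroup.coe_mul, ← mul_assoc, hc2, one_mul] at this
    refine hwP (Or.inl ?_)
    obtain ⟨f, hf, ho⟩ := hodd _ hwC
    obtain ⟨k, hk⟩ := Q.isPGroup' ⟨⟨f, hFX hf⟩ * w, mul_mem (hPQ (Or.inl hf)) hwQ⟩
    have hk' : (f * (w : G)) ^ 2 ^ k = 1 :=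
      congrArg (fun z : (Q : Subgroup X) => ((z : X) : G)) hk
    have h1 : f * (w : G) = 1 := orderOf_eq_one_iff.1 (Nat.eq_one_of_dvd_coprimes
      (Nat.Coprime.pow_right k (Nat.coprime_two_right.2 ho)) dvd_rfl (orderOf_dvd_of_pow_eq_one hk'))
    rw [show (w : G) = f⁻¹ from eq_inv_of_mul_eq_one_right h1]
    exact inv_mem hf
  -- `τ a` is isolated
  have htaF : ta ∈ b.F := mul_mem hTm hAm
  set t' : X := ⟨ta, hFX htaF⟩ with ht'
  have ht'ord : orderOf t' = 2 := by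
    rw [ht', Subgroup.orderOf_mk]
    obtain ⟨k, hk⟩ := isConj_iff.1 htaJ
    rw [← hk, order_conj, b.order_eJ]
  have hcta : c * ta * c = ta := by
    rw [hta, hcmul, hct, hcA, ← mul_assoc, ← b.comm_eT_eX.eq]
    exact hTXJ
  have hiso : ∀ g : X, g * t' * g⁻¹ ∈ Q → g * t' * g⁻¹ = t' := by
    intro g hg
    set s : G := (g : G) * ta * (g : G)⁻¹ with hs
    have hsP : s ∈ P := hQ _ hg
    have hsF : s ∈ b.F := hinF s hsP (by
      rw [hs, show (g : G) * ta * (g : G)⁻¹ * ((g : G) * ta * (g : G)⁻¹) = (g : G) * (ta * ta) * (g : G)⁻¹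
        by group, F_sq b htaF, mul_one, mul_inv_cancel]) (htaJ.trans (isConj_iff.2 ⟨(g : G), rfl⟩))
    set H := centralizer ({t'} : Set X) with hH
    have hQH : (Q : Subgroup X) ≤ H := by
      intro q hq
      refine mem_centralizer_singleton_iff.2 (Subtype.ext ?_)
      show (q : G) * ta = ta * q
      rcases hQ q hq with h | h
      · exact (comm_F b (F_le_CF b h) htaF).eq
      · have hcc : Commute c ta := mul_inv_eq_iff_eq_mul.1 (hcinv.symm ▸ hcta)
        have := (comm_F b (F_le_CF b h) htaF).mul_left hcc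
        rwa [mul_assoc, hc2, mul_one] at this
    set E := ((b.F.subgroupOf X).map (MulAut.conj g⁻¹).toMonoidHom).subgroupOf H with hE
    have hE2 : IsPGroup 2 E := by
      refine IsPGroup.comap_subtype (IsPGroup.map ?_ _)
      exact fun x => ⟨1, Subtype.ext (Subtype.ext (by
        show ((x : X) : G) ^ 2 = 1
        rw [pow_two]; exact F_sq b x.2))⟩
    obtain ⟨R, hR⟩ := hE2.exists_le_sylow
    obtain ⟨m, hm⟩ := MulAction.exists_smul_eq H R (Q.subtype hQH)
    have hk : ∀ f ∈ b.F, ((m : X) : G) * (g : G)⁻¹ * f * (((m : X) : G) * (g : G)⁻¹)⁻¹ ∈ P := by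
      intro f hf
      have hfH : g⁻¹ * ⟨f, hFX hf⟩ * g ∈ H := by
        refine mem_centralizer_singleton_iff.2 (Subtype.ext ?_)
        show (g : G)⁻¹ * f * g * ta = ta * ((g : G)⁻¹ * f * g)
        have h := (comm_F b (F_le_CF b hf) hsF).eq
        calc (g : G)⁻¹ * f * g * ta = (g : G)⁻¹ * (f * s) * g := by rw [hs]; group
          _ = (g : G)⁻¹ * (s * f) * g := by rw [h]
          _ = _ := by rw [hs]; group
      have hfE : (⟨_, hfH⟩ : H) ∈ E := by
        refine mem_subgroupOf.2 ⟨⟨f, hFX hf⟩, hf, ?_⟩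
        simp
      have hmem : m * ⟨_, hfH⟩ * m⁻¹ ∈ ((Q.subtype hQH : Sylow 2 H) : Subgroup H) := by
        rw [← hm, Sylow.coe_subgroup_smul]
        exact ⟨_, hR hfE, rfl⟩
      have h3 := hQ _ (mem_subgroupOf.1 hmem)
      simp only [Subgroup.coe_mul, Subgroup.coe_inv] at h3
      convert h3 using 1
      group
    set k : G := ((m : X) : G) * (g : G)⁻¹ with hkdef
    have hkj : Commute k b.eJ := mem_centralizer_singleton_iff.1 ((m : X) * g⁻¹).2
    have hkfix := htafix k (hweak k hkj hk) hkj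
    have hms : k * s * k⁻¹ = ta := by
      have hmc : Commute ((m : X) : G) ta :=
        congrArg Subtype.val (mem_centralizer_singleton_iff.1 m.2)
      calc k * s * k⁻¹ = ((m : X) : G) * ta * ((m : X) : G)⁻¹ := by rw [hkdef, hs]; group
        _ = ta := by rw [hmc.eq, mul_inv_cancel_right]
    refine Subtype.ext ?_
    show s = ta
    exact mul_left_cancel (mul_right_cancel (hms.trans hkfix.symm))
  obtain ⟨N, hN, hNodd, hcomm⟩ := CfsgLib.Invol.zStar_sylow Q t' ht'ord hiso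
  refine le_F_of_core b hc2 hcz hcj hodd X rfl N hN hNodd (sup_le ?_ ?_)
  all_goals rw [zpowers_le]
  · have hzX : b.ψ c5 ∈ X := mem_centralizer_singleton_iff.2 (b.ψc_comm r5).eq
    refine ⟨_, hcomm ⟨b.ψ c5, hzX⟩, ?_⟩
    show ta * b.eZ * ta⁻¹ * b.eZ⁻¹ = b.eZ
    rw [hta, show b.eT * b.eA * b.eZ * (b.eT * b.eA)⁻¹ =
      b.eT * (b.eA * b.eZ * b.eA⁻¹) * b.eT⁻¹ by group, ← (b.ψc_comm a5).eq, mul_inv_cancel_right,
      b.eT_inv, b.eT_conj_eZ]
    have h3 := Tri.z_cube b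
    rw [← mul_inv_rev]
    exact inv_eq_of_mul_eq_one_right h3
  · have hwX : b.φ c5 ∈ X := mem_centralizer_singleton_iff.2 (by
      rw [← map_mul, ← map_mul, Tri.c5_facts.2.2.1])
    refine ⟨_, hcomm ⟨b.φ c5, hwX⟩, ?_⟩
    show ta * b.eW * ta⁻¹ * b.eW⁻¹ = b.eW
    rw [hta, show b.eT * b.eA * b.eW * (b.eT * b.eA)⁻¹ =
      b.eT * (b.eA * b.eW * b.eA⁻¹) * b.eT⁻¹ by group, inv_eq_of_mul_eq_one_right b.eA_sq,
      show b.eA * b.eW * b.eA = b.eW⁻¹ by rw [← map_mul, ← map_mul, ← map_inv, Tri.c5_facts.2.2.2.1],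
      b.comm_eT_eW.inv_right.eq, mul_inv_cancel_right, ← mul_inv_rev]
    exact inv_eq_of_mul_eq_one_right (Tri.w_cube b)

end BOdd

/-- In the trivial configuration with `σ = b5` the centraliser of the elementary subgroup of order
eight is this subgroup, if it has an odd normal complement. -/
theorem Base.cf_le_F {G : Type u} [Group G] [Finite G] (b : Base G) (hσ : b.σ = b5) (hU : b.Trivial)
    (h : ∀ g ∈ b.CF, ∃ f ∈ b.F, Odd (orderOf (f * g))) : b.CF ≤ b.F := by
  obtain ⟨c, hc, hcz, hcj, hct, -⟩ := b.exists_swap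
  exact BOdd.main b hσ hU b.not_isConj_X_J b.bad_of_comm_y hc hcz hcj hct h

end CfsgLib.SymEightThree
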