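import Cfsg.Agent.Lib.SymEightThree.Base

/-!
The configuration in which the centraliser of a four-group of one component meets the other
component in nothing: notation for the elements used to refute it.
-/

set_option autoImplicit false

namespace CfsgLib.SymEightThree

open Equiv

/-- `(0 3)(1 4)` -/
def p5 : Perm (Fin 5) := swap 0 3 * swap 1 4

namespace Base

variable {G : Type*} [Group G] (b : Base G)

/-- `z` -/
abbrev eZ : G := b.ψ c5
/-- `w` -/
abbrev eW : G := b.φ c5
/-- the involution centralising the Sylow three-subgroup -/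
abbrev eJ : G := b.φ r5
/-- inverts `z` and centralises the range of `φ` -/
abbrev eT : G := b.ψ b.σ
/-- `φ (0 1)` -/
abbrev eA : G := b.φ a5
/-- `φ (0 1)(3 4)` -/
abbrev eX : G := b.φ b5
/-- `φ (0 3)(1 4)` -/
abbrev eP : G := b.φ p5
/-- `ψ (0 3)(1 4)` -/
abbrev eP' : G := b.ψ p5

/-- The centraliser of the four-group on the first four points is as small as possible. -/
def Trivial : Prop :=
  Subgroup.centralizer (b.φ '' fourSet 4) ≤
    Subgroup.closure (b.φ '' fourSet 4 ∪ {b.ψ c5, b.ψ b.σ})

/-- The elementary subgroup of order eight. -/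
def F : Subgroup G := Subgroup.closure {b.eT, b.eA, b.eJ}

/-- Its centraliser. -/
def CF : Subgroup G := Subgroup.centralizer {b.eT, b.eA, b.eJ}

/-- An involution conjugate neither to `eJ` nor to `eX`. -/
def IsBad (g : G) : Prop := orderOf g = 2 ∧ ¬ IsConj g b.eJ ∧ ¬ IsConj g b.eX

end Base

end CfsgLib.SymEightThree
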