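import Cfsg.Agent.Lib.SymEightThree.Trivial.CaseACore
import Cfsg.Agent.Lib.SymEightThree.Trivial.CaseB
import Cfsg.Agent.Lib.SymEightThree.Trivial.CaseBOdd
import Cfsg.Agent.Lib.SymEightThree.Trivial.CF
import Cfsg.Agent.Lib.SymEightThree.Trivial.Facts
import Cfsg.Agent.Lib.SymEightThree.Tri

/-!
The configuration with the smallest centraliser of the four-group does not occur.
-/

set_option autoImplicit false

namespace CfsgLib.SymEightThree

variable {G : Type*} [Group G] [Finite G]

theorem Base.false_of_trivial (b : Base G) (hU : b.Trivial) : False := by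
  rcases b.σ_cases with hσ | hσ
  · exact b.false_of_trivial_a5_of_facts hσ (b.fixed_CF hU) b.not_isConj_X_J b.bad_of_comm_y
      b.bad_of_comm_y' b.exists_swap (b.cf_cases hU)
  · refine b.false_of_caseBData ⟨hσ, b.cent_x_p hU, b.fixed_CF hU, ?_, ?_⟩
    · exact (b.cf_cases hU).imp_left (b.cf_le_F hσ hU)
    · obtain ⟨c, hc, hz, hj, ht, -⟩ := b.exists_swap
      exact ⟨c, hc, hz, hj, ht⟩

theorem Base.dichotomy (b : Base G) : (∃ b' : Base G, b'.IsSym) ∨ b.IsExc :=
  b.tri.imp_right (Or.rec id fun h => (b.false_of_trivial h).elim)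

end CfsgLib.SymEightThree
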